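import Mathlib

/-!
The arithmetic of the order formulas for a dihedral Sylow 2-subgroup of order eight.

`d = δ x`, `a = δ₂ x₂`, `b = δ₃ x₃` are the signed degrees, `r` the number of elements of `O(C(t))`
inverted by a reflection and `24 |O(C(t))| I` the order of the group.
-/

set_option autoImplicit false

namespace CfsgLib.BG

theorem one_div_ge_of_le_neg {a : ℤ} {k : ℕ} (hk : 0 < k) (ha : a ≤ -(k : ℤ)) :
    -(1 / (k : ℚ)) ≤ 1 / (a : ℚ) := by
  have h : (a : ℚ) ≤ -(k : ℚ) := by exact_mod_cast ha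
  have hk' : (0 : ℚ) < k := by exact_mod_cast hk
  rw [← sub_nonneg]
  have e : 1 / (a : ℚ) - -(1 / (k : ℚ)) = (k + a) / (a * k) := by
    field_simp [ne_of_lt (lt_of_le_of_lt h (neg_neg_of_pos hk'))]
    ring
  rw [e]
  exact div_nonneg_of_nonpos (by linarith) (mul_nonpos_of_nonpos_of_nonneg (by linarith) hk'.le)

/-- The possible configurations. -/
theorem arith {r I : ℕ} {d a b : ℤ} (hr : Odd r) (hI : Odd I) (hd : (8 : ℤ) ∣ d - 1) (hd1 : d ≠ 1)
    (ha : (8 : ℤ) ∣ a - 3) (hb : (8 : ℤ) ∣ b - 3) (hab : a + b + d + 1 = 0)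
    (h1 : 3 * (I : ℤ) * (d - 1) ^ 2 = 8 * d * (d + 1) * (1 + (r : ℤ)) ^ 2)
    (h2 : 3 * (I : ℤ) * (a * b * d + b * d + a * d + a * b) = 32 * (r : ℤ) * (a * b * d)) :
    d = -7 ∨ (d = 9 ∧ r = 1 ∧ I = 15) ∨ (d = -15 ∧ r = 3 ∧ I = 35) := by
  obtain ⟨m, hm⟩ := hd
  obtain ⟨j, hj⟩ := hr
  obtain ⟨i, hi⟩ := hI
  obtain rfl : d = 8 * m + 1 := by linarith
  have hm0 : m ≠ 0 := fun e => hd1 (by simp [e])
  obtain ⟨q, hq⟩ : ∃ q : ℤ, q = (j : ℤ) + 1 := ⟨_, rfl⟩
  have hr' : (r : ℤ) = 2 * q - 1 := by rw [hq, hj]; push_cast; ring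
  have hq1 : 1 ≤ q := by omega
  rw [hr'] at h1 h2
  have k1 : 3 * (I : ℤ) * m ^ 2 = (8 * m + 1) * (4 * m + 1) * q ^ 2 := by nlinarith
  have hdvd : m ∣ q ^ 2 := ⟨3 * (I : ℤ) * m - (32 * m + 12) * q ^ 2, by linear_combination -k1⟩
  have hI1 : (1 : ℤ) ≤ I := by omega
  have a0 : a ≠ 0 := by omega
  have b0 : b ≠ 0 := by omega
  have hkey : (3 * (I : ℚ)) * (1 + 1 / ((8 * m + 1 : ℤ) : ℚ) + 1 / (a : ℚ) + 1 / (b : ℚ)) =
      32 * (r : ℚ) := by
    have hd0 : ((8 * m + 1 : ℤ) : ℚ) ≠ 0 := by exact_mod_cast (show (8 * m + 1 : ℤ) ≠ 0 by omega)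
    have a0' : (a : ℚ) ≠ 0 := by exact_mod_cast a0
    have b0' : (b : ℚ) ≠ 0 := by exact_mod_cast b0
    have h2' := congrArg (fun z : ℤ => (z : ℚ)) h2
    rw [← hr'] at h2'
    simp only [Int.cast_mul, Int.cast_add, Int.cast_ofNat, Int.cast_natCast] at h2'
    field_simp
    push_cast at h2' ⊢
    linear_combination h2'
  have hI0 : (0 : ℚ) < 3 * (I : ℚ) := by
    have : (1 : ℚ) ≤ I := by exact_mod_cast hI1
    linarith
  rcases lt_or_gt_of_ne hm0 with hneg | hpos
  · -- `δ = -1`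
    have hd7 : -(1 / ((7 : ℕ) : ℚ)) ≤ 1 / ((8 * m + 1 : ℤ) : ℚ) := one_div_ge_of_le_neg (by norm_num) (by omega)
    have key : ∀ u w : ℤ, 0 < u → (8 : ℤ) ∣ w - 3 →
        (0 : ℚ) < 1 / (u : ℚ) ∧ -(1 / ((5 : ℕ) : ℚ)) ≤ 1 / (w : ℚ) := by
      intro u w hu hw
      refine ⟨one_div_pos.2 (by exact_mod_cast hu), ?_⟩
      rcases le_or_gt 0 w with h | h
      · exact le_trans (by norm_num) (one_div_nonneg.2 (by exact_mod_cast h : (0 : ℚ) ≤ w))
      · exact one_div_ge_of_le_neg (by norm_num) (by omega)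
    have hlow : (23 / 35 : ℚ) < 1 + 1 / ((8 * m + 1 : ℤ) : ℚ) + 1 / (a : ℚ) + 1 / (b : ℚ) := by
      norm_num at hd7
      rcases lt_or_gt_of_ne a0 with h | h
      · obtain ⟨e1, e2⟩ := key b a (by omega) ha
        norm_num at e2
        push_cast at hd7 e1 e2 ⊢
        simp only [one_div] at hd7 e1 e2 ⊢
        linarith
      · obtain ⟨e1, e2⟩ := key a b h hb
        norm_num at e2
        push_cast at hd7 e1 e2 ⊢
        simp only [one_div] at hd7 e1 e2 ⊢
        linarith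
    have hlt : 69 * (I : ℤ) < 1120 * (r : ℤ) := by
      have := mul_lt_mul_of_pos_left hlow hI0
      rw [hkey] at this
      have h' : (69 : ℚ) * I < 1120 * r := by linarith
      exact_mod_cast h'
    rw [hr'] at hlt
    have hm2 : 0 < m ^ 2 := by nlinarith
    have hq4 : q ≤ 4 := by
      by_contra hc
      have hbig : 21 * m ^ 2 ≤ (8 * m + 1) * (4 * m + 1) := by nlinarith
      have h3 := mul_lt_mul_of_pos_right hlt hm2
      have h4 : 23 * (21 * m ^ 2) * q ^ 2 ≤ 23 * ((8 * m + 1) * (4 * m + 1)) * q ^ 2 := by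
        nlinarith [sq_nonneg q]
      have h5 : 483 * q ^ 2 * m ^ 2 < 1120 * (2 * q - 1) * m ^ 2 := by nlinarith
      have h6 := lt_of_mul_lt_mul_right h5 hm2.le
      nlinarith
    have hm16 : -16 ≤ m := by
      have := Int.le_of_dvd (by nlinarith) (neg_dvd.2 hdvd)
      nlinarith
    interval_cases q <;> interval_cases m <;> norm_num at k1 hlt ⊢ <;> omega
  · -- `δ = 1`
    have hd9 : (0 : ℚ) < 1 / ((8 * m + 1 : ℤ) : ℚ) :=
      one_div_pos.2 (by exact_mod_cast (show (0 : ℤ) < 8 * m + 1 by omega))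
    have hmix : ∀ u w : ℤ, 0 < u → w < 0 → u + w < 0 → (0 : ℚ) < 1 / (u : ℚ) + 1 / (w : ℚ) := by
      intro u w hu hw hs
      have hu' : (0 : ℚ) < u := by exact_mod_cast hu
      have hw' : (w : ℚ) < 0 := by exact_mod_cast hw
      rw [div_add_div _ _ hu'.ne' hw'.ne, one_mul, mul_one]
      exact div_pos_of_neg_of_neg (by exact_mod_cast (show w + u < 0 by omega)) (mul_neg_of_pos_of_neg hu' hw')
    have hneg2 : (a < 0 ∧ b < 0) ∨ 3 * (I : ℤ) < 32 * (r : ℤ) := by
      have go : (0 : ℚ) < 1 / (a : ℚ) + 1 / (b : ℚ) → 3 * (I : ℤ) < 32 * (r : ℤ) := fun h => by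
        have : 3 * (I : ℚ) < 32 * r := by
          rw [← hkey]
          exact lt_mul_of_one_lt_right hI0 (by linarith)
        exact_mod_cast this
      rcases lt_or_gt_of_ne a0 with h | h
      · rcases lt_or_gt_of_ne b0 with h' | h'
        · exact Or.inl ⟨h, h'⟩
        · exact Or.inr (go (by rw [add_comm]; exact hmix b a h' h (by omega)))
      · exact Or.inr (go (hmix a b h (by omega) (by omega)))
    have hlt : 9 * (I : ℤ) < 160 * (r : ℤ) := by
      rcases hneg2 with ⟨a1, b1⟩ | h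
      · have e1 := one_div_ge_of_le_neg (k := 5) (by norm_num) (show a ≤ -((5 : ℕ) : ℤ) by omega)
        have e2 := one_div_ge_of_le_neg (k := 5) (by norm_num) (show b ≤ -((5 : ℕ) : ℤ) by omega)
        norm_num at e1 e2
        have hlow : (3 / 5 : ℚ) < 1 + 1 / ((8 * m + 1 : ℤ) : ℚ) + 1 / (a : ℚ) + 1 / (b : ℚ) := by
          simp only [one_div] at *
          linarith
        have := mul_lt_mul_of_pos_left hlow hI0
        rw [hkey] at this
        have h' : (9 : ℚ) * I < 160 * r := by linarith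
        exact_mod_cast h'
      · omega
    rw [hr'] at hlt hneg2
    have hm2 : 0 < m ^ 2 := by nlinarith
    have hq3 : q ≤ 3 := by
      by_contra hc
      have hbig : 32 * m ^ 2 ≤ (8 * m + 1) * (4 * m + 1) := by nlinarith
      have h3 := mul_lt_mul_of_pos_right hlt hm2
      have h5 : 96 * q ^ 2 * m ^ 2 < 160 * (2 * q - 1) * m ^ 2 := by nlinarith [sq_nonneg q]
      have h6 := lt_of_mul_lt_mul_right h5 hm2.le
      nlinarith
    have hm9 : m ≤ 9 := by
      have := Int.le_of_dvd (by nlinarith) hdvd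
      nlinarith
    by_cases hs : m = 2 ∧ q = 2
    · obtain ⟨rfl, rfl⟩ := hs
      obtain ⟨a1, b1⟩ := hneg2.resolve_right (by norm_num at k1 ⊢; omega)
      have hIv : (I : ℤ) = 51 := by norm_num at k1; omega
      rw [hIv] at h2
      obtain rfl : b = -18 - a := by omega
      have ha1 : -18 < a := by omega
      have ha2 : a ≤ -1 := by omega
      interval_cases a <;> omega
    interval_cases q <;> interval_cases m <;> first | omega | (norm_num at k1 ⊢ <;> omega)

end CfsgLib.BG
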