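import Cfsg.Agent.Lib.BG.Dihedral
import Cfsg.Agent.Lib.BenderMax.LeadsTo

/-!
The maximal subgroups of the Bender–Glauberman theorem.

* `cj g A`: the conjugate of a subgroup.
* `Bad t N`: a maximal subgroup containing `C(t)` with `E(N) = O₂(N) = 1`.
* `exists_bad`, `bad_of_moved`: an odd subgroup normalized and moved yields such subgroups.
* `not_mem_layer`, `not_mem_two`: an involution moving an odd normalized subgroup lies neither in
  `E(Y)` nor in `O₂(Y)`.
-/

set_option autoImplicit false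
set_option linter.unusedSectionVars false

namespace CfsgLib.BG

open Cfsg CfsgLib.GW CfsgLib.DihedralFusion CfsgLib.BenderMax

universe u

variable {G : Type u} [Group G] [Finite G]

/-! ### Conjugates -/

/-- The conjugate `g A g⁻¹`. -/
def cj (g : G) (A : Subgroup G) : Subgroup G := A.map (MulAut.conj g).toMonoidHom

theorem mem_cj {g : G} {A : Subgroup G} {x : G} : x ∈ cj g A ↔ g⁻¹ * x * g ∈ A := by
  rw [cj, Subgroup.mem_map_equiv, MulAut.conj_symm_apply]

theorem conj_mem_cj {g : G} {A : Subgroup G} {x : G} (hx : x ∈ A) : g * x * g⁻¹ ∈ cj g A := ⟨x, hx, rfl⟩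

theorem cj_cj (g h : G) (A : Subgroup G) : cj g (cj h A) = cj (g * h) A := by
  ext x
  rw [mem_cj, mem_cj, mem_cj, show h⁻¹ * (g⁻¹ * x * g) * h = (g * h)⁻¹ * x * (g * h) by group]

theorem cj_one (A : Subgroup G) : cj 1 A = A := by
  ext x
  rw [mem_cj, inv_one, one_mul, mul_one]

theorem cj_eq_self {g : G} {A : Subgroup G} (h : g ∈ A) : cj g A = A := by
  ext x
  rw [mem_cj]
  refine ⟨fun hx => ?_, fun hx => mul_mem (mul_mem (inv_mem h) hx) h⟩
  simpa [mul_assoc] using mul_mem (mul_mem h hx) (inv_mem h)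

theorem cj_mono {g : G} {A B : Subgroup G} (h : A ≤ B) : cj g A ≤ cj g B := Subgroup.map_mono h

theorem card_cj (g : G) (A : Subgroup G) : Nat.card (cj g A) = Nat.card A :=
  Subgroup.card_map_of_injective (MulAut.conj g).injective

theorem cj_eq_bot {g : G} {A : Subgroup G} : cj g A = ⊥ ↔ A = ⊥ :=
  Subgroup.map_eq_bot_iff_of_injective _ (MulAut.conj g).injective

theorem isCoatom_cj {g : G} {A : Subgroup G} (hA : IsCoatom A) : IsCoatom (cj g A) := by
  refine ⟨fun e => hA.1 ?_, fun B hB => ?_⟩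
  · rw [← cj_one A, ← inv_mul_cancel g, ← cj_cj, e]
    ext x
    simp [mem_cj]
  · have hlt : A < cj g⁻¹ B := by
      refine lt_of_le_of_ne (fun x hx => ?_) fun e => hB.ne ?_
      · rw [mem_cj, inv_inv]
        exact hB.le (conj_mem_cj hx)
      · rw [e, cj_cj, mul_inv_cancel, cj_one]
    rw [← cj_one B, ← mul_inv_cancel g, ← cj_cj, hA.2 _ hlt]
    ext x
    simp [mem_cj]

theorem centralizer_cj (g t : G) :
    Subgroup.centralizer ({g * t * g⁻¹} : Set G) = cj g (Subgroup.centralizer ({t} : Set G)) := by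
  ext x
  rw [mem_cj, mem_cent, mem_cent]
  constructor <;> intro h
  · calc g⁻¹ * x * g * t = g⁻¹ * (x * (g * t * g⁻¹)) * g := by group
      _ = g⁻¹ * (g * t * g⁻¹ * x) * g := by rw [h]
      _ = t * (g⁻¹ * x * g) := by group
  · calc x * (g * t * g⁻¹) = g * (g⁻¹ * x * g * t) * g⁻¹ := by group
      _ = g * (t * (g⁻¹ * x * g)) * g⁻¹ := by rw [h]
      _ = g * t * g⁻¹ * x := by group

theorem map_cj_aux (g : G) (A : Subgroup G) :
    (cj g A).subtype.comp (A.equivMapOfInjective (MulAut.conj g).toMonoidHom (MulAut.conj g).injective).toMonoidHom =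
      (MulAut.conj g).toMonoidHom.comp A.subtype := rfl

theorem EE_cj (g : G) (A : Subgroup G) : EE (cj g A) = cj g (EE A) := by
  show (Cfsg.layer (cj g A)).map (cj g A).subtype = ((Cfsg.layer A).map A.subtype).map _
  unfold cj
  rw [← CfsgLib.map_layer_equiv (A.equivMapOfInjective (MulAut.conj g).toMonoidHom (MulAut.conj g).injective),
    Subgroup.map_map, Subgroup.map_map]
  rfl

theorem OO_cj (r : ℕ) (g : G) (A : Subgroup G) : OO r (cj g A) = cj g (OO r A) := by
  show (Cfsg.pCore r (cj g A)).map (cj g A).subtype = ((Cfsg.pCore r A).map A.subtype).map _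
  unfold cj
  rw [← CfsgLib.pCore_map_equiv r (A.equivMapOfInjective (MulAut.conj g).toMonoidHom (MulAut.conj g).injective),
    Subgroup.map_map, Subgroup.map_map]
  rfl

theorem FF_eq_iSup (A : Subgroup G) : FF A = ⨆ r : Nat.Primes, OO (r : ℕ) A := by
  rw [FF, CfsgLib.fittingSubgroup_eq_iSup_pCore, Subgroup.map_iSup]
  rfl

theorem FF_cj (g : G) (A : Subgroup G) : FF (cj g A) = cj g (FF A) := by
  rw [FF_eq_iSup, FF_eq_iSup]
  simp_rw [OO_cj]
  exact (Subgroup.map_iSup (MulAut.conj g).toMonoidHom fun r : Nat.Primes => OO (r : ℕ) A).symm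

/-! ### The Fitting subgroup of a subgroup -/

theorem OO_le_FF {r : ℕ} (hr : r.Prime) (A : Subgroup G) : OO r A ≤ FF A :=
  Subgroup.map_mono (CfsgLib.pCore_le_fittingSubgroup hr)

theorem OO_le {r : ℕ} {A : Subgroup G} : OO r A ≤ A := Subgroup.map_subtype_le _

theorem OO_comm {r s : ℕ} (hr : r.Prime) (hs : s.Prime) (hrs : r ≠ s) {A : Subgroup G} {x y : G}
    (hx : x ∈ OO r A) (hy : y ∈ OO s A) : x * y = y * x := by
  obtain ⟨x, hx, rfl⟩ := hx
  obtain ⟨y, hy, rfl⟩ := hy
  haveI := Fact.mk hr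
  haveI := Fact.mk hs
  exact congrArg A.subtype (Subgroup.commute_of_normal_of_disjoint _ _ inferInstance inferInstance
    (IsPGroup.disjoint_of_coprime (CfsgLib.isPGroup_pCore r) (CfsgLib.isPGroup_pCore s)
      ((Nat.coprime_primes hr hs).2 hrs)) x y hx hy)

theorem OO_odd {r : ℕ} (hr : r.Prime) (hr2 : r ≠ 2) (A : Subgroup G) : Odd (Nat.card (OO r A)) := by
  haveI := Fact.mk hr
  obtain ⟨k, hk⟩ := (OO_isPGroup r A).exists_card_eq
  rw [hk]
  exact (hr.odd_of_ne_two hr2).pow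

theorem OO_ne_bot_dvd {r : ℕ} (hr : r.Prime) {A : Subgroup G} (h : OO r A ≠ ⊥) :
    r ∣ Nat.card (Cfsg.fittingSubgroup A) := by
  haveI := Fact.mk hr
  obtain ⟨k, hk⟩ := (CfsgLib.isPGroup_pCore (G := A) r).exists_card_eq
  refine dvd_trans ?_ (Subgroup.card_dvd_of_le (CfsgLib.pCore_le_fittingSubgroup hr))
  rw [hk]
  refine dvd_pow_self _ fun h0 => h ?_
  rw [OO, Subgroup.eq_bot_of_card_eq (Cfsg.pCore r A) (by rw [hk, h0, pow_zero]), Subgroup.map_bot]

/-- An element centralizing every `O_r(A)` centralizes `F(A)`. -/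
theorem comm_FF_of_OO {A : Subgroup G} {x : G} (h : ∀ r, r.Prime → ∀ y ∈ OO r A, x * y = y * x) :
    ∀ y ∈ FF A, x * y = y * x := by
  have hle : FF A ≤ Subgroup.centralizer ({x} : Set G) := by
    rw [FF_eq_iSup]
    exact iSup_le fun r y hy => mem_cent.2 (h r r.2 y hy).symm
  exact fun y hy => (mem_cent.1 (hle hy)).symm

theorem not_odd_of_perfect {X : Subgroup G} (hX : X ≠ ⊥) [Group.IsPerfect X] : ¬ Odd (Nat.card X) := fun ho => by
  haveI := CfsgLib.GW.subsingleton_of_odd (X := X) ho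
  exact hX (Subgroup.eq_bot_of_subsingleton X)

theorem EE_isPerfect (A : Subgroup G) : Group.IsPerfect (EE A) :=
  Subgroup.isPerfect_iff.2 EE_perfect

theorem EE_core_le (A : Subgroup G) : oddCore (EE A) ≤ Subgroup.center (EE A) := by
  set O := (oddCore (EE A)).map (EE A).subtype with hO
  have hOodd : Odd (Nat.card O) := by
    rw [hO, Subgroup.card_map_of_injective (EE A).subtype_injective]
    exact CfsgLib.odd_card_oddCore
  set O' : Subgroup A := O.subgroupOf A
  have hOA : O ≤ A := (Subgroup.map_subtype_le _).trans EE_le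
  haveI : O'.Normal := by
    refine ⟨fun x hx g => ?_⟩
    obtain ⟨y, hy, hyx⟩ := hx
    set ψ : MulAut (EE A) :=
      ((MulAut.conj (g : G)).subgroupMap (EE A)).trans (MulEquiv.subgroupCongr (by
        ext z
        change z ∈ cj (g : G) (EE A) ↔ _
        rw [mem_cj]
        refine ⟨fun hz => ?_, fun hz => ?_⟩
        · simpa [mul_assoc] using conj_EE g.2 hz
        · simpa using conj_EE (inv_mem g.2) hz))
    refine ⟨ψ y, ?_, ?_⟩
    · show ψ y ∈ Cfsg.pPrimeCore 2 (EE A)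
      rw [← CfsgLib.pPrimeCore_map_equiv 2 ψ]
      exact ⟨y, hy, rfl⟩
    · show (g : G) * (y : G) * (g : G)⁻¹ = (g : G) * (x : G) * (g : G)⁻¹
      rw [show (y : G) = (x : G) from hyx]
  have hsol : Group.IsSolvable O' := CfsgLib.OddOrder.feitThompson (odd_subgroupOf hOodd)
  have hrad := CfsgLib.le_solvableRadical (N := O') hsol
  intro x hx
  refine Subgroup.mem_center_iff.2 fun y => Subtype.ext ?_
  have hxO : (⟨(x : G), EE_le x.2⟩ : A) ∈ O' := ⟨x, hx, rfl⟩
  have hle : Cfsg.layer A ≤ Subgroup.centralizer ({(⟨(x : G), EE_le x.2⟩ : A)} : Set A) := by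
    refine sSup_le fun K hK k hk => mem_cent.2 ?_
    exact CfsgLib.Comp.comm_of_commutator_eq_bot (CfsgLib.component_commutator_radical hK) hk (hrad hxO)
  obtain ⟨y', hy', hyy⟩ := y.2
  have := congrArg Subtype.val (mem_cent.1 (hle hy'))
  show (y : G) * x = x * y
  rw [show (y : G) = (y' : G) from hyy.symm]
  exact this

/-! ### The family `Bad` -/

/-- A maximal subgroup containing `C(t)` with trivial layer and trivial `O₂`. -/
structure Bad (t : G) (N : Subgroup G) : Prop where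
  invol : orderOf t = 2
  coatom : IsCoatom N
  cent : Subgroup.centralizer ({t} : Set G) ≤ N
  layer : EE N = ⊥
  two : OO 2 N = ⊥

theorem Bad.cj {t : G} {N : Subgroup G} (h : Bad t N) (g : G) : Bad (g * t * g⁻¹) (cj g N) :=
  ⟨(orderOf_conj g t).trans h.invol, isCoatom_cj h.coatom, centralizer_cj g t ▸ cj_mono h.cent,
    by rw [EE_cj, h.layer, cj_eq_bot], by rw [OO_cj, h.two, cj_eq_bot]⟩

theorem Bad.mem {t : G} {N : Subgroup G} (h : Bad t N) : t ∈ N := h.cent (mem_cent_self t)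

theorem FF_odd_of_two {N : Subgroup G} (h : OO 2 N = ⊥) : Odd (Nat.card (FF N)) := by
  rw [← Nat.not_even_iff_odd, even_iff_two_dvd, FF, Subgroup.card_map_of_injective N.subtype_injective]
  haveI : Fact (Nat.Prime 2) := ⟨Nat.prime_two⟩
  rw [OO, Subgroup.map_eq_bot_iff_of_injective _ N.subtype_injective] at h
  exact CfsgLib.not_dvd_card_fitting_of_pCore_eq_bot h

theorem GG_eq_FF {N : Subgroup G} (h : EE N = ⊥) : GG N = FF N := by
  have e : GG N = EE N ⊔ FF N := gfit_eq
  rw [e, h, bot_sup_eq]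

theorem self_cent {N : Subgroup G} (h : EE N = ⊥) {x : G} (hx : x ∈ N) (hc : ∀ y ∈ FF N, x * y = y * x) :
    x ∈ FF N := by
  rw [← GG_eq_FF h]
  refine ⟨⟨x, hx⟩, CfsgLib.centralizer_generalizedFitting_le (fun y hy => Subtype.ext ?_), rfl⟩
  exact (hc _ (by rw [← GG_eq_FF h]; exact ⟨y, hy, rfl⟩)).symm

theorem Bad.odd {t : G} {N : Subgroup G} (h : Bad t N) : Odd (Nat.card (FF N)) := FF_odd_of_two h.two

theorem Bad.moved {t : G} {N : Subgroup G} (h : Bad t N) : ¬ FF N ≤ Subgroup.centralizer ({t} : Set G) :=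
  fun hle => not_mem_of_odd h.odd h.invol
    (self_cent h.layer h.mem fun y hy => (mem_cent.1 (hle hy)).symm)

theorem Bad.exists_moved {t : G} {N : Subgroup G} (h : Bad t N) :
    ∃ p : ℕ, p.Prime ∧ ∃ x ∈ OO p N, t * x ≠ x * t := by
  by_contra hno
  push Not at hno
  exact h.moved fun y hy => mem_cent.2 (comm_FF_of_OO hno y hy).symm

theorem Bad.ne_two {t : G} {N : Subgroup G} (h : Bad t N) {p : ℕ} (hne : OO p N ≠ ⊥) : p ≠ 2 :=
  fun e => hne (e ▸ h.two)

theorem mem_normalizer_OO {r : ℕ} {N : Subgroup G} {x : G} (hx : x ∈ N) :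
    x ∈ Subgroup.normalizer (OO r N : Set G) :=
  Subgroup.mem_normalizer_fintype fun _ hy => conj_OO hx hy

theorem mem_normalizer_FF {N : Subgroup G} {x : G} (hx : x ∈ N) : x ∈ Subgroup.normalizer (FF N : Set G) :=
  Subgroup.mem_normalizer_fintype fun _ hy => conj_FF hx hy

section

variable (hs : Simp G) (ih : Smaller G)

include hs

theorem normalizer_ne_top {R : Subgroup G} (hne : R ≠ ⊥) (hodd : Odd (Nat.card R)) :
    Subgroup.normalizer (R : Set G) ≠ ⊤ := fun e => by
  haveI : R.Normal := Subgroup.normalizer_eq_top_iff.1 e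
  rcases hs.simple.eq_bot_or_eq_top_of_normal R inferInstance with h | h
  · exact hne h
  · rw [h, Subgroup.card_top] at hodd
    exact hs.dihedral.not_odd hodd

theorem exists_coatom_ge {A : Subgroup G} (h : A ≠ ⊤) : ∃ N, IsCoatom N ∧ A ≤ N :=
  (eq_top_or_exists_le_coatom A).resolve_left h

/-- A normal subgroup with dihedral Sylow 2-subgroups contains the central involution. -/
theorem mem_of_central {P : Sylow 2 G} {Y N : Subgroup G} (hPY : (P : Subgroup G) ≤ Y) (hNY : N ≤ Y)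
    (hn : ∀ y ∈ Y, ∀ x ∈ N, y * x * y⁻¹ ∈ N) (hN : GWDihedral N) {t : G} (ht : orderOf t = 2)
    (hc : ∀ s ∈ (P : Subgroup G), s * t = t * s) : t ∈ N := by
  haveI : Fact (Nat.Prime 2) := ⟨Nat.prime_two⟩
  obtain ⟨U, hU⟩ := hN.exists_klein_sub
  haveI := hU
  set U' := U.map ((Subgroup.inclusion hNY : N →* Y)) with hU'
  obtain ⟨g, hg⟩ := exists_conj_le (S := P.subtype hPY) (T := U') ((isPGroup_klein hU).map _)
  set f : U →* G := ((MulAut.conj (g : G)).toMonoidHom.comp N.subtype).comp U.subtype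
  have hf : Function.Injective f := fun a b e =>
    Subtype.ext (Subtype.ext ((MulAut.conj (g : G)).injective e))
  have hK : IsKleinFour f.range := isKleinFour_of_equiv (MonoidHom.ofInjective hf)
  have hfN : ∀ x ∈ f.range, x ∈ N ∧ x ∈ (P : Subgroup G) := by
    rintro _ ⟨a, rfl⟩
    refine ⟨hn g g.2 _ (a : N).2, ?_⟩
    have := hg ⟨_, ⟨a, a.2, rfl⟩, rfl⟩
    rwa [Sylow.coe_subtype, Subgroup.mem_subgroupOf] at this
  exact (hfN _ (hs.dihedral.no_eight hK ht fun x hx => (hc x (hfN x hx).2).symm)).1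

/-- The layer of a proper subgroup has dihedral Sylow 2-subgroups. -/
theorem EE_dihedral {Y : Subgroup G} (h : EE Y ≠ ⊥) : GWDihedral (EE Y) := by
  haveI := EE_isPerfect Y
  exact hs.dihedral.perfect_sub _ h

include ih

/-- An involution moving an odd normalized subgroup lies outside the layer. -/
theorem not_mem_layer {Y : Subgroup G} (hY : Y ≠ ⊤) {w : G} (hw : orderOf w = 2) (hwE : w ∈ EE Y)
    {R₀ : Subgroup G} (hR : Odd (Nat.card R₀))
    (hnorm : ∀ c : G, c * w = w * c → ∀ r ∈ R₀, c * r * c⁻¹ ∈ R₀) {f : G} (hf : f ∈ R₀) (hfY : f ∈ Y) :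
    w * f = f * w := by
  haveI := EE_isPerfect Y
  have hne : EE Y ≠ ⊤ := fun e => hY (top_le_iff.1 (e ▸ (EE_le : EE Y ≤ Y)))
  have hR' := perfect_no_moved hs.dihedral ih hne (EE_core_le Y) hw hwE
    (R := EE Y ⊓ R₀) inf_le_left (hR.of_dvd_nat (Subgroup.card_dvd_of_le inf_le_right))
    (fun c hc hcw r hr => ⟨(EE Y).mul_mem ((EE Y).mul_mem hc hr.1) ((EE Y).inv_mem hc), hnorm c hcw r hr.2⟩)
  set c := f * w * f⁻¹ * w⁻¹ with hc
  have hcR : c ∈ EE Y ⊓ R₀ := by
    refine ⟨(EE Y).mul_mem (conj_EE hfY hwE) ((EE Y).inv_mem hwE), ?_⟩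
    rw [hc, show f * w * f⁻¹ * w⁻¹ = f * (w * f⁻¹ * w⁻¹) by group]
    exact R₀.mul_mem hf (hnorm w rfl _ (R₀.inv_mem hf))
  have hcw : c * w = w * c := mem_cent.1 (hR' hcR)
  have hww := invol_mul_self hw
  have hcc : c * c = 1 := by
    have h1 : (c * w) * (c * w) = 1 := by
      rw [hc, show f * w * f⁻¹ * w⁻¹ * w * (f * w * f⁻¹ * w⁻¹ * w) = f * (w * w) * f⁻¹ by group, hww]
      group
    rwa [mul_assoc, ← mul_assoc w, ← hcw, mul_assoc c, hww, mul_one] at h1
  have hc1 := eq_one_of_sq hR hcR.2 hcc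
  rw [hc, mul_inv_eq_one, mul_inv_eq_iff_eq_mul] at hc1
  exact hc1.symm

omit ih in
/-- An involution of `O₂(Y)` centralizes an odd normalized subgroup inside `Y`. -/
theorem not_mem_two {Y : Subgroup G} {w : G} (hwO : w ∈ OO 2 Y)
    {R₀ : Subgroup G} (hR : Odd (Nat.card R₀)) (hnorm : w ∈ Subgroup.normalizer (R₀ : Set G)) {f : G}
    (hf : f ∈ R₀) (hfY : f ∈ Y) : w * f = f * w := by
  set c := f * w * f⁻¹ * w⁻¹ with hc
  have hc2 : c ∈ OO 2 Y := mul_mem (conj_OO hfY hwO) (inv_mem hwO)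
  have hcR : c ∈ R₀ := by
    rw [hc, show f * w * f⁻¹ * w⁻¹ = f * (w * f⁻¹ * w⁻¹) by group]
    exact R₀.mul_mem hf (mem_normalizer_of_mem hnorm (R₀.inv_mem hf))
  haveI : Fact (Nat.Prime 2) := ⟨Nat.prime_two⟩
  obtain ⟨k, hk⟩ := (OO_isPGroup 2 Y).exists_card_eq
  have hc1 : c = 1 := orderOf_eq_one_iff.1 (Nat.eq_one_of_dvd_coprimes
    (Nat.Coprime.pow_left k (Nat.coprime_two_left.2 hR)) (hk ▸ Subgroup.orderOf_dvd_natCard _ hc2)
    (Subgroup.orderOf_dvd_natCard _ hcR))
  rw [hc, mul_inv_eq_one, mul_inv_eq_iff_eq_mul] at hc1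
  exact hc1.symm

/-- A maximal subgroup containing `C(t)` and an odd normalized subgroup moved by `t`. -/
theorem bad_of_moved {t : G} (ht : orderOf t = 2) {N : Subgroup G} (hN : IsCoatom N)
    (hC : Subgroup.centralizer ({t} : Set G) ≤ N) {R : Subgroup G} (hR : Odd (Nat.card R))
    (hnorm : Subgroup.centralizer ({t} : Set G) ≤ Subgroup.normalizer (R : Set G)) (hRN : R ≤ N)
    (hmv : ¬ R ≤ Subgroup.centralizer ({t} : Set G)) : Bad t N := by
  haveI : Fact (Nat.Prime 2) := ⟨Nat.prime_two⟩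
  obtain ⟨S, htS, hSc⟩ := hs.exists_sylow ht
  have hSN : (S : Subgroup G) ≤ N := fun s hs => hC (mem_cent.2 (hSc s hs))
  have hn : ∀ c : G, c * t = t * c → ∀ r ∈ R, c * r * c⁻¹ ∈ R := fun c hc r hr =>
    mem_normalizer_of_mem (hnorm (mem_cent.2 hc)) hr
  refine ⟨ht, hN, hC, ?_, ?_⟩
  · by_contra hE
    have htE := mem_of_central hs hSN EE_le (fun y hy x hx => conj_EE hy hx) (EE_dihedral hs hE) ht hSc
    exact hmv fun r hr => mem_cent.2 (not_mem_layer hs ih hN.1 ht htE hR hn hr (hRN hr)).symm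
  · by_contra hO
    have htnot : t ∉ OO 2 N := fun htO => hmv fun r hr =>
      mem_cent.2 (not_mem_two hs htO hR (hnorm (mem_cent_self t)) hr (hRN hr)).symm
    -- `O₂(N)` has a single involution
    have hOS : OO 2 N ≤ (S : Subgroup G) := by
      intro x hx
      obtain ⟨y, hy, rfl⟩ := hx
      have := CfsgLib.pCore_le_sylow (S.subtype hSN) hy
      rwa [Sylow.coe_subtype, Subgroup.mem_subgroupOf] at this
    obtain ⟨z, hzO, hz, hzc⟩ := CfsgLib.Comp.exists_central_in_normal (p := 2) S.2 hOS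
      (fun q hq => mem_normalizer_OO (hSN hq)) hO
    have hzt : z ≠ t := fun e => htnot (e ▸ hzO)
    have htz : t * z = z * t := hzc t htS
    have huniq : ∀ y ∈ OO 2 N, orderOf y = 2 → y = z := fun y hy ho => by
      rcases invol_cases hs.dihedral ht hz htz hzt ho (hSc y (hOS hy)) (hzc y (hOS hy)) with e | e | e
      · exact absurd (e ▸ hy) htnot
      · exact e
      · refine absurd ?_ htnot
        have := mul_mem (e ▸ hy) hzO
        rwa [mul_assoc, invol_mul_self hz, mul_one] at this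
    have hNz : N ≤ Subgroup.centralizer ({z} : Set G) := fun a ha =>
      mem_cent.2 (mul_inv_eq_iff_eq_mul.1 (huniq _ (conj_OO ha hzO) ((orderOf_conj a z).trans hz)))
    obtain ⟨g, hg⟩ := hs.exists_conj t z ht hz
    have hcard : Nat.card (Subgroup.centralizer ({z} : Set G)) ≤ Nat.card (Subgroup.centralizer ({t} : Set G)) := by
      rw [← hg, centralizer_cj, card_cj]
    have hCz := Subgroup.eq_of_le_of_card_ge (hC.trans hNz) hcard
    exact hmv fun r hr => hCz.symm ▸ hNz (hRN hr)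

/-- An odd normalized subgroup moved by `t` yields a `Bad` subgroup. -/
theorem exists_bad {t : G} (ht : orderOf t = 2) {R : Subgroup G} (hR : Odd (Nat.card R))
    (hnorm : Subgroup.centralizer ({t} : Set G) ≤ Subgroup.normalizer (R : Set G))
    (hmv : ¬ R ≤ Subgroup.centralizer ({t} : Set G)) :
    ∃ N, Bad t N ∧ Subgroup.normalizer (R : Set G) ≤ N := by
  have hne : R ≠ ⊥ := fun e => hmv (e ▸ bot_le)
  obtain ⟨N, hN, hle⟩ := exists_coatom_ge hs (normalizer_ne_top hs hne hR)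
  exact ⟨N, bad_of_moved hs ih ht hN (hnorm.trans hle) hR hnorm (Subgroup.le_normalizer.trans hle) hmv, hle⟩

end

end CfsgLib.BG
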