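import Cfsg.Agent.Lib.BG.Ctx

/-!
The uniqueness part of the case of at least two primes.

* `Ctx.kill`, `Ctx.normalizer_le`: the normalizer of a moved piece of `F(H)` lies in `H`.
* `Mid`: proper subgroups over `C(e) ⟨t, v⟩` without layer and `O₂`.
* `Ctx.close`: the centralizer of `e` lies in `H`.
-/

set_option autoImplicit false
set_option maxHeartbeats 800000
set_option linter.unusedSectionVars false

namespace CfsgLib.BG

open Cfsg CfsgLib.GW CfsgLib.DihedralFusion CfsgLib.BenderMax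

universe u

variable {G : Type u} [Group G] [Finite G]

/-- At least two primes divide `|F(H)|`. -/
def Multi (H : Subgroup G) : Prop := ∀ r : ℕ, ∃ s, s.Prime ∧ s ≠ r ∧ OO s H ≠ ⊥

/-- A proper subgroup over `C(e)` and the four group, without layer and `O₂`. -/
structure Mid (t v e : G) (Y : Subgroup G) : Prop where
  ne_top : Y ≠ ⊤
  left : t ∈ Y
  right : v ∈ Y
  cent : ∀ x : G, x * e = e * x → x ∈ Y
  layer : EE Y = ⊥
  two : OO 2 Y = ⊥

theorem OO_eq_bot_of_not_dvd {r : ℕ} (hr : r.Prime) {A : Subgroup G}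
    (h : ¬ r ∣ Nat.card (Cfsg.fittingSubgroup A)) : OO r A = ⊥ :=
  by_contra fun hne => h (OO_ne_bot_dvd hr hne)

theorem not_dvd_of_OO_eq_bot {r : ℕ} (hr : r.Prime) {A : Subgroup G} (h : OO r A = ⊥) :
    ¬ r ∣ Nat.card (Cfsg.fittingSubgroup A) := by
  haveI := Fact.mk hr
  rw [OO, Subgroup.map_eq_bot_iff_of_injective _ A.subtype_injective] at h
  exact CfsgLib.not_dvd_card_fitting_of_pCore_eq_bot h

theorem all_inverted {R : Subgroup G} (hR : Odd (Nat.card R)) {τ : G} (hτ : orderOf τ = 2)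
    (hτR : τ ∈ Subgroup.normalizer (R : Set G)) (h : ∀ x ∈ R, τ * x = x * τ → x = 1) :
    ∀ x ∈ R, τ * x * τ⁻¹ = x⁻¹ := by
  intro x hx
  obtain ⟨p, ⟨hp1, hp2, hp3⟩, -⟩ := (Cfsg.Agent.S1124.result τ hτ R hR
    fun y hy => mem_normalizer_of_mem hτR hy).1 x hx
  obtain ⟨hc1, hc⟩ := Subgroup.mem_inf.1 hp1
  rw [h _ hc1 (mem_cent.1 hc).symm, one_mul] at hp3
  rw [hp3]
  exact hp2.2

theorem normalizer_closure_of {S : Set G} {c : G}
    (h : ∀ x ∈ S, c * x * c⁻¹ ∈ Subgroup.closure S) :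
    c ∈ Subgroup.normalizer (Subgroup.closure S : Set G) := by
  refine Subgroup.mem_normalizer_fintype fun x hx => ?_
  have hle : Subgroup.closure S ≤ (Subgroup.closure S).comap (MulAut.conj c).toMonoidHom :=
    (Subgroup.closure_le _).2 h
  exact hle hx

theorem WW_conj {p : ℕ} {A : Subgroup G} {a : G} (ha : a ∈ A) :
    a ∈ Subgroup.normalizer (WW p A : Set G) := by
  refine normalizer_closure_of ?_
  rintro w ⟨hwA, ⟨k, hk⟩, hwc⟩
  refine Subgroup.subset_closure ⟨A.mul_mem (A.mul_mem ha hwA) (A.inv_mem ha), ⟨k, ?_⟩, fun r hr hrp y hy => ?_⟩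
  · exact (orderOf_conj a w).trans hk
  · have hy' : a⁻¹ * y * a ∈ OO r A := by
      have := conj_OO (A.inv_mem ha) hy
      rwa [inv_inv] at this
    have h := hwc r hr hrp _ hy'
    show a * w * a⁻¹ * y = y * (a * w * a⁻¹)
    calc a * w * a⁻¹ * y = a * (w * (a⁻¹ * y * a)) * a⁻¹ := by group
      _ = a * ((a⁻¹ * y * a) * w) * a⁻¹ := by rw [h]
      _ = y * (a * w * a⁻¹) := by group

/-- A `p`-element centralizing `O_s(A)`, `s ≠ p`, centralizes an element centralizing `O_s(A)`, `s ≠ r`. -/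
theorem comm_of_cross {A B : Subgroup G} (hEA : EE A = ⊥) {p r : ℕ} (hp : p.Prime) (hr : r.Prime) (hrp : r ≠ p)
    {x u : G} (hxA : x ∈ A) {kx : ℕ} (hkx : orderOf x = p ^ kx)
    (hxc : ∀ s, s.Prime → s ≠ p → ∀ y ∈ OO s A, x * y = y * x) (hu : u ∈ OO r B) (huA : u ∈ A)
    (hcross : ∀ s, s.Prime → s ≠ r → ∀ y ∈ OO s A, u * y = y * u) : x * u = u * x := by
  haveI := Fact.mk hr
  set c := x * u * x⁻¹ * u⁻¹ with hc
  have hcA : c ∈ A := A.mul_mem (A.mul_mem (A.mul_mem hxA huA) (A.inv_mem hxA)) (A.inv_mem huA)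
  -- `c` centralizes `F(A)`
  have hcs : ∀ s, s.Prime → ∀ y ∈ OO s A, c * y = y * c := by
    intro s hs y hy
    by_cases hsp : s = p
    · subst hsp
      have hu' : ∀ w ∈ OO s A, Commute u w := fun w hw => hcross s hs (Ne.symm hrp) w hw
      have hy' : x⁻¹ * y * x ∈ OO s A := by
        have := conj_OO (A.inv_mem hxA) hy
        rwa [inv_inv] at this
      calc c * y = x * u * x⁻¹ * (u⁻¹ * y) := by rw [hc]; group
        _ = x * u * x⁻¹ * (y * u⁻¹) := by rw [(hu' y hy).inv_left.eq]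
        _ = x * (u * (x⁻¹ * y * x)) * x⁻¹ * u⁻¹ := by group
        _ = x * ((x⁻¹ * y * x) * u) * x⁻¹ * u⁻¹ := by rw [(hu' _ hy').eq]
        _ = y * c := by rw [hc]; group
    · have hx' : ∀ w ∈ OO s A, Commute x w := fun w hw => hxc s hs hsp w hw
      have hy' : u⁻¹ * y * u ∈ OO s A := by
        have := conj_OO (A.inv_mem huA) hy
        rwa [inv_inv] at this
      calc c * y = x * u * (x⁻¹ * (u⁻¹ * y * u)) * u⁻¹ := by rw [hc]; group
        _ = x * u * ((u⁻¹ * y * u) * x⁻¹) * u⁻¹ := by rw [(hx' _ hy').inv_left.eq]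
        _ = (x * y) * (u * x⁻¹ * u⁻¹) := by group
        _ = (y * x) * (u * x⁻¹ * u⁻¹) := by rw [(hx' y hy).eq]
        _ = y * c := by rw [hc]; group
  obtain ⟨c₀, hc₀, hc₀'⟩ := self_cent hEA hcA (comm_FF_of_OO hcs)
  -- its part away from `r` vanishes
  set N' := Cfsg.pPrimeCore r A ⊓ Cfsg.fittingSubgroup A with hN'
  haveI : N'.Normal := Subgroup.normal_inf_normal _ _
  have hsplit : Cfsg.fittingSubgroup A ≤ Cfsg.pCore r A ⊔ N' := by
    rw [CfsgLib.fittingSubgroup_eq_iSup_pCore]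
    refine iSup_le fun s => ?_
    rcases eq_or_ne r (s : ℕ) with e | e
    · rw [← e]; exact le_sup_left
    · refine le_sup_of_le_right (le_inf ?_ (CfsgLib.pCore_le_fittingSubgroup s.2))
      haveI := Fact.mk s.2
      obtain ⟨k, hk⟩ := (CfsgLib.isPGroup_pCore (G := A) (s : ℕ)).exists_card_eq
      exact CfsgLib.le_pPrimeCore (by
        rw [hk]; exact Nat.Coprime.pow_left _ ((Nat.coprime_primes s.2 hr).2 (Ne.symm e)))
  obtain ⟨a, ha, b, hb, hab⟩ := Subgroup.mem_sup_of_normal_left.1 (hsplit hc₀)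
  have hbr : (orderOf (b : G)).Coprime r := by
    refine (CfsgLib.card_pPrimeCore_coprime (G := A) r).coprime_dvd_left ?_
    rw [Subgroup.orderOf_coe]
    exact Subgroup.orderOf_dvd_natCard _ hb.1
  have hbu : Commute (b : G) u := by
    -- `b` is built from the primes different from `r`
    obtain ⟨hbP, hbF⟩ := hb
    have hle : N' ≤ Subgroup.centralizer ({(⟨u, huA⟩ : A)} : Set A) := by
      haveI : Group.IsNilpotent N' := Group.nilpotent_of_mulEquiv
        (G := N'.subgroupOf (Cfsg.fittingSubgroup A)) (Subgroup.subgroupOfEquivOfLe inf_le_right)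
        (_h := by haveI := CfsgLib.isNilpotent_fittingSubgroup (G := A); infer_instance)
      have h := CfsgLib.le_fittingSubgroup (G := N') (N := (⊤ : Subgroup N')) (Group.isNilpotent_top.2 ‹_›)
      rw [CfsgLib.fittingSubgroup_eq_iSup_pCore] at h
      have h2 := Subgroup.map_mono (f := N'.subtype) h
      rw [← MonoidHom.range_eq_map, Subgroup.range_subtype, Subgroup.map_iSup] at h2
      refine h2.trans (iSup_le fun s => ?_)
      by_cases hsr : (s : ℕ) = r
      · haveI := Fact.mk s.2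
        obtain ⟨k, hk⟩ := ((CfsgLib.isPGroup_pCore (G := N') (s : ℕ))).exists_card_eq
        have h1 : (Cfsg.pCore (s : ℕ) N') = ⊥ := by
          refine Subgroup.eq_bot_of_card_eq _ (Nat.eq_one_of_dvd_coprimes
            ((CfsgLib.card_pPrimeCore_coprime (G := A) r).pow_right k) ?_ ?_)
          · exact (Subgroup.card_subgroup_dvd_card _).trans (Subgroup.card_dvd_of_le inf_le_left)
          · rw [hk, hsr]
        rw [h1, Subgroup.map_bot]; exact bot_le
      · refine (CfsgLib.map_pCore_le (s : ℕ) N').trans fun y hy => mem_cent.2 (Subtype.ext ?_)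
        exact (hcross s s.2 hsr y ⟨y, hy, rfl⟩).symm
    exact congrArg Subtype.val (mem_cent.1 (hle (show b ∈ N' from ⟨hbP, hbF⟩)))
  have hc' : c = (a : G) * (b : G) := by
    rw [← hc₀', ← hab]; rfl
  have haO : (a : G) ∈ OO r A := ⟨a, ha, rfl⟩
  have hb1 : (b : G) = 1 := by
    have hba : Commute (b : G) (a : G) := congrArg Subtype.val
      (Subgroup.commute_of_normal_of_disjoint _ _ inferInstance inferInstance (by
        rw [disjoint_iff]
        refine Subgroup.inf_eq_bot_of_coprime ?_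
        obtain ⟨k, hk⟩ := (CfsgLib.isPGroup_pCore (G := A) r).exists_card_eq
        rw [hk]
        exact Nat.Coprime.pow_left _ (CfsgLib.card_pPrimeCore_coprime (G := A) r).symm) a b ha hb.1).symm
    let U : Subgroup G := Subgroup.zpowers u ⊔ OO r A
    have hU : IsPGroup r U := by
      refine IsPGroup.to_sup_of_normal_right' ?_ (OO_isPGroup r A) (zpowers_le_normalizer fun y hy => conj_OO huA hy)
      obtain ⟨k, hk⟩ := OO_pow_order hr hu
      exact IsPGroup.of_card (n := k) (by rw [Nat.card_zpowers, hk])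
    have hw : (a : G) * u ∈ U :=
      U.mul_mem (Subgroup.mem_sup_right haO) (Subgroup.mem_sup_left (Subgroup.mem_zpowers _))
    obtain ⟨k1, hk1⟩ := IsPGroup.iff_orderOf.1 hU ⟨_, hw⟩
    rw [Subgroup.orderOf_mk] at hk1
    obtain ⟨k2, hk2⟩ := OO_pow_order hr hu
    have hxu : x * u * x⁻¹ = (a : G) * u * b := by
      calc x * u * x⁻¹ = c * u := by rw [hc]; group
        _ = (a : G) * (b * u) := by rw [hc', mul_assoc]
        _ = (a : G) * u * b := by rw [hbu.eq, ← mul_assoc]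
    have hord : (x * u * x⁻¹) ^ r ^ (k1 + k2) = 1 := by
      rw [conj_pow, pow_add, mul_comm (r ^ k1), pow_mul, ← hk2, pow_orderOf_eq_one, one_pow, mul_one, mul_inv_cancel]
    have hord2 : ((a : G) * u) ^ r ^ (k1 + k2) = 1 := by
      rw [pow_add, pow_mul, ← hk1, pow_orderOf_eq_one, one_pow]
    rw [hxu, ((hba.mul_right hbu).symm).mul_pow, hord2, one_mul] at hord
    exact orderOf_eq_one_iff.1 (Nat.eq_one_of_dvd_coprimes (hbr.pow_right (k1 + k2)) dvd_rfl
      (orderOf_dvd_of_pow_eq_one hord))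
  have hcr : c ∈ OO r A := by rw [hc', hb1, mul_one]; exact haO
  have hxcc : Commute x c := hxc r hr hrp c hcr
  have hpow : ∀ k : ℕ, x ^ k * u * (x ^ k)⁻¹ = c ^ k * u := by
    intro k
    induction k with
    | zero => simp
    | succ k ih =>
      calc x ^ (k + 1) * u * (x ^ (k + 1))⁻¹ = x * (x ^ k * u * (x ^ k)⁻¹) * x⁻¹ := by rw [pow_succ']; group
        _ = (x * c ^ k) * u * x⁻¹ := by rw [ih]; group
        _ = c ^ k * (x * u * x⁻¹) := by rw [(hxcc.pow_right k).eq]; group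
        _ = c ^ (k + 1) * u := by rw [pow_succ, hc]; group
  have h3 : c ^ orderOf x = 1 := by
    have := hpow (orderOf x)
    rw [pow_orderOf_eq_one, inv_one, one_mul, mul_one] at this
    exact mul_eq_right.1 this.symm
  obtain ⟨kc, hkc⟩ := OO_pow_order hr hcr
  have hc1 : c = 1 := eq_one_of_coprime_pows h3 (pow_orderOf_eq_one c) (by
    rw [hkc, hkx]; exact Nat.coprime_pow_primes kx kc hp hr (Ne.symm hrp))
  exact mul_inv_eq_iff_eq_mul.1 (mul_inv_eq_one.1 hc1)

namespace Ctx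

variable {t v : G} {H : Subgroup G} (C : Ctx t v H)

include C

theorem GG_H : GG H = FF H := GG_eq_FF C.bad.layer

theorem FF_ne_bot : FF H ≠ ⊥ := fun e => C.bad.moved (e ▸ bot_le)

theorem not_pgroup (hm : Multi H) {p : ℕ} (hp : p.Prime)
    (h : IsPGroup p (Cfsg.generalizedFittingSubgroup H)) : False := by
  obtain ⟨s, hs, hsp, hne⟩ := hm p
  refine hne (eq_bot_iff.2 fun x hx => ?_)
  obtain ⟨k, hk⟩ := OO_pow_order hs hx
  obtain ⟨y, hy, rfl⟩ := hx
  have hyG := CfsgLib.fittingSubgroup_le_generalized (CfsgLib.pCore_le_fittingSubgroup hs hy)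
  haveI := Fact.mk hp
  obtain ⟨j, hj⟩ := IsPGroup.iff_orderOf.1 h ⟨y, hyG⟩
  rw [Subgroup.orderOf_mk] at hj
  rw [Subgroup.coe_subtype, Subgroup.orderOf_coe, hj] at hk
  rw [Subgroup.mem_bot, Subgroup.coe_subtype, ← orderOf_eq_one_iff, Subgroup.orderOf_coe, hj]
  exact Nat.eq_one_of_dvd_coprimes (Nat.coprime_pow_primes j k hp hs (Ne.symm hsp)) dvd_rfl (dvd_of_eq hk)

theorem normalizer_eq {A : Subgroup G} (hA : A ≤ H) (hne : A ≠ ⊥)
    (hn : ∀ a ∈ H, a ∈ Subgroup.normalizer (A : Set G)) : Subgroup.normalizer (A : Set G) = H := by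
  haveI := C.simp.simple
  by_contra hne'
  have htop := C.bad.coatom.2 _ (lt_of_le_of_ne hn (Ne.symm hne'))
  haveI : A.Normal := Subgroup.normalizer_eq_top_iff.1 htop
  rcases C.simp.simple.eq_bot_or_eq_top_of_normal A inferInstance with e | e
  · exact hne e
  · exact C.bad.coatom.1 (top_le_iff.1 (e ▸ hA))

theorem normalizer_OO {r : ℕ} (hr : OO r H ≠ ⊥) : Subgroup.normalizer (OO r H : Set G) = H :=
  C.normalizer_eq OO_le hr fun _ ha => mem_normalizer_OO ha

theorem cent_OO_le {r : ℕ} (hr : OO r H ≠ ⊥) {x : G} (hx : ∀ y ∈ OO r H, x * y = y * x) : x ∈ H := by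
  rw [← C.normalizer_OO hr]
  exact Subgroup.centralizer_le_normalizer _ (Subgroup.mem_centralizer_iff.2 fun y hy => (hx y hy).symm)

theorem kill_aux {N : Subgroup G} (hN : Bad t N) {r : ℕ} (hr : r.Prime) (hrH : OO r H = ⊥)
    (hinv : ∀ x ∈ OO r N, t * x * t⁻¹ = x⁻¹) : ∀ x ∈ OO r N, v * x = x * v → x = 1 := by
  intro x hx hvx
  obtain ⟨k, hk⟩ := OO_pow_order hr hx
  have hxv := C.mem_Hc C.invol hvx.symm
  refine C.eq_one_of_centralizes C.invol hr hrH hxv hk fun s hs => ?_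
  by_cases hsr : s = r
  · intro y hy
    rw [hsr, C.OO_Hc_bot hrH C.invol, Subgroup.mem_bot] at hy
    rw [hy, mul_one, one_mul]
  refine C.centralizes_OO C.invol C.comm hs hxv (hinv x hx) (odd_orderOf hN.odd (OO_le_FF hr N hx))
    (hk ▸ Nat.Coprime.pow_left k ((Nat.coprime_primes hr hs).2 (Ne.symm hsr))) fun y hy hty => ?_
  exact comm_of_OO hr hs (Ne.symm hsr) hx hy hxv (hN.cent (mem_cent.2 hty.symm))

theorem kill {N : Subgroup G} (hN : Bad t N) {r : ℕ} (hr : r.Prime) (hrH : OO r H = ⊥)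
    (hRH : OO r N ⊓ H = ⊥) : OO r N = ⊥ := by
  have hodd : Odd (Nat.card (OO r N)) := hN.odd.of_dvd_nat (Subgroup.card_dvd_of_le (OO_le_FF hr N))
  have hinv := all_inverted hodd C.bad.invol (mem_normalizer_OO hN.mem) fun x hx htx => by
    have : x ∈ OO r N ⊓ H := ⟨hx, C.cent_le htx.symm⟩
    rwa [hRH, Subgroup.mem_bot] at this
  have hvN : v ∈ N := hN.cent (mem_cent.2 C.comm.symm)
  have hv := all_inverted hodd C.invol (mem_normalizer_OO hvN) (C.kill_aux hN hr hrH hinv)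
  refine eq_bot_iff.2 fun x hx => ?_
  refine Subgroup.mem_bot.2 (C.symm.kill_aux hN hr hrH hinv x hx (comm_of_conj_eq ?_))
  rw [show t * v * x * (t * v)⁻¹ = t * (v * x * v⁻¹) * t⁻¹ by group, hv x hx, hinv _ (inv_mem hx), inv_inv]

/-- The normalizer of a moved piece of `F(H)` lies in `H`. -/
theorem normalizer_le (hm : Multi H) {X : Subgroup G} (hX : X ≠ ⊥) (hXF : X ≤ FF H)
    (hCX : Subgroup.centralizer ({t} : Set G) ≤ Subgroup.normalizer (X : Set G))
    (hmv : ∃ f ∈ FF H, f ∈ Subgroup.normalizer (X : Set G) ∧ t * f ≠ f * t) :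
    Subgroup.normalizer (X : Set G) ≤ H := by
  haveI := C.simp.simple
  have hna := C.simp.noncomm
  have hodd : Odd (Nat.card X) := C.bad.odd.of_dvd_nat (Subgroup.card_dvd_of_le hXF)
  obtain ⟨N, hN, hle⟩ := exists_coatom_ge C.simp (normalizer_ne_top C.simp hX hodd)
  obtain ⟨f, hf, hfX, hfmv⟩ := hmv
  have hB : Bad t N := bad_of_moved C.simp C.ih C.bad.invol hN (hCX.trans hle)
    (R := FF H ⊓ Subgroup.normalizer (X : Set G))
    (C.bad.odd.of_dvd_nat (Subgroup.card_dvd_of_le inf_le_left))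
    (fun c hc => Subgroup.mem_normalizer_fintype fun y hy =>
      ⟨conj_FF (C.bad.cent hc) hy.1, (Subgroup.normalizer _).mul_mem ((Subgroup.normalizer _).mul_mem (hCX hc) hy.2)
        ((Subgroup.normalizer _).inv_mem (hCX hc))⟩)
    (inf_le_right.trans hle) fun h => hfmv (mem_cent.1 (h ⟨hf, hfX⟩)).symm
  have hHN : Cfsg.leadsTo H N := ⟨X, hX, hXF, fun y hy => hle hy.2⟩
  obtain ⟨h1, -, h3⟩ := leadsTo_facts hna C.bad.coatom hHN
  have hFN : FF N ≤ H := by
    refine FF_le_of_primes fun q hq hqN => ?_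
    by_cases hqH : q ∣ Nat.card (Cfsg.fittingSubgroup H)
    · obtain ⟨r, hr, hrq, hne⟩ := hm q
      exact h3 q r hq hr hrq hqH (OO_ne_bot_dvd hr hne)
    · rw [C.kill hB hq (OO_eq_bot_of_not_dvd hq hqH) (h1 q hq hqH)]
      exact bot_le
  have hNH : Cfsg.leadsTo N H := ⟨FF N, fun e => hB.moved (e ▸ bot_le), le_rfl, fun y hy =>
    hFN ((GG_eq_FF hB.layer).le hy.1)⟩
  rcases uniqueness_symm hna H N C.bad.coatom hN hHN hNH with e | ⟨p, hp, h, -⟩
  · exact e ▸ hle
  · exact (C.not_pgroup hm hp h).elim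

/-- An element centralizing `[O_p(H), t]` lies in `H`. -/
theorem cent_comm_le_of {p : ℕ} (hp : Moved t H p)
    (hN : ∀ X : Subgroup G, X ≠ ⊥ → X ≤ FF H → Subgroup.centralizer ({t} : Set G) ≤ Subgroup.normalizer (X : Set G) →
      OO p H ≤ Subgroup.normalizer (X : Set G) → Subgroup.normalizer (X : Set G) ≤ H) {x : G}
    (hx : ∀ f ∈ OO p H, x * (f⁻¹ * (t * f * t⁻¹)) = f⁻¹ * (t * f * t⁻¹) * x) : x ∈ H := by
  set S : Set G := {c | ∃ f ∈ OO p H, c = f⁻¹ * (t * f * t⁻¹)} with hS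
  set X := Subgroup.closure S with hX
  have hXO : X ≤ OO p H := (Subgroup.closure_le _).2 (by
    rintro c ⟨f, hf, rfl⟩
    exact mul_mem (inv_mem hf) (conj_OO C.bad.mem hf))
  obtain ⟨hpp, f₀, hf₀, hmv⟩ := hp
  have hne : X ≠ ⊥ := fun e => hmv (by
    have h1 : f₀⁻¹ * (t * f₀ * t⁻¹) ∈ X := Subgroup.subset_closure ⟨f₀, hf₀, rfl⟩
    rw [e, Subgroup.mem_bot, inv_mul_eq_one] at h1
    exact comm_of_conj_eq h1.symm)
  have hC : Subgroup.centralizer ({t} : Set G) ≤ Subgroup.normalizer (X : Set G) := fun c hc => by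
    refine normalizer_closure_of ?_
    rintro _ ⟨f, hf, rfl⟩
    refine Subgroup.subset_closure ⟨c * f * c⁻¹, conj_OO (C.bad.cent hc) hf, ?_⟩
    have hct' : c * t * c⁻¹ = t := conj_eq_self (mem_cent.1 hc)
    calc c * (f⁻¹ * (t * f * t⁻¹)) * c⁻¹ = (c * f * c⁻¹)⁻¹ * ((c * t * c⁻¹) * (c * f * c⁻¹) * (c * t * c⁻¹)⁻¹) := by
          group
      _ = _ := by rw [hct']
  refine hN X hne (hXO.trans (OO_le_FF hpp H)) hC (fun f₀ hf₀ => ?_) (Subgroup.centralizer_le_normalizer _ ?_)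
  · refine normalizer_closure_of ?_
    rintro _ ⟨f, hf, rfl⟩
    have h1 : (f * f₀⁻¹)⁻¹ * (t * (f * f₀⁻¹) * t⁻¹) ∈ X :=
      Subgroup.subset_closure ⟨_, mul_mem hf (inv_mem hf₀), rfl⟩
    have h2 : f₀⁻¹⁻¹ * (t * f₀⁻¹ * t⁻¹) ∈ X := Subgroup.subset_closure ⟨_, inv_mem hf₀, rfl⟩
    have := mul_mem h1 (inv_mem h2)
    rwa [show (f * f₀⁻¹)⁻¹ * (t * (f * f₀⁻¹) * t⁻¹) * (f₀⁻¹⁻¹ * (t * f₀⁻¹ * t⁻¹))⁻¹ =
      f₀ * (f⁻¹ * (t * f * t⁻¹)) * f₀⁻¹ by group] at this
  · rw [hX, Subgroup.centralizer_closure, Subgroup.mem_centralizer_iff]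
    rintro _ ⟨f, hf, rfl⟩
    exact (hx f hf).symm

theorem cent_comm_le (hm : Multi H) {p : ℕ} (hp : Moved t H p) {x : G}
    (hx : ∀ f ∈ OO p H, x * (f⁻¹ * (t * f * t⁻¹)) = f⁻¹ * (t * f * t⁻¹) * x) : x ∈ H := by
  obtain ⟨hpp, f, hf, hmv⟩ := id hp
  exact C.cent_comm_le_of hp (fun X hX hXF hC hFX => C.normalizer_le hm hX hXF hC
    ⟨f, OO_le_FF hpp H hf, hFX hf, hmv⟩) hx

theorem mid_leads {p : ℕ} (hp : p.Prime) {e : G} (he : e ∈ OO p H) (hep : orderOf e = p) {Y : Subgroup G}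
    (hY : Mid t v e Y) : Cfsg.leadsTo H Y := by
  haveI := Fact.mk hp
  have heF := OO_le_FF hp H he
  refine ⟨Subgroup.zpowers e, fun h => hp.ne_one ?_, Subgroup.zpowers_le.2 heF, fun y hy => hY.cent y ?_⟩
  · rw [← hep, ← Nat.card_zpowers, h, Subgroup.card_bot]
  set K := FF H ⊓ Subgroup.normalizer (Subgroup.zpowers e : Set G) with hK
  haveI : Group.IsNilpotent (FF H) := isNilpotent_FF
  haveI : Group.IsNilpotent K := Group.nilpotent_of_mulEquiv
    (G := K.subgroupOf (FF H)) (Subgroup.subgroupOfEquivOfLe inf_le_left)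
    (_h := inferInstance)
  have hPK : Subgroup.zpowers e ≤ K := le_inf (Subgroup.zpowers_le.2 heF) Subgroup.le_normalizer
  haveI : ((Subgroup.zpowers e).subgroupOf K).Normal :=
    (Subgroup.normal_subgroupOf_iff_le_normalizer hPK).2 inf_le_right
  have hne : (Subgroup.zpowers e).subgroupOf K ≠ ⊥ := fun h => hp.ne_one (by
    have h1 := Nat.card_congr (Subgroup.subgroupOfEquivOfLe hPK).toEquiv
    rw [h, Subgroup.card_bot, Nat.card_zpowers, hep] at h1
    exact h1.symm)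
  obtain ⟨z, hz, hz1⟩ :=
    (Subgroup.bot_or_exists_ne_one _).resolve_left (CfsgLib.inf_center_ne_bot_of_nilpotent hne)
  have hze : (z : G) ∈ Subgroup.zpowers e := hz.1
  have hyK : y ∈ K := ⟨C.GG_H.le hy.1, hy.2⟩
  have hcy : Commute y (z : G) := congrArg Subtype.val (Subgroup.mem_center_iff.1 hz.2 ⟨y, hyK⟩)
  obtain ⟨i, hi⟩ := Subgroup.mem_zpowers_iff.1
    (mem_zpowers_of_prime_card (G := Subgroup.zpowers e) (p := p) (by rw [Nat.card_zpowers, hep])
      (g := ⟨z, hze⟩) (g' := ⟨e, Subgroup.mem_zpowers e⟩) fun h => hz1 (Subtype.ext (congrArg Subtype.val h :)))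
  have hi' : (z : G) ^ i = e := congrArg Subtype.val hi
  exact hi' ▸ (hcy.zpow_right i).eq

theorem mid_disjoint {p : ℕ} (hp : p.Prime) {e : G} (he : e ∈ OO p H) (hep : orderOf e = p) {Y : Subgroup G}
    (hY : Mid t v e Y) {r : ℕ} (hr : r.Prime) (hrH : OO r H = ⊥) : OO r Y ⊓ H = ⊥ := by
  haveI := C.simp.simple
  exact (leadsTo_facts C.simp.noncomm C.bad.coatom (C.mid_leads hp he hep hY)).1 r hr (not_dvd_of_OO_eq_bot hr hrH)

/-- The hypothesis on the primes outside `F(H)`. -/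
def Extra (t v : G) (H : Subgroup G) (e : G) : Prop :=
  ∀ Y, Mid t v e Y → ∀ r : ℕ, r.Prime → OO r H = ⊥ → OO r Y = ⊥

theorem mid_FF_le (hm : Multi H) {p : ℕ} (hp : p.Prime) {e : G} (he : e ∈ OO p H) (hep : orderOf e = p)
    (hext : Extra t v H e) {Y : Subgroup G} (hY : Mid t v e Y) {r : ℕ} (hr : r.Prime) : OO r Y ≤ H := by
  haveI := C.simp.simple
  by_cases hd : r ∣ Nat.card (Cfsg.fittingSubgroup H)
  · obtain ⟨s, hs, hsr, hne⟩ := hm r
    exact (leadsTo_facts C.simp.noncomm C.bad.coatom (C.mid_leads hp he hep hY)).2.2 r s hr hs hsr hd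
      (OO_ne_bot_dvd hs hne)
  · rw [hext Y hY r hr (OO_eq_bot_of_not_dvd hr hd)]
    exact bot_le

/-- The layer of the normalizer cannot contain `w`. -/
theorem close_side {Y' A : Subgroup G} (hY' : Y' ≠ ⊤) {q : ℕ} (hq : q.Prime) (hq2 : q ≠ 2)
    (hA : IsPGroup q A) (hAcomm : ∀ a ∈ EE Y', ∀ b ∈ A, a * b = b * a)
    (hAnorm : Subgroup.centralizer (A : Set G) ≤ Y')
    (hside : Moved t H q ∨ ∃ d ∈ A, d ≠ 1 ∧ ∀ x : G, x * d = d * x → x ∈ H) (hv : v ∈ EE Y') : False := by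
  haveI := Fact.mk hq
  rcases hside with hqm | ⟨d, hdA, -, hd⟩
  · obtain ⟨f, hf, hfm⟩ := C.moved_Hc hqm C.invol
    have hAH : A ≤ Hc t H v := fun b hb => C.mem_Hc C.invol (hAcomm v hv b hb).symm
    refine hfm (centralizes_of_fixed hA (OO_isPGroup q (Hc t H v)) (fun b hb => mem_normalizer_OO (hAH hb))
      (mem_normalizer_OO (C.bad_Hc C.invol).mem) (by rw [C.invol]; exact (Nat.coprime_primes Nat.prime_two hq).2 (Ne.symm hq2))
      (fun b hb => (hAcomm v hv b hb).symm) (fun y hy hyA => ?_) f hf)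
    exact not_mem_layer C.simp C.ih hY' C.invol hv (C.odd_OO q hq C.invol)
      (fun c hc r hr => conj_OO (C.mem_Hc C.invol hc) hr) hy
      (hAnorm (Subgroup.mem_centralizer_iff.2 fun b hb => hyA b hb))
  · haveI := EE_isPerfect Y'
    exact C.not_mem_perfect (L := EE Y') (fun a ha => hd a (hAcomm a ha d hdA)) hv

/-- **The centralizer of `e` lies in `H`.** -/
theorem close (hm : Multi H) {p : ℕ} (hp : p.Prime) {e : G} (he : e ∈ OO p H) (hep : orderOf e = p)
    (hext : Extra t v H e) (hbase : ∃ Y, Mid t v e Y) (hmv : ∃ f ∈ FF H, f * e = e * f ∧ t * f ≠ f * t)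
    {q : ℕ} (hq : q.Prime) (hqp : q ≠ p) (hqH : OO q H ≠ ⊥)
    (hside : Moved t H q ∨ ((∀ x ∈ OO q H, t * x = x * t) ∧ ∀ d ∈ OO q H, orderOf d = q →
      (∀ x ∈ OO q H, d * x = x * d) → t * d = d * t → v * d = d * v → ∀ x : G, x * d = d * x → x ∈ H))
    {x₀ : G} (hx₀ : x₀ * e = e * x₀) : x₀ ∈ H := by
  haveI := C.simp.simple
  haveI := Fact.mk hp
  haveI := Fact.mk hq
  obtain ⟨Y₀, hY₀⟩ := hbase
  obtain ⟨Y, -, hYmax⟩ := Finite.exists_le_maximal (p := fun Y => Mid t v e Y) hY₀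
  have hY := hYmax.prop
  have hFFY : ∀ r, r.Prime → OO r Y ≤ H := fun r hr => C.mid_FF_le hm hp he hep hext hY hr
  have hqY : ∀ {r : ℕ}, r.Prime → r ≠ p → OO r H ≤ Y := fun hr hrp y hy => hY.cent y (OO_comm hr hp hrp hy he)
  -- `O_q(H)` meets `O_q(Y)`
  set D := OO q H ⊓ OO q Y with hD
  have hDne : D ≠ ⊥ := by
    intro hD0
    have hcen : ∀ x ∈ OO q H, ∀ s, s.Prime → ∀ y ∈ OO s Y, x * y = y * x := by
      intro x hx s hs y hy
      by_cases hsq : s = q
      · subst hsq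
        have h1 : x * y * x⁻¹ * y⁻¹ ∈ D := by
          refine ⟨?_, (OO s Y).mul_mem (conj_OO (hqY hq hqp hx) hy) ((OO s Y).inv_mem hy)⟩
          rw [show x * y * x⁻¹ * y⁻¹ = x * (y * x⁻¹ * y⁻¹) by group]
          exact mul_mem hx (conj_OO (hFFY s hs hy) (inv_mem hx))
        rw [hD0, Subgroup.mem_bot, mul_inv_eq_one, mul_inv_eq_iff_eq_mul] at h1
        exact h1
      · exact comm_of_OO hq hs (Ne.symm hsq) hx hy (hqY hq hqp hx) (hFFY s hs hy)
    refine hqH (eq_bot_iff.2 fun x hx => ?_)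
    obtain ⟨k, hk⟩ := OO_pow_order hq hx
    have hxY := mem_OO_of_FF hq (self_cent hY.layer (hqY hq hqp hx) (comm_FF_of_OO (hcen x hx))) hk
    exact hD0 ▸ (⟨hx, hxY⟩ : x ∈ D)
  have hq2 : q ≠ 2 := C.ne_two hqH
  have hA1 : OO q Y ≠ ⊥ := fun h => hDne (eq_bot_iff.2 fun y hy => h ▸ hy.2)
  set Y' := Subgroup.normalizer (OO q Y : Set G) with hY'def
  have hYY' : Y ≤ Y' := fun y hy => mem_normalizer_OO hy
  have hY'top : Y' ≠ ⊤ := normalizer_ne_top C.simp hA1 (OO_odd hq hq2 Y)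
  have hAY' : OO q Y ≤ OO q Y' := isPGroup_normal_le_OO (OO_isPGroup q Y) Subgroup.le_normalizer
    fun y hy x hx => mem_normalizer_of_mem hy hx
  have hAcomm : ∀ a ∈ EE Y', ∀ b ∈ OO q Y, a * b = b * a := fun a ha b hb =>
    comm_EE_FF ha (OO_le_FF hq Y' (hAY' hb))
  have hY'mid : Mid t v e Y' := by
    refine ⟨hY'top, hYY' hY.left, hYY' hY.right, fun x hx => hYY' (hY.cent x hx), ?_, ?_⟩
    · by_contra hE
      have hcent : Subgroup.centralizer (OO q Y : Set G) ≤ Y' := Subgroup.centralizer_le_normalizer _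
      -- the piece used by `close_side`
      have hside' : ∀ w : G, (∀ d : G, t * d = d * t → w * d = d * w → v * d = d * v) → w ∈ EE Y' →
          Moved t H q ∨ ∃ d ∈ OO q Y, d ≠ 1 ∧ ∀ x : G, x * d = d * x → x ∈ H := by
        intro w hwv hw
        refine hside.imp_right fun ⟨hfix, hd⟩ => ?_
        obtain ⟨d, hdD, hdo, hdc⟩ := CfsgLib.Comp.exists_central_in_normal (p := q) (OO_isPGroup q H)
          (inf_le_left : D ≤ OO q H) (fun y hy => Subgroup.mem_normalizer_fintype fun z hz =>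
            ⟨(OO q H).mul_mem ((OO q H).mul_mem hy hz.1) ((OO q H).inv_mem hy), conj_OO (hqY hq hqp hy) hz.2⟩) hDne
        exact ⟨d, hdD.2, fun h => hq.ne_one (by rw [← hdo, h, orderOf_one]),
          hd d hdD.1 hdo (fun x hx => (hdc x hx).symm) (hfix d hdD.1)
            (hwv d (hfix d hdD.1) (hAcomm w hw d hdD.2))⟩
      rcases C.layer_cases (hYY' hY.left) (hYY' hY.right) hE with htE | ⟨-, hw | hw⟩
      · obtain ⟨f, hf, hfe, hfm⟩ := hmv
        exact hfm (not_mem_layer C.simp C.ih hY'top C.bad.invol htE C.bad.odd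
          (fun c hc r hr => conj_FF (C.cent_le hc) hr) hf (hYY' (hY.cent f hfe)))
      · exact C.close_side hY'top hq hq2 (OO_isPGroup q Y) hAcomm hcent (hside' v (fun d _ h => h) hw) hw
      · refine C.symm.close_side hY'top hq hq2 (OO_isPGroup q Y) hAcomm hcent (hside' _ (fun d h1 h2 => ?_) hw) hw
        have h3 := ((show Commute t d from h1).mul_left (show Commute (t * v) d from h2)).eq
        rwa [C.tv_tv] at h3
    · by_contra hO
      obtain ⟨w, hw, hwY, hwo⟩ : ∃ w ∈ OO 2 Y', w ∈ Y ∧ orderOf w = 2 := by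
        rcases C.two_cases (hYY' hY.left) (hYY' hY.right) hO with h | h | h
        · exact ⟨t, h, hY.left, C.bad.invol⟩
        · exact ⟨v, h, hY.right, C.invol⟩
        · exact ⟨t * v, h, mul_mem hY.left hY.right, C.tv_invol⟩
      have := isPGroup_normal_le_OO (R := OO 2 Y' ⊓ Y) ((OO_isPGroup 2 Y').to_le inf_le_left) inf_le_right
        (fun y hy z hz => ⟨conj_OO (hYY' hy) hz.1, Y.mul_mem (Y.mul_mem hy hz.2) (Y.inv_mem hy)⟩) ⟨hw, hwY⟩
      rw [hY.two, Subgroup.mem_bot] at this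
      exact ne_one_of_invol hwo this
  have hYeq : Y' = Y := le_antisymm (hYmax.2 hY'mid hYY') hYY'
  -- the two groups `W_p` agree
  have heH : e ∈ H := OO_le he
  have heY : e ∈ Y := hY.cent e rfl
  have h1 : WW p H ≤ WW p Y := by
    refine (Subgroup.closure_le _).2 ?_
    rintro x ⟨hxH, ⟨k, hk⟩, hxc⟩
    have hcomm : ∀ r, r.Prime → r ≠ p → ∀ u ∈ OO r Y, x * u = u * x := by
      intro r hr hrp u hu
      have huH := hFFY r hr hu
      refine comm_of_cross C.bad.layer hp hr hrp hxH hk hxc hu huH fun s hs hsr y hy => ?_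
      by_cases hsp : s = p
      · subst hsp
        have hue : Commute u e := comm_of_OO hr hs hrp hu he huH heY
        refine centralizes_of_fixed (A := Subgroup.zpowers e) ((IsPGroup.of_card (n := 1) (by
            rw [Nat.card_zpowers, hep, pow_one]) : IsPGroup s _)) (OO_isPGroup s H)
          (Subgroup.zpowers_le.2 (mem_normalizer_OO heH)) (mem_normalizer_OO huH) ?_ ?_ ?_ y hy
        · obtain ⟨j, hj⟩ := OO_pow_order hr hu
          exact hj ▸ Nat.Coprime.pow_left j ((Nat.coprime_primes hr hs).2 hrp)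
        · intro a ha
          obtain ⟨i, rfl⟩ := Subgroup.mem_zpowers_iff.1 ha
          exact (hue.symm.zpow_left i).eq
        · intro z hz hze
          exact comm_of_OO hr hs hrp hu hz huH (hY.cent z (hze e (Subgroup.mem_zpowers e)).symm)
      · exact comm_of_OO hr hs (Ne.symm hsr) hu hy huH (hqY hs hsp hy)
    refine Subgroup.subset_closure ⟨?_, ⟨k, hk⟩, hcomm⟩
    rw [← hYeq]
    exact Subgroup.centralizer_le_normalizer _ (Subgroup.mem_centralizer_iff.2 fun u hu => (hcomm q hq hqp u hu).symm)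
  have h2 : WW p Y ≤ WW p H := by
    refine (Subgroup.closure_le _).2 ?_
    rintro x ⟨hxY, ⟨k, hk⟩, hxc⟩
    have hcomm : ∀ r, r.Prime → r ≠ p → ∀ u ∈ OO r H, x * u = u * x := fun r hr hrp u hu =>
      comm_of_cross hY.layer hp hr hrp hxY hk hxc hu (hqY hr hrp hu) fun s hs hsr y hy =>
        comm_of_OO hr hs (Ne.symm hsr) hu hy (hqY hr hrp hu) (hFFY s hs hy)
    exact Subgroup.subset_closure ⟨C.cent_OO_le hqH (hcomm q hq hqp), ⟨k, hk⟩, hcomm⟩
  have heW : e ∈ WW p H := Subgroup.subset_closure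
    ⟨heH, ⟨1, by rw [hep, pow_one]⟩, fun r hr hrp y hy => (OO_comm hr hp hrp hy he).symm⟩
  have hWne : WW p H ≠ ⊥ := fun h => by
    rw [h, Subgroup.mem_bot] at heW
    rw [heW, orderOf_one] at hep
    exact hp.ne_one hep.symm
  have hN := C.normalizer_eq (A := WW p H) ((Subgroup.closure_le _).2 fun x hx => hx.1) hWne fun a ha => WW_conj ha
  have hx' : x₀ ∈ Subgroup.normalizer (WW p H : Set G) := by
    rw [le_antisymm h1 h2]
    exact WW_conj (hY.cent x₀ hx₀)
  exact hN.le hx'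

end Ctx

end CfsgLib.BG
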