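import Cfsg.Agent.Lib.Coprime
import Cfsg.Agent.Lib.CoprimeGen
import Cfsg.Agent.S1124

/-!
Coprime action lemmas for the Bender–Glauberman theorem.

* `centralizes_of_inverted`: a coprime element inverted by `τ` centralizing `C_P(τ)` centralizes `P`.
* `centralizes_of_fixed`: the `A × B` lemma for elements.
* `exists_inverted`: an involution moving an odd group inverts some element of prime order.
* `exists_eigen`: eigenvectors of a four group on an abelian group of odd order.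
* `inverted_of_centralizer_le`: if `C(w) ≤ C(t)` then `t`-inverted elements are centralized by `t w`.
-/

set_option autoImplicit false
set_option linter.unusedSectionVars false

namespace CfsgLib.BG

open Cfsg

variable {G : Type*} [Group G] [Finite G]

/-- Normalized by one element. -/
theorem zpowers_le_normalizer {P : Subgroup G} {x : G} (h : ∀ y ∈ P, x * y * x⁻¹ ∈ P) :
    Subgroup.zpowers x ≤ Subgroup.normalizer (P : Set G) :=
  Subgroup.zpowers_le.2 (Subgroup.mem_normalizer_fintype h)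

theorem mem_normalizer_of_mem {P : Subgroup G} {x : G} (h : x ∈ Subgroup.normalizer (P : Set G)) {y : G}
    (hy : y ∈ P) : x * y * x⁻¹ ∈ P :=
  (Subgroup.mem_normalizer_iff.1 h y).1 hy

theorem inv_conj_mem {P : Subgroup G} {x : G} (h : x ∈ Subgroup.normalizer (P : Set G)) {y : G}
    (hy : y ∈ P) : x⁻¹ * y * x ∈ P := by
  simpa using mem_normalizer_of_mem ((Subgroup.normalizer _).inv_mem h) hy

theorem invol_inv {τ : G} (hτ : orderOf τ = 2) : τ⁻¹ = τ :=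
  inv_eq_of_mul_eq_one_right (by rw [← sq, ← hτ, pow_orderOf_eq_one])

theorem invol_mul_self {τ : G} (hτ : orderOf τ = 2) : τ * τ = 1 := by rw [← sq, ← hτ, pow_orderOf_eq_one]

theorem eq_one_of_sq {P : Subgroup G} (hP : Odd (Nat.card P)) {a : G} (ha : a ∈ P) (h : a * a = 1) : a = 1 :=
  orderOf_eq_one_iff.1 (Nat.eq_one_of_dvd_coprimes (Nat.coprime_two_left.2 hP)
    (orderOf_dvd_of_pow_eq_one (by rw [sq, h])) (Subgroup.orderOf_dvd_natCard P ha))

theorem mem_of_sq_mem {P Q : Subgroup G} (hP : Odd (Nat.card P)) {a : G} (ha : a ∈ P) (h : a * a ∈ Q) : a ∈ Q := by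
  obtain ⟨j, hj⟩ := hP.of_dvd_nat (Subgroup.orderOf_dvd_natCard P ha)
  have : a = (a * a) ^ (j + 1) := by
    rw [← sq, ← pow_mul, show 2 * (j + 1) = orderOf a + 1 by omega, pow_succ, pow_orderOf_eq_one, one_mul]
  exact this ▸ pow_mem h _

/-- An element inverted by `τ`, of order prime to that of `P`, centralizing `C_P(τ)`. -/
theorem centralizes_of_inverted {P : Subgroup G} (hPn : Group.IsNilpotent P) (hPo : Odd (Nat.card P))
    {x τ : G} (hτ : orderOf τ = 2) (hxP : x ∈ Subgroup.normalizer (P : Set G))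
    (hτP : τ ∈ Subgroup.normalizer (P : Set G)) (hinv : τ * x * τ⁻¹ = x⁻¹) (hxo : Odd (orderOf x))
    (hcop : (orderOf x).Coprime (Nat.card P)) (hfix : ∀ y ∈ P, τ * y = y * τ → x * y = y * x) :
    ∀ y ∈ P, x * y = y * x := by
  set Q := P ⊓ Subgroup.centralizer ({x} : Set G) with hQ
  have hQmem : ∀ y, y ∈ Q ↔ y ∈ P ∧ x * y = y * x := fun y => by
    rw [hQ, Subgroup.mem_inf, Subgroup.mem_centralizer_singleton_iff]
    exact and_congr_right fun _ => eq_comm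
  suffices h : Q = P by
    intro y hy
    exact ((hQmem y).1 (h.symm ▸ hy)).2
  by_contra hne
  have hlt : Q < P := lt_of_le_of_ne inf_le_left hne
  have hτQ : τ ∈ Subgroup.normalizer (Q : Set G) := Subgroup.mem_normalizer_fintype fun y hy => by
    obtain ⟨hyP, hyx⟩ := (hQmem y).1 hy
    refine (hQmem _).2 ⟨mem_normalizer_of_mem hτP hyP, ?_⟩
    have h2 : Commute (τ * x * τ⁻¹) (τ * y * τ⁻¹) := (Commute.conj_iff τ).2 hyx
    rw [hinv] at h2
    simpa using h2.inv_left.eq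
  have hxQ : x ∈ Subgroup.normalizer (Q : Set G) := Subgroup.mem_normalizer_fintype fun y hy => by
    obtain ⟨-, hyx⟩ := (hQmem y).1 hy
    rwa [hyx, mul_inv_cancel_right]
  -- the normalizer of `Q` in `P` is larger
  haveI := hPn
  obtain ⟨k, hkP, hkN, hkQ⟩ : ∃ k ∈ P, k ∈ Subgroup.normalizer (Q : Set G) ∧ k ∉ Q := by
    have h1 : Q.subgroupOf P < ⊤ := lt_top_iff_ne_top.2 fun e =>
      hlt.not_ge (Subgroup.subgroupOf_eq_top.1 e)
    have h2 : Q.subgroupOf P < Subgroup.normalizer (Q.subgroupOf P : Set P) := Group.normalizerCondition_of_isNilpotent _ h1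
    obtain ⟨⟨k, hk⟩, hk1, hk2⟩ := SetLike.exists_of_lt h2
    refine ⟨k, hk, Subgroup.mem_normalizer_fintype fun y hy => ?_, fun h => hk2 (by simpa [Subgroup.mem_subgroupOf] using h)⟩
    have := mem_normalizer_of_mem hk1 (y := ⟨y, (hQmem y).1 hy |>.1⟩) (by simpa [Subgroup.mem_subgroupOf] using hy)
    simpa [Subgroup.mem_subgroupOf] using this
  set N := P ⊓ Subgroup.normalizer (Q : Set G) with hN
  have hNo : Odd (Nat.card N) := hPo.of_dvd_nat (Subgroup.card_dvd_of_le inf_le_left)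
  have hQN : Q ≤ N := le_inf inf_le_left Subgroup.le_normalizer
  have hτN : ∀ y ∈ N, τ * y * τ⁻¹ ∈ N := fun y hy =>
    ⟨mem_normalizer_of_mem hτP hy.1, mul_mem (mul_mem hτQ hy.2) ((Subgroup.normalizer _).inv_mem hτQ)⟩
  -- `τ` inverts `N / Q`
  have hneg : ∀ y ∈ N, y * (τ * y * τ⁻¹) ∈ Q := by
    intro y hy
    obtain ⟨p, ⟨hp1, hp2, hp3⟩, -⟩ := (Cfsg.Agent.S1124.result τ hτ N hNo hτN).1 y hy
    obtain ⟨hc1, hc2⟩ := Subgroup.mem_inf.1 hp1
    rw [Subgroup.mem_centralizer_singleton_iff] at hc2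
    have hcQ : p.1 ∈ Q := (hQmem _).2 ⟨hc1.1, hfix _ hc1.1 hc2.symm⟩
    have hzN : p.2 ∈ Subgroup.normalizer (Q : Set G) := by
      have : p.2 = p.1⁻¹ * y := by rw [hp3, inv_mul_cancel_left]
      rw [this]
      exact (Subgroup.normalizer _).mul_mem ((Subgroup.normalizer _).inv_mem hc1.2) hy.2
    have e : τ * y * τ⁻¹ = p.1 * p.2⁻¹ := by
      have hz : τ * p.2 * τ⁻¹ = p.2⁻¹ := hp2.2
      rw [hp3, show τ * (p.1 * p.2) * τ⁻¹ = (τ * p.1 * τ⁻¹) * (τ * p.2 * τ⁻¹) by group, hz,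
        ← hc2, mul_inv_cancel_right]
    rw [e, hp3, show p.1 * p.2 * (p.1 * p.2⁻¹) = p.1 * (p.2 * p.1 * p.2⁻¹) by group]
    exact Q.mul_mem hcQ (mem_normalizer_of_mem hzN hcQ)
  have hkN' : k ∈ N := ⟨hkP, hkN⟩
  have hxkN : ∀ y ∈ N, x * y * x⁻¹ ∈ N := fun y hy =>
    ⟨mem_normalizer_of_mem hxP hy.1, mul_mem (mul_mem hxQ hy.2) ((Subgroup.normalizer _).inv_mem hxQ)⟩
  -- `x²` fixes the coset of `k`
  have hfix2 : x * x * k * (x * x)⁻¹ * k⁻¹ ∈ Q := by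
    have h1 := mem_normalizer_of_mem ((Subgroup.normalizer _).inv_mem hxQ) (hneg _ (hxkN k hkN'))
    have h2 := hneg k hkN'
    have hx' : τ * (x * k * x⁻¹) * τ⁻¹ = x⁻¹ * (τ * k * τ⁻¹) * x := by
      rw [show τ * (x * k * x⁻¹) * τ⁻¹ = (τ * x * τ⁻¹) * (τ * k * τ⁻¹) * (τ * x * τ⁻¹)⁻¹ by group, hinv, inv_inv]
    rw [hx'] at h1
    have h3 : k * (x⁻¹ * x⁻¹ * (τ * k * τ⁻¹) * (x * x)) ∈ Q := by
      rw [show k * (x⁻¹ * x⁻¹ * (τ * k * τ⁻¹) * (x * x)) =
        x⁻¹ * (x * k * x⁻¹ * (x⁻¹ * (τ * k * τ⁻¹) * x)) * x⁻¹⁻¹ by group]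
      exact h1
    have h4 := mem_normalizer_of_mem (mul_mem hxQ hxQ) h3
    have h6 : x * x * k * (x * x)⁻¹ * k⁻¹ = (x * x * (k * (x⁻¹ * x⁻¹ * (τ * k * τ⁻¹) * (x * x))) * (x * x)⁻¹) *
        (k * (τ * k * τ⁻¹))⁻¹ := by group
    rw [h6]
    exact Q.mul_mem h4 (inv_mem h2)
  have hxA : x ∈ Subgroup.zpowers (x * x) := mem_of_sq_mem (P := Subgroup.zpowers x)
    (by rw [Nat.card_zpowers]; exact hxo) (Subgroup.mem_zpowers x) (Subgroup.mem_zpowers _)
  set A := Subgroup.zpowers (x * x) with hA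
  have hAN : A ≤ Subgroup.normalizer (P : Set G) := Subgroup.zpowers_le.2 (mul_mem hxP hxP)
  have hAQ : A ≤ Subgroup.normalizer (Q : Set G) := Subgroup.zpowers_le.2 (mul_mem hxQ hxQ)
  have hAdvd : (Nat.card A).Coprime (Nat.card P) := by
    refine hcop.coprime_dvd_left ?_
    rw [hA, Nat.card_zpowers]
    rw [← sq]
    exact orderOf_pow_dvd 2
  have hAK : A ≤ Subgroup.normalizer (N : Set G) :=
    Subgroup.zpowers_le.2 (Subgroup.mem_normalizer_fintype fun y hy =>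
      show x * x * y * (x * x)⁻¹ ∈ N by
        rw [show x * x * y * (x * x)⁻¹ = x * (x * y * x⁻¹) * x⁻¹ by group]
        exact hxkN _ (hxkN y hy))
  obtain ⟨c, ⟨hcN, hcA⟩, hkc⟩ := coprime_fixed_quotient hAK
    (hAdvd.coprime_dvd_right (Subgroup.card_dvd_of_le inf_le_left)) (Or.inl inferInstance) hQN
    inf_le_right hAQ hkN' (fun a ha => by
      -- all powers of `x²` fix the coset
      obtain ⟨i, rfl⟩ := Submonoid.mem_powers_iff .. |>.1 ((mem_powers_iff_mem_zpowers).2 ha)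
      induction i with
      | zero => simp
      | succ j ih =>
        have h := Q.mul_mem (mem_normalizer_of_mem ((Subgroup.normalizer _).mul_mem hxQ hxQ)
          (ih (pow_mem (Subgroup.mem_zpowers _) j))) hfix2
        rw [pow_succ']
        generalize (x * x) ^ j = b at h ⊢
        generalize x * x = a at h ⊢
        convert h using 1
        group)
  refine hkQ ?_
  have hcQ : c ∈ Q := (hQmem c).2 ⟨hcN.1, hcA x hxA⟩
  have := Q.mul_mem hcQ (inv_mem hkc)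
  rwa [show c * (k⁻¹ * c)⁻¹ = k by group] at this

/-- The `A × B` lemma for a subgroup `A` and an element `b`. -/
theorem centralizes_of_fixed {p : ℕ} [Fact p.Prime] {A U : Subgroup G} (hA : IsPGroup p A) (hU : IsPGroup p U)
    (hAU : A ≤ Subgroup.normalizer (U : Set G)) {b : G} (hbU : b ∈ Subgroup.normalizer (U : Set G))
    (hb : (orderOf b).Coprime p) (hAb : ∀ a ∈ A, a * b = b * a)
    (hfix : ∀ y ∈ U, (∀ a ∈ A, a * y = y * a) → b * y = y * b) : ∀ y ∈ U, b * y = y * b := by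
  have h := thompson_PxQ (P := A) (Q := Subgroup.zpowers b) hA (by rwa [Nat.card_zpowers]) (fun a ha q hq => by
      obtain ⟨i, rfl⟩ := Subgroup.mem_zpowers_iff.1 hq
      exact ((Commute.zpow_right (hAb a ha) i).eq).symm)
    U hU hAU (Subgroup.zpowers_le.2 hbU) (fun y hy q hq => by
      obtain ⟨i, rfl⟩ := Subgroup.mem_zpowers_iff.1 hq
      exact ((Commute.zpow_left (hfix y hy.1 fun a ha => hy.2 a ha) i).eq))
  exact fun y hy => (h (Subgroup.mem_zpowers b) y hy).symm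

/-- An involution moving a group of odd order inverts an element of prime order. -/
theorem exists_inverted {P : Subgroup G} (hPo : Odd (Nat.card P)) {τ : G} (hτ : orderOf τ = 2)
    (hτP : τ ∈ Subgroup.normalizer (P : Set G)) {y : G} (hy : y ∈ P) (hmv : τ * y ≠ y * τ) :
    ∃ a ∈ P, (orderOf a).Prime ∧ τ * a * τ⁻¹ = a⁻¹ := by
  obtain ⟨p, ⟨hp1, hp2, hp3⟩, -⟩ := (Cfsg.Agent.S1124.result τ hτ P hPo
    fun x hx => mem_normalizer_of_mem hτP hx).1 y hy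
  obtain ⟨-, hc⟩ := Subgroup.mem_inf.1 hp1
  rw [Subgroup.mem_centralizer_singleton_iff] at hc
  have hne : p.2 ≠ 1 := fun e => hmv (by rw [hp3, e, mul_one]; exact hc.symm)
  obtain ⟨q, hq, hqd⟩ := Nat.exists_prime_and_dvd (fun e => hne (orderOf_eq_one_iff.1 e))
  refine ⟨p.2 ^ (orderOf p.2 / q), pow_mem hp2.1 _, ?_, ?_⟩
  · rwa [orderOf_pow_orderOf_div (orderOf_pos _).ne' hqd]
  · rw [← conj_pow, hp2.2, inv_pow]

/-- A nontrivial abelian group of odd order contains an eigenvector of an involution. -/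
theorem exists_eigen_one {Z : Subgroup G} (hZo : Odd (Nat.card Z))
    (hab : ∀ a ∈ Z, ∀ b ∈ Z, a * b = b * a) (hZ : Z ≠ ⊥) {τ : G} (hτ : orderOf τ = 2)
    (hτZ : τ ∈ Subgroup.normalizer (Z : Set G)) :
    (∃ a ∈ Z, a ≠ 1 ∧ τ * a = a * τ) ∨ ∀ a ∈ Z, τ * a * τ⁻¹ = a⁻¹ := by
  refine or_iff_not_imp_left.2 fun hno => ?_
  push Not at hno
  intro a ha
  have ha' := mem_normalizer_of_mem hτZ ha
  have hττ := invol_mul_self hτ
  have hfixed : τ * (a * (τ * a * τ⁻¹)) = a * (τ * a * τ⁻¹) * τ := by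
    rw [show τ * (a * (τ * a * τ⁻¹)) = (τ * a * τ⁻¹) * (τ * τ) * a * (τ⁻¹) by group, hττ, mul_one, hab _ ha' _ ha,
      invol_inv hτ]
  have h1 : a * (τ * a * τ⁻¹) = 1 := by
    by_contra hne
    exact hno _ (mul_mem ha ha') hne hfixed
  exact eq_inv_of_mul_eq_one_right h1

/-- An element of prime order that each of two commuting involutions centralizes or inverts. -/
theorem exists_eigen {Z : Subgroup G} (hZo : Odd (Nat.card Z))
    (hab : ∀ a ∈ Z, ∀ b ∈ Z, a * b = b * a) (hZ : Z ≠ ⊥) {σ τ : G} (hσ : orderOf σ = 2) (hτ : orderOf τ = 2)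
    (hστ : σ * τ = τ * σ) (hσZ : σ ∈ Subgroup.normalizer (Z : Set G))
    (hτZ : τ ∈ Subgroup.normalizer (Z : Set G)) :
    ∃ a ∈ Z, (orderOf a).Prime ∧ (σ * a * σ⁻¹ = a ∨ σ * a * σ⁻¹ = a⁻¹) ∧
      (τ * a * τ⁻¹ = a ∨ τ * a * τ⁻¹ = a⁻¹) := by
  have key : ∃ a ∈ Z, a ≠ 1 ∧ (σ * a * σ⁻¹ = a ∨ σ * a * σ⁻¹ = a⁻¹) ∧
      (τ * a * τ⁻¹ = a ∨ τ * a * τ⁻¹ = a⁻¹) := by
    rcases exists_eigen_one hZo hab hZ hσ hσZ with ⟨a, ha, ha1, hσa⟩ | hinv
    · set W := Z ⊓ Subgroup.centralizer ({σ} : Set G) with hW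
      have hWne : W ≠ ⊥ := fun e => ha1 (Subgroup.mem_bot.1
        (e ▸ ⟨ha, Subgroup.mem_centralizer_singleton_iff.2 hσa.symm⟩))
      have hτW : τ ∈ Subgroup.normalizer (W : Set G) := Subgroup.mem_normalizer_fintype fun b hb => by
        refine ⟨mem_normalizer_of_mem hτZ hb.1, Subgroup.mem_centralizer_singleton_iff.2 ?_⟩
        have h1 : Commute b σ := Subgroup.mem_centralizer_singleton_iff.1 hb.2
        have h2 : Commute τ σ := hστ.symm
        exact ((h2.mul_left h1).mul_left h2.inv_left).eq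
      have hWab : ∀ x ∈ W, ∀ y ∈ W, x * y = y * x := fun x hx y hy => hab x hx.1 y hy.1
      rcases exists_eigen_one (hZo.of_dvd_nat (Subgroup.card_dvd_of_le inf_le_left)) hWab hWne hτ hτW with
        ⟨b, hb, hb1, hτb⟩ | hinv'
      · exact ⟨b, hb.1, hb1, Or.inl (mul_inv_eq_iff_eq_mul.2
          (Subgroup.mem_centralizer_singleton_iff.1 hb.2).symm), Or.inl (mul_inv_eq_iff_eq_mul.2 hτb)⟩
      · exact ⟨a, ha, ha1, Or.inl (mul_inv_eq_iff_eq_mul.2 hσa),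
          Or.inr (hinv' a ⟨ha, Subgroup.mem_centralizer_singleton_iff.2 hσa.symm⟩)⟩
    · rcases exists_eigen_one hZo hab hZ hτ hτZ with ⟨b, hb, hb1, hτb⟩ | hinv'
      · exact ⟨b, hb, hb1, Or.inr (hinv b hb), Or.inl (mul_inv_eq_iff_eq_mul.2 hτb)⟩
      · obtain ⟨a, ha, ha1⟩ := (Z.bot_or_exists_ne_one).resolve_left hZ
        exact ⟨a, ha, ha1, Or.inr (hinv a ha), Or.inr (hinv' a ha)⟩
  obtain ⟨a, ha, ha1, hσa, hτa⟩ := key
  obtain ⟨q, hq, hqd⟩ := Nat.exists_prime_and_dvd (fun e => ha1 (orderOf_eq_one_iff.1 e))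
  refine ⟨a ^ (orderOf a / q), pow_mem ha _, ?_, ?_, ?_⟩
  · rwa [orderOf_pow_orderOf_div (orderOf_pos _).ne' hqd]
  · rw [← conj_pow]; rcases hσa with e | e <;> rw [e] <;> simp
  · rw [← conj_pow]; rcases hτa with e | e <;> rw [e] <;> simp

/-- If `C_P(w) ≤ C(t)`, every element of `P` inverted by `t` is centralized by `t w`. -/
theorem inverted_of_centralizer_le {P : Subgroup G} (hPo : Odd (Nat.card P)) {t w : G} (ht : orderOf t = 2)
    (hw : orderOf w = 2) (htw : t * w = w * t) (htP : t ∈ Subgroup.normalizer (P : Set G))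
    (hwP : w ∈ Subgroup.normalizer (P : Set G)) (hle : ∀ y ∈ P, w * y = y * w → t * y = y * t)
    {f : G} (hf : f ∈ P) (hinv : t * f * t⁻¹ = f⁻¹) : (t * w) * f = f * (t * w) := by
  obtain ⟨p, ⟨hp1, hp2, hp3⟩, huniq⟩ := (Cfsg.Agent.S1124.result w hw P hPo
    fun x hx => mem_normalizer_of_mem hwP hx).1 f hf
  obtain ⟨hc1, hc2⟩ := Subgroup.mem_inf.1 hp1
  rw [Subgroup.mem_centralizer_singleton_iff] at hc2
  have hct : t * p.1 = p.1 * t := hle _ hc1 hc2.symm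
  have hiw : w * p.2 * w⁻¹ = p.2⁻¹ := hp2.2
  have htz : w * (t * p.2 * t⁻¹) * w⁻¹ = (t * p.2 * t⁻¹)⁻¹ := by
    rw [show w * (t * p.2 * t⁻¹) * w⁻¹ = (w * t) * p.2 * (w * t)⁻¹ by group, ← htw,
      show t * w * p.2 * (t * w)⁻¹ = t * (w * p.2 * w⁻¹) * t⁻¹ by group, hiw]
    group
  have hcz : w * (p.1 * p.2 * p.1⁻¹) * w⁻¹ = (p.1 * p.2 * p.1⁻¹)⁻¹ := by
    rw [show w * (p.1 * p.2 * p.1⁻¹) * w⁻¹ = (w * p.1 * w⁻¹) * (w * p.2 * w⁻¹) * (w * p.1 * w⁻¹)⁻¹ by group,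
      ← hc2, mul_inv_cancel_right, hiw]
    group
  -- two decompositions of `f⁻¹`
  have e1 : f⁻¹ = p.1⁻¹ * (p.1 * p.2⁻¹ * p.1⁻¹) := by rw [hp3]; group
  have e2 : f⁻¹ = p.1 * (t * p.2 * t⁻¹) := by
    rw [← hinv, hp3, show t * (p.1 * p.2) * t⁻¹ = (t * p.1 * t⁻¹) * (t * p.2 * t⁻¹) by group, hct,
      mul_inv_cancel_right]
  obtain ⟨q, -, hu⟩ := (Cfsg.Agent.S1124.result w hw P hPo fun x hx => mem_normalizer_of_mem hwP hx).1 f⁻¹
    (inv_mem hf)
  have a1 := hu (p.1⁻¹, p.1 * p.2⁻¹ * p.1⁻¹) ⟨inv_mem hp1, ⟨mul_mem (mul_mem hc1 (inv_mem hp2.1)) (inv_mem hc1), by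
    show w * (p.1 * p.2⁻¹ * p.1⁻¹) * w⁻¹ = _
    rw [show p.1 * p.2⁻¹ * p.1⁻¹ = (p.1 * p.2 * p.1⁻¹)⁻¹ by group, ← conj_inv, hcz]⟩, e1⟩
  have a2 := hu (p.1, t * p.2 * t⁻¹) ⟨hp1, ⟨mem_normalizer_of_mem htP hp2.1, htz⟩, e2⟩
  have hc0 : p.1⁻¹ = p.1 := congrArg Prod.fst (a1.trans a2.symm)
  have hc : p.1 = 1 := eq_one_of_sq hPo hc1 (by nth_rewrite 1 [← hc0]; rw [inv_mul_cancel])
  have hfw : w * f * w⁻¹ = f⁻¹ := by rw [hp3, hc, one_mul, hiw]
  refine mul_inv_eq_iff_eq_mul.1 ?_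
  rw [show t * w * f * (t * w)⁻¹ = t * (w * f * w⁻¹) * t⁻¹ by group, hfw, ← conj_inv, hinv, inv_inv]

end CfsgLib.BG
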