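import Cfsg.Agent.Lib.BG.Full

/-!
The configuration of the Bender–Glauberman theorem.

* `Ctx t u H`: `H` is `Bad`, `u` and `t u` are not fused to `t` in `H`.
* `Hc t H v`: the conjugate of `H` belonging to the involution `v`.
* `Ctx.centralizes_FF`, `Ctx.fixed_moved`, `Ctx.perfect_fuse`: the tools used everywhere.
-/

set_option autoImplicit false
set_option linter.unusedSectionVars false

namespace CfsgLib.BG

open Cfsg CfsgLib.GW CfsgLib.DihedralFusion CfsgLib.BenderMax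

universe u

variable {G : Type u} [Group G] [Finite G]

/-- A configuration. -/
structure Ctx (t v : G) (H : Subgroup G) : Prop where
  simp : Simp G
  ih : Smaller G
  bad : Bad t H
  invol : orderOf v = 2
  comm : t * v = v * t
  ne : v ≠ t
  not_fused : ∀ h ∈ H, h * t * h⁻¹ ≠ v
  not_fused' : ∀ h ∈ H, h * t * h⁻¹ ≠ t * v

/-- `p` is a prime of `F(H)` moved by `t`. -/
def Moved (t : G) (H : Subgroup G) (p : ℕ) : Prop :=
  p.Prime ∧ ∃ x ∈ OO p H, t * x ≠ x * t

theorem conj_eq_self {a x : G} (h : a * x = x * a) : a * x * a⁻¹ = x := mul_inv_eq_iff_eq_mul.2 h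

theorem comm_of_conj_eq {a x : G} (h : a * x * a⁻¹ = x) : a * x = x * a := mul_inv_eq_iff_eq_mul.1 h

open Classical in
/-- The conjugate of `H` belonging to `v`. -/
noncomputable def Hc (t : G) (H : Subgroup G) (v : G) : Subgroup G :=
  if h : ∃ g : G, g * t * g⁻¹ = v then cj (Classical.choose h) H else ⊥

theorem Hc_eq {t : G} {H : Subgroup G} (hC : Subgroup.centralizer ({t} : Set G) ≤ H) {v g : G}
    (hg : g * t * g⁻¹ = v) : Hc t H v = cj g H := by
  classical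
  have h : ∃ g : G, g * t * g⁻¹ = v := ⟨g, hg⟩
  rw [Hc, dif_pos h]
  set a := Classical.choose h
  have ha : a * t * a⁻¹ = v := Classical.choose_spec h
  have hmem : a⁻¹ * g ∈ H := hC (mem_cent.2 (comm_of_conj_eq (by
    calc a⁻¹ * g * t * (a⁻¹ * g)⁻¹ = a⁻¹ * (g * t * g⁻¹) * a := by group
      _ = t := by rw [hg, ← ha]; group)))
  conv_rhs => rw [show g = a * (a⁻¹ * g) by group, ← cj_cj, cj_eq_self hmem]

theorem Hc_cj {t : G} {H : Subgroup G} (hC : Subgroup.centralizer ({t} : Set G) ≤ H) {v w g a : G}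
    (hg : g * t * g⁻¹ = v) (ha : a * v * a⁻¹ = w) : Hc t H w = cj a (Hc t H v) := by
  rw [Hc_eq hC hg, cj_cj, Hc_eq hC (g := a * g)]
  rw [← ha, ← hg]; group

theorem isPGroup_normal_le_OO {r : ℕ} {Y R : Subgroup G} (hR : IsPGroup r R) (hRY : R ≤ Y)
    (hn : ∀ y ∈ Y, ∀ x ∈ R, y * x * y⁻¹ ∈ R) : R ≤ OO r Y := by
  haveI : (R.subgroupOf Y).Normal := ⟨fun x hx y => hn y y.2 x hx⟩
  intro x hx
  exact ⟨⟨x, hRY hx⟩,
    CfsgLib.le_pCore (N := R.subgroupOf Y) (hR.comap_of_injective _ Y.subtype_injective) hx, rfl⟩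

theorem eq_one_of_coprime_mem {x : G} {A B : Subgroup G} (hA : x ∈ A) (hB : x ∈ B)
    (h : (Nat.card A).Coprime (Nat.card B)) : x = 1 :=
  orderOf_eq_one_iff.1 (Nat.eq_one_of_dvd_coprimes h (Subgroup.orderOf_dvd_natCard _ hA)
    (Subgroup.orderOf_dvd_natCard _ hB))

theorem card_OO_coprime {r s : ℕ} (hr : r.Prime) (hs : s.Prime) (hrs : r ≠ s) (A B : Subgroup G) :
    (Nat.card (OO r A)).Coprime (Nat.card (OO s B)) := by
  haveI := Fact.mk hr
  haveI := Fact.mk hs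
  obtain ⟨i, hi⟩ := (OO_isPGroup r A).exists_card_eq
  obtain ⟨j, hj⟩ := (OO_isPGroup s B).exists_card_eq
  rw [hi, hj]
  exact Nat.coprime_pow_primes i j hr hs hrs

/-- Elements of normal subgroups of coprime orders of `A` and `B` that lie in both commute. -/
theorem comm_of_OO {r s : ℕ} (hr : r.Prime) (hs : s.Prime) (hrs : r ≠ s) {A B : Subgroup G} {x y : G}
    (hx : x ∈ OO r A) (hy : y ∈ OO s B) (hxB : x ∈ B) (hyA : y ∈ A) : x * y = y * x := by
  have h1 : x * y * x⁻¹ * y⁻¹ ∈ OO r A := by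
    rw [show x * y * x⁻¹ * y⁻¹ = x * (y * x⁻¹ * y⁻¹) by group]
    exact mul_mem hx (conj_OO hyA (inv_mem hx))
  have h2 : x * y * x⁻¹ * y⁻¹ ∈ OO s B := mul_mem (conj_OO hxB hy) (inv_mem hy)
  exact mul_inv_eq_iff_eq_mul.1 (mul_inv_eq_one.1 (eq_one_of_coprime_mem h1 h2 (card_OO_coprime hr hs hrs A B)))

/-- The `r`-part of the Fitting subgroup. -/
theorem mem_OO_of_FF {r : ℕ} (hr : r.Prime) {A : Subgroup G} {x : G} (hx : x ∈ FF A) {k : ℕ}
    (hk : orderOf x = r ^ k) : x ∈ OO r A := by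
  haveI := Fact.mk hr
  obtain ⟨y, hy, rfl⟩ := hx
  set F := Cfsg.fittingSubgroup A
  haveI hnil := CfsgLib.isNilpotent_fittingSubgroup (G := A)
  have hp : IsPGroup r (Subgroup.zpowers (⟨y, hy⟩ : F)) := IsPGroup.of_card (n := k) (by
    rw [Nat.card_zpowers, ← Subgroup.orderOf_coe, ← Subgroup.orderOf_coe]; exact hk)
  obtain ⟨P, hP⟩ := hp.exists_le_sylow
  have hPn : (P : Subgroup F).Normal :=
    (Group.isNilpotent_of_finite_tfae.out 0 3 rfl rfl).mp hnil r inferInstance P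
  refine ⟨y, CfsgLib.map_pCore_le r F ⟨⟨y, hy⟩, ?_, rfl⟩, rfl⟩
  rw [← CfsgLib.sylow_eq_pCore_of_normal P]
  exact hP (Subgroup.mem_zpowers _)

theorem OO_pow_order {r : ℕ} (hr : r.Prime) {A : Subgroup G} {x : G} (hx : x ∈ OO r A) :
    ∃ k : ℕ, orderOf x = r ^ k := by
  haveI := Fact.mk hr
  obtain ⟨k, hk⟩ := IsPGroup.iff_orderOf.1 (OO_isPGroup r A) ⟨x, hx⟩
  rw [Subgroup.orderOf_mk] at hk
  exact ⟨k, hk⟩

namespace Ctx

variable {t v : G} {H : Subgroup G} (C : Ctx t v H)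

include C

theorem t_invol : orderOf t = 2 := C.bad.invol

theorem tv_invol : orderOf (t * v) = 2 := orderOf_mul_invol C.bad.invol C.invol C.comm C.ne

theorem comm_tv : t * (t * v) = t * v * t := by rw [mul_assoc, ← C.comm]

theorem tv_ne : t * v ≠ t := fun e => ne_one_of_invol C.invol (mul_eq_left.1 e)

theorem tv_tv : t * (t * v) = v := by rw [← mul_assoc, invol_mul_self C.bad.invol, one_mul]

theorem symm : Ctx t (t * v) H :=
  ⟨C.simp, C.ih, C.bad, C.tv_invol, C.comm_tv, C.tv_ne, C.not_fused', by rw [C.tv_tv]; exact C.not_fused⟩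

theorem cent_le {x : G} (hx : x * t = t * x) : x ∈ H := C.bad.cent (mem_cent.2 hx)

theorem v_mem : v ∈ H := C.cent_le C.comm.symm

theorem Hc_self : Hc t H t = H := by
  rw [Hc_eq C.bad.cent (g := 1) (by group), cj_one]

theorem exists_Hc {w : G} (hw : orderOf w = 2) : ∃ g : G, g * t * g⁻¹ = w ∧ Hc t H w = cj g H := by
  obtain ⟨g, hg⟩ := C.simp.exists_conj t w C.bad.invol hw
  exact ⟨g, hg, Hc_eq C.bad.cent hg⟩

theorem bad_Hc {w : G} (hw : orderOf w = 2) : Bad w (Hc t H w) := by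
  obtain ⟨g, hg, e⟩ := C.exists_Hc hw
  rw [e, ← hg]
  exact C.bad.cj g

theorem mem_Hc {w : G} (hw : orderOf w = 2) {x : G} (hx : x * w = w * x) : x ∈ Hc t H w :=
  (C.bad_Hc hw).cent (mem_cent.2 hx)

theorem normalizer_H : Subgroup.normalizer (H : Set G) = H := by
  haveI := C.simp.simple
  by_contra hne
  have htop := C.bad.coatom.2 _ (lt_of_le_of_ne Subgroup.le_normalizer (Ne.symm hne))
  haveI : H.Normal := Subgroup.normalizer_eq_top_iff.1 htop
  rcases C.simp.simple.eq_bot_or_eq_top_of_normal H inferInstance with e | e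
  · have := C.bad.mem
    rw [e, Subgroup.mem_bot] at this
    exact ne_one_of_invol C.bad.invol this
  · exact C.bad.coatom.1 e

theorem Hc_ne : Hc t H v ≠ H := by
  obtain ⟨g, hg, e⟩ := C.exists_Hc C.invol
  intro h
  rw [e] at h
  refine C.not_fused g ?_ hg
  rw [← C.normalizer_H]
  exact Subgroup.mem_normalizer_fintype fun x hx => h ▸ conj_mem_cj hx

theorem OO_Hc_bot {r : ℕ} (hr : OO r H = ⊥) {w : G} (hw : orderOf w = 2) : OO r (Hc t H w) = ⊥ := by
  obtain ⟨g, -, e⟩ := C.exists_Hc hw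
  rw [e, OO_cj, hr, cj_eq_bot]

theorem moved_Hc {p : ℕ} (hp : Moved t H p) {w : G} (hw : orderOf w = 2) :
    ∃ f ∈ OO p (Hc t H w), w * f ≠ f * w := by
  obtain ⟨g, hg, e⟩ := C.exists_Hc hw
  obtain ⟨-, x, hx, hmv⟩ := hp
  refine ⟨g * x * g⁻¹, by rw [e, OO_cj]; exact conj_mem_cj hx, fun h => hmv ?_⟩
  have h' : Commute (g * t * g⁻¹) (g * x * g⁻¹) := by rw [hg]; exact h
  exact ((Commute.conj_iff g).1 h').eq

theorem odd_OO (r : ℕ) (hr : r.Prime) {w : G} (hw : orderOf w = 2) : Odd (Nat.card (OO r (Hc t H w))) :=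
  (C.bad_Hc hw).odd.of_dvd_nat (Subgroup.card_dvd_of_le (OO_le_FF hr _))

theorem ne_two {p : ℕ} (hp : OO p H ≠ ⊥) : p ≠ 2 := C.bad.ne_two hp

theorem moved_ne_bot {p : ℕ} (hp : Moved t H p) : OO p H ≠ ⊥ := fun e => by
  obtain ⟨-, x, hx, hmv⟩ := hp
  rw [e, Subgroup.mem_bot] at hx
  exact hmv (by rw [hx, mul_one, one_mul])

/-- An element of `H_w` inverted by `t` centralizing the fixed points of `t` in `F(H_w)` at its coprime
primes centralizes them. -/
theorem centralizes_OO {w : G} (hw : orderOf w = 2) (hwt : t * w = w * t) {s : ℕ} (hs : s.Prime) {x : G}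
    (hx : x ∈ Hc t H w) (hinv : t * x * t⁻¹ = x⁻¹) (hxo : Odd (orderOf x))
    (hcop : (orderOf x).Coprime s)
    (hfix : ∀ y ∈ OO s (Hc t H w), t * y = y * t → x * y = y * x) :
    ∀ y ∈ OO s (Hc t H w), x * y = y * x := by
  haveI := Fact.mk hs
  obtain ⟨k, hk⟩ := (OO_isPGroup s (Hc t H w)).exists_card_eq
  exact centralizes_of_inverted (OO_isPGroup s (Hc t H w)).isNilpotent (C.odd_OO s hs hw) C.bad.invol
    (mem_normalizer_OO hx) (mem_normalizer_OO (C.mem_Hc hw hwt)) hinv hxo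
    (hk ▸ Nat.Coprime.pow_right k hcop) hfix

/-- An element of `H_w` of order prime to `|F(H)|` centralizing `F(H_w)` is trivial. -/
theorem eq_one_of_centralizes {w : G} (hw : orderOf w = 2) {r : ℕ} (hr : r.Prime) (hrH : OO r H = ⊥) {x : G}
    (hx : x ∈ Hc t H w) {k : ℕ} (hk : orderOf x = r ^ k)
    (hc : ∀ s, s.Prime → ∀ y ∈ OO s (Hc t H w), x * y = y * x) : x = 1 := by
  have h := mem_OO_of_FF hr (self_cent (C.bad_Hc hw).layer hx (comm_FF_of_OO hc)) hk
  rwa [C.OO_Hc_bot hrH hw, Subgroup.mem_bot] at h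

/-- The elements of `O_p(H)` inverted by `t` centralize the other primes of `F(H_w)`. -/
theorem inverted_cent {w : G} (hw : orderOf w = 2) (hwt : t * w = w * t) {p q : ℕ} (hp : p.Prime) (hq : q.Prime)
    (hqp : q ≠ p) {a : G} (ha : a ∈ OO p H) (haw : a ∈ Hc t H w) (hinv : t * a * t⁻¹ = a⁻¹) :
    ∀ y ∈ OO q (Hc t H w), a * y = y * a := by
  obtain ⟨k, hk⟩ := OO_pow_order hp ha
  refine C.centralizes_OO hw hwt hq haw hinv (odd_orderOf (C.bad.odd) (OO_le_FF hp H ha))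
    (hk ▸ Nat.Coprime.pow_left k ((Nat.coprime_primes hp hq).2 (Ne.symm hqp))) fun y hy hty => ?_
  exact comm_of_OO hp hq (Ne.symm hqp) ha hy haw (C.cent_le hty.symm)

/-- A perfect subgroup of `H` contains only involutions fused to `t`. -/
theorem perfect_fuse {L : Subgroup G} [Group.IsPerfect L] (hLH : L ≤ H) {w : G} (hw : orderOf w = 2)
    (hwL : w ∈ L) : ∃ h ∈ H, h * t * h⁻¹ = w := by
  haveI : Fact (Nat.Prime 2) := ⟨Nat.prime_two⟩
  have hne : L ≠ ⊥ := fun e => ne_one_of_invol hw (by rwa [e, Subgroup.mem_bot] at hwL)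
  have hd := C.simp.dihedral.perfect_sub L hne
  obtain ⟨U, hU⟩ := hd.exists_klein_sub
  haveI := hU
  obtain ⟨S, htS, hSc⟩ := C.simp.exists_sylow C.bad.invol
  have hSH : (S : Subgroup G) ≤ H := fun s hs => C.cent_le (hSc s hs)
  obtain ⟨g, hg⟩ := exists_conj_le (S := S.subtype hSH) (T := U.map (Subgroup.inclusion hLH : L →* H))
    ((isPGroup_klein hU).map _)
  set f : U →* G := ((MulAut.conj (g : G)).toMonoidHom.comp L.subtype).comp U.subtype
  have hf : Function.Injective f := fun a b e =>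
    Subtype.ext (Subtype.ext ((MulAut.conj (g : G)).injective e))
  have hK : IsKleinFour f.range := isKleinFour_of_equiv (MonoidHom.ofInjective hf)
  have hfS : ∀ x ∈ f.range, x ∈ (S : Subgroup G) := by
    rintro _ ⟨a, rfl⟩
    have := hg ⟨_, ⟨a, a.2, rfl⟩, rfl⟩
    rwa [Sylow.coe_subtype, Subgroup.mem_subgroupOf] at this
  obtain ⟨a, ha⟩ := C.simp.dihedral.no_eight hK C.bad.invol fun x hx => (hSc x (hfS x hx)).symm
  have ha' : (g : G) * ((a : L) : G) * (g : G)⁻¹ = t := ha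
  have hao : orderOf (a : L) = 2 := by
    rw [← Subgroup.orderOf_coe, ← orderOf_conj (g : G), ha', C.bad.invol]
  obtain ⟨l, hl⟩ := isConj_iff.1 (hd.perfect_all_conj (a : L) ⟨w, hwL⟩ hao (by
    rw [← hw]; exact Subgroup.orderOf_mk w hwL))
  refine ⟨(l : G) * (g : G)⁻¹, mul_mem (hLH l.2) (inv_mem g.2), ?_⟩
  have hl' : (l : G) * ((a : L) : G) * (l : G)⁻¹ = w := congrArg Subtype.val hl
  rw [← hl', ← ha']
  group

theorem not_mem_perfect {L : Subgroup G} [Group.IsPerfect L] (hLH : L ≤ H) : v ∉ L := fun h => by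
  obtain ⟨a, ha, e⟩ := C.perfect_fuse hLH C.invol h
  exact C.not_fused a ha e

/-- With a swap, some element of `O_p(H_v)` fixed by `t` is moved by `v`. -/
theorem fixed_moved (hsw : ∃ s ∈ Subgroup.centralizer ({t} : Set G), s * v * s⁻¹ = t * v) {p : ℕ}
    (hp : Moved t H p) : ∃ f ∈ OO p (Hc t H v), t * f = f * t ∧ v * f ≠ f * v := by
  obtain ⟨s, hs, hsv⟩ := hsw
  -- some element of `O_p(H)` fixed by `t v` is moved by `t`
  have hex : ∃ y ∈ OO p H, (t * v) * y = y * (t * v) ∧ t * y ≠ y * t := by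
    by_contra hno
    push Not at hno
    have hu : ∀ y ∈ OO p H, v * y = y * v → t * y = y * t := by
      intro y hy hvy
      have hst : s * t = t * s := mem_cent.1 hs
      have h1 : Commute (t * v) (s * y * s⁻¹) := by
        rw [← hsv]; exact (Commute.conj_iff s).2 hvy
      have h2 := hno _ (conj_OO (C.cent_le hst) hy) h1
      have h3 : Commute (s * t * s⁻¹) (s * y * s⁻¹) := by rw [conj_eq_self hst]; exact h2
      exact ((Commute.conj_iff s).1 h3).eq
    obtain ⟨hpp, x, hx, hmv⟩ := hp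
    have hodd : Odd (Nat.card (OO p H)) := C.bad.odd.of_dvd_nat (Subgroup.card_dvd_of_le (OO_le_FF hpp _))
    obtain ⟨a, ha, hap, hinv⟩ := exists_inverted hodd C.bad.invol (mem_normalizer_OO C.bad.mem) hx hmv
    have h1 := inverted_of_centralizer_le hodd C.bad.invol C.invol C.comm (mem_normalizer_OO C.bad.mem)
      (mem_normalizer_OO C.v_mem) hu ha hinv
    have h2 := hno a ha h1
    rw [conj_eq_self h2] at hinv
    exact hap.ne_one (orderOf_eq_one_iff.2 (eq_one_of_sq hodd ha (eq_inv_iff_mul_eq_one.1 hinv)))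
  obtain ⟨y, hy, hy1, hy2⟩ := hex
  obtain ⟨g, hgt, hgv, hgtv⟩ := C.simp.three C.bad.invol C.invol C.comm C.ne
  refine ⟨g * y * g⁻¹, by rw [Hc_eq C.bad.cent hgt, OO_cj]; exact conj_mem_cj hy, ?_, fun h => hy2 ?_⟩
  · have h : Commute (g * (t * v) * g⁻¹) (g * y * g⁻¹) := (Commute.conj_iff g).2 hy1
    rw [hgtv] at h
    exact h.eq
  · have h' : Commute (g * t * g⁻¹) (g * y * g⁻¹) := by rw [hgt]; exact h
    exact ((Commute.conj_iff g).1 h').eq

/-- The layer of a proper subgroup containing `t` and `v` contains `t`, or there is a swap. -/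
theorem layer_cases {Y : Subgroup G} (htY : t ∈ Y) (hvY : v ∈ Y) (hE : EE Y ≠ ⊥) :
    t ∈ EE Y ∨ ((∃ s ∈ Subgroup.centralizer ({t} : Set G), s * v * s⁻¹ = t * v) ∧ (v ∈ EE Y ∨ t * v ∈ EE Y)) := by
  rcases C.simp.swap_or_sylow C.bad.invol C.invol C.comm C.ne with hsw | ⟨P, hP⟩
  · rcases meets_normal C.simp.dihedral C.bad.invol C.invol C.comm C.ne htY hvY EE_le
      (fun y hy x hx => conj_EE hy hx) (EE_dihedral C.simp hE).not_odd with h | h | h
    · exact Or.inl h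
    · exact Or.inr ⟨hsw, Or.inl h⟩
    · exact Or.inr ⟨hsw, Or.inr h⟩
  · refine Or.inl (mem_of_central C.simp (P := P) (by rw [hP]; exact four_le htY hvY) EE_le
      (fun y hy x hx => conj_EE hy hx) (EE_dihedral C.simp hE) C.bad.invol fun s hs => ?_)
    rw [hP] at hs
    exact four_comm C.bad.invol C.invol C.comm C.ne hs (left_mem_four _ _)

theorem two_cases {Y : Subgroup G} (htY : t ∈ Y) (hvY : v ∈ Y) (hO : OO 2 Y ≠ ⊥) :
    t ∈ OO 2 Y ∨ v ∈ OO 2 Y ∨ t * v ∈ OO 2 Y := by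
  refine meets_normal C.simp.dihedral C.bad.invol C.invol C.comm C.ne htY hvY OO_le
    (fun y hy x hx => conj_OO hy hx) fun hodd => hO ?_
  haveI : Fact (Nat.Prime 2) := ⟨Nat.prime_two⟩
  obtain ⟨k, hk⟩ := (OO_isPGroup 2 Y).exists_card_eq
  refine Subgroup.eq_bot_of_card_eq _ ?_
  rcases k with _ | k
  · rw [hk, pow_zero]
  · rw [hk] at hodd
    exact absurd hodd (Nat.not_odd_iff_even.2 ((Nat.even_pow).2 ⟨even_two, Nat.succ_ne_zero k⟩))

end Ctx

/-- A configuration exists. -/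
theorem exists_ctx (hs : Simp G) (ih : Smaller G) {t : G} {H : Subgroup G} (hB : Bad t H) :
    ∃ v, Ctx t v H := by
  haveI : Fact (Nat.Prime 2) := ⟨Nat.prime_two⟩
  obtain ⟨x, hxH, hx, hnf⟩ := not_all_fused hs hB
  have ht := hB.invol
  obtain ⟨S, htS, hSc⟩ := hs.exists_sylow ht
  have hSH : (S : Subgroup G) ≤ H := fun s hs => hB.cent (mem_cent.2 (hSc s hs))
  obtain ⟨g, hg⟩ := exists_conj_le (S := S.subtype hSH) (T := Subgroup.zpowers (⟨x, hxH⟩ : H))
    (IsPGroup.of_card (n := 1) (by rw [Nat.card_zpowers, Subgroup.orderOf_mk, hx]; rfl))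
  set v := (g : G) * x * (g : G)⁻¹ with hv
  have hvS : v ∈ (S : Subgroup G) := by
    have := hg ⟨_, Subgroup.mem_zpowers _, rfl⟩
    rwa [Sylow.coe_subtype, Subgroup.mem_subgroupOf] at this
  have hvo : orderOf v = 2 := (orderOf_conj _ _).trans hx
  have hnf' : ∀ h ∈ H, h * t * h⁻¹ ≠ v := fun h hh e => hnf ((g : G)⁻¹ * h) (mul_mem (inv_mem g.2) hh) (by
    calc (g : G)⁻¹ * h * t * ((g : G)⁻¹ * h)⁻¹ = (g : G)⁻¹ * (h * t * h⁻¹) * g := by group
      _ = x := by rw [e, hv]; group)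
  have hvt : v ≠ t := fun e => hnf' 1 (one_mem _) (by rw [e]; group)
  have hc : t * v = v * t := (hSc v hvS).symm
  refine ⟨v, hs, ih, hB, hvo, hc, hvt, hnf', ?_⟩
  intro h hh e
  have hvH : v ∈ H := hSH hvS
  rcases hs.swap_or_sylow ht hvo hc hvt with ⟨s, hs', hsv⟩ | ⟨P, hP⟩
  · refine hnf' (s⁻¹ * h) (mul_mem (inv_mem (hB.cent hs')) hh) ?_
    calc s⁻¹ * h * t * (s⁻¹ * h)⁻¹ = s⁻¹ * (h * t * h⁻¹) * s := by group
      _ = v := by rw [e, ← hsv]; group
  -- the four group is a Sylow subgroup of `H`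
  have hPH : (P : Subgroup G) ≤ H := by rw [hP]; exact four_le hB.mem hvH
  set P' := P.subtype hPH
  have hmem : ∀ {y : H}, (y : G) ∈ four t v → y ∈ (P' : Subgroup H) := fun hy => by
    rw [Sylow.coe_subtype, Subgroup.mem_subgroupOf, hP]; exact hy
  have hmem' : ∀ {y : H}, y ∈ (P' : Subgroup H) → (y : G) ∈ four t v := fun hy => by
    rwa [Sylow.coe_subtype, Subgroup.mem_subgroupOf, hP] at hy
  haveI : IsMulCommutative (P' : Subgroup H) := ⟨⟨fun a b => Subtype.ext (Subtype.ext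
    (four_comm ht hvo hc hvt (hmem' a.2) (hmem' b.2)))⟩⟩
  obtain ⟨n, hn, hne⟩ := P'.conj_eq_normalizer_conj_of_mem ⟨t, hB.mem⟩ ⟨h⁻¹, inv_mem hh⟩
    (hmem (left_mem_four _ _)) (hmem (by
      show h⁻¹⁻¹ * t * h⁻¹ ∈ four t v
      rw [inv_inv, e]
      exact mul_mem (left_mem_four _ _) (right_mem_four _ _)))
  set m := ((n : G))⁻¹ with hm
  have hmt : m * t * m⁻¹ = t * v := by
    rw [hm, inv_inv, ← e]
    have := congrArg Subtype.val hne
    simpa using this.symm
  have hmH : m ∈ H := inv_mem n.2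
  have hmN : ∀ y ∈ four t v, m * y * m⁻¹ ∈ four t v := by
    intro y hy
    have hyH : y ∈ H := hPH (hP.symm ▸ hy)
    exact hmem' ((Subgroup.mem_normalizer_iff.1 ((Subgroup.normalizer _).inv_mem hn) ⟨y, hyH⟩).1 (hmem hy))
  have hmv : m * v * m⁻¹ = v := by
    rcases (mem_four ht hvo hc).1 (hmN v (right_mem_four _ _)) with e' | e' | e' | e'
    · exact absurd (conj_eq_one_iff.1 e') (ne_one_of_invol hvo)
    · refine absurd ?_ (hnf' m⁻¹ (inv_mem hmH))
      calc m⁻¹ * t * m⁻¹⁻¹ = m⁻¹ * (m * v * m⁻¹) * m⁻¹⁻¹ := by rw [e']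
        _ = v := by group
    · exact e'
    · exact absurd (mul_left_cancel (mul_right_cancel (e'.trans hmt.symm))) hvt
  have hm2 : m * m * t * (m * m)⁻¹ = t := by
    calc m * m * t * (m * m)⁻¹ = m * (m * t * m⁻¹) * m⁻¹ := by group
      _ = m * (t * v) * m⁻¹ := by rw [hmt]
      _ = m * t * m⁻¹ * (m * v * m⁻¹) := by group
      _ = t := by rw [hmt, hmv, mul_assoc, invol_mul_self hvo, mul_one]
  obtain ⟨k, b, hb, hkb⟩ := Nat.exists_eq_pow_mul_and_not_dvd (orderOf_pos m).ne' 2 (by norm_num)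
  obtain ⟨j, hj⟩ : Odd b := Nat.not_even_iff_odd.1 fun h2 => hb (even_iff_two_dvd.1 h2)
  set z := m ^ b with hz
  have hzt : z * t * z⁻¹ = t * v := by
    have h2 : Commute ((m * m) ^ j) t := (show Commute (m * m) t from comm_of_conj_eq hm2).pow_left j
    have e2 : z = m * (m * m) ^ j := by rw [hz, hj, pow_succ', ← sq, pow_mul]
    rw [e2, show m * (m * m) ^ j * t * (m * (m * m) ^ j)⁻¹ = m * ((m * m) ^ j * t * ((m * m) ^ j)⁻¹) * m⁻¹ by
      group, conj_eq_self h2.eq, hmt]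
  have hzN : ∀ y ∈ four t v, z * y * z⁻¹ ∈ four t v := by
    have : m ∈ Subgroup.normalizer (four t v : Set G) := Subgroup.mem_normalizer_fintype hmN
    exact fun y hy => mem_normalizer_of_mem (pow_mem this b) hy
  have hz2 : IsPGroup 2 (Subgroup.zpowers z) := by
    refine IsPGroup.of_card (n := k) ?_
    rw [Nat.card_zpowers, hz, orderOf_pow' m (by omega), hkb, Nat.gcd_eq_right (dvd_mul_left b _),
      Nat.mul_div_cancel _ (by omega)]
  have hsup : IsPGroup 2 (Subgroup.zpowers z ⊔ four t v : Subgroup G) :=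
    hz2.to_sup_of_normal_right' (isPGroup_klein (isKleinFour_four ht hvo hc hvt)) (zpowers_le_normalizer hzN)
  have hzP : z ∈ four t v := by
    rw [← hP, ← P.is_maximal' hsup (by rw [hP]; exact le_sup_right)]
    exact Subgroup.mem_sup_left (Subgroup.mem_zpowers z)
  rw [conj_eq_self (four_comm ht hvo hc hvt hzP (left_mem_four _ _))] at hzt
  exact ne_one_of_invol hvo (mul_eq_left.1 hzt.symm)

end CfsgLib.BG
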