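import Cfsg.Agent.Lib.BG.Setup
import Cfsg.Agent.Lib.Comp.PTerminal

/-!
Involutions and four groups of a simple group with dihedral Sylow 2-subgroups.

* `four t u`: the four group of two commuting involutions.
* `Simp.all_conj`, `Simp.three`: one class of involutions, the three-cycle on a four group.
* `Simp.swap_or_sylow`: either `C(t)` swaps `u` and `t u`, or `⟨t, u⟩` is a Sylow 2-subgroup.
* `meets_normal`: a normal subgroup of even order meets a four group.
-/

set_option autoImplicit false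
set_option linter.unusedSectionVars false

namespace CfsgLib.BG

open Cfsg DihedralGroup CfsgLib.GW CfsgLib.DihedralFusion

universe u

variable {G : Type u} [Group G] [Finite G]

/-- The subgroup generated by two elements. -/
def four (t v : G) : Subgroup G := Subgroup.closure {t, v}

theorem left_mem_four (t v : G) : t ∈ four t v := Subgroup.subset_closure (Set.mem_insert _ _)

theorem right_mem_four (t v : G) : v ∈ four t v := Subgroup.subset_closure (Set.mem_insert_of_mem _ rfl)

theorem four_le {t v : G} {K : Subgroup G} (ht : t ∈ K) (hv : v ∈ K) : four t v ≤ K :=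
  (Subgroup.closure_le _).2 (by
    rintro x (rfl | hx)
    · exact ht
    · exact Set.mem_singleton_iff.1 hx ▸ hv)

theorem mem_four {t v : G} (ht : orderOf t = 2) (hv : orderOf v = 2) (hc : t * v = v * t) {x : G} :
    x ∈ four t v ↔ x = 1 ∨ x = t ∨ x = v ∨ x = t * v := by
  have htt := invol_mul_self ht
  have hvv := invol_mul_self hv
  refine ⟨fun hx => ?_, ?_⟩
  · let K : Subgroup G :=
      { carrier := {x | x = 1 ∨ x = t ∨ x = v ∨ x = t * v}
        one_mem' := Or.inl rfl
        mul_mem' := by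
          have a1 : t * (t * v) = v := by rw [← mul_assoc, htt, one_mul]
          have a2 : v * (t * v) = t := by rw [hc, ← mul_assoc, hvv, one_mul]
          have a3 : t * v * t = v := by rw [hc, mul_assoc, htt, mul_one]
          have a4 : t * v * v = t := by rw [mul_assoc, hvv, mul_one]
          have a5 : t * v * (t * v) = 1 := by rw [← mul_assoc, a3, hvv]
          rintro a b (rfl | rfl | rfl | rfl) (rfl | rfl | rfl | rfl) <;>
            simp [htt, hvv, ← hc, a1, a2, a3, a4, a5]
        inv_mem' := by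
          rintro a (rfl | rfl | rfl | rfl)
          · simp
          · simp [invol_inv ht]
          · simp [invol_inv hv]
          · simp [invol_inv ht, invol_inv hv, ← hc] }
    exact four_le (K := K) (Or.inr (Or.inl rfl)) (Or.inr (Or.inr (Or.inl rfl))) hx
  · rintro (rfl | rfl | rfl | rfl)
    · exact one_mem _
    · exact left_mem_four _ _
    · exact right_mem_four _ _
    · exact mul_mem (left_mem_four _ _) (right_mem_four _ _)

theorem ne_one_of_invol {t : G} (ht : orderOf t = 2) : t ≠ 1 := fun e => by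
  rw [e, orderOf_one] at ht
  omega

theorem orderOf_mul_invol {t v : G} (ht : orderOf t = 2) (hv : orderOf v = 2) (hc : t * v = v * t) (hne : v ≠ t) :
    orderOf (t * v) = 2 := by
  refine orderOf_eq_prime ?_ fun e => hne ?_
  · rw [(show Commute t v from hc).mul_pow, ← ht, pow_orderOf_eq_one, ht, ← hv, pow_orderOf_eq_one, one_mul]
  · rw [mul_eq_one_iff_inv_eq, invol_inv ht] at e
    exact e.symm

theorem isKleinFour_four {t v : G} (ht : orderOf t = 2) (hv : orderOf v = 2) (hc : t * v = v * t) (hne : v ≠ t) :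
    IsKleinFour (four t v) := by
  classical
  have hp : t * v ≠ 1 := ne_one_of_invol (orderOf_mul_invol ht hv hc hne)
  have h1 : t * v ≠ t := fun e => ne_one_of_invol hv (mul_eq_left.1 e)
  have h2 : t * v ≠ v := fun e => ne_one_of_invol ht (mul_eq_right.1 e)
  have hset : ((four t v : Subgroup G) : Set G) = ↑({1, t, v, t * v} : Finset G) := by
    ext x
    simp [mem_four ht hv hc]
  have hcard : Nat.card (four t v) = 4 := by
    rw [show Nat.card (four t v) = Nat.card ((four t v : Subgroup G) : Set G) from rfl, hset, Nat.card_coe_set_eq,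
      Set.ncard_coe_finset]
    rw [Finset.card_insert_of_notMem, Finset.card_insert_of_notMem, Finset.card_insert_of_notMem,
      Finset.card_singleton]
    all_goals simp [Ne.symm h2, Ne.symm hne, Ne.symm h1, Ne.symm (ne_one_of_invol ht),
      Ne.symm (ne_one_of_invol hv), Ne.symm hp]
  haveI : Nontrivial (four t v) := Finite.one_lt_card_iff_nontrivial.1 (by omega)
  refine ⟨hcard, (Monoid.exponent_eq_prime_iff Nat.prime_two).2 fun x hx => ?_⟩
  rw [← Subgroup.orderOf_coe]
  rcases (mem_four ht hv hc).1 x.2 with e | e | e | e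
  · exact absurd (Subtype.ext e) hx
  · rw [e, ht]
  · rw [e, hv]
  · rw [e, orderOf_mul_invol ht hv hc hne]

/-- Commuting involutions lie in the four group. -/
theorem invol_cases (hd : GWDihedral G) {t v : G} (ht : orderOf t = 2) (hv : orderOf v = 2) (hc : t * v = v * t)
    (hne : v ≠ t) {z : G} (hz : orderOf z = 2) (hzt : z * t = t * z) (hzv : z * v = v * z) :
    z = t ∨ z = v ∨ z = t * v := by
  have h : z ∈ four t v := hd.no_eight (isKleinFour_four ht hv hc hne) hz fun x hx => by
    rcases (mem_four ht hv hc).1 hx with rfl | rfl | rfl | rfl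
    · rw [mul_one, one_mul]
    · exact hzt
    · exact hzv
    · exact ((show Commute z t from hzt).mul_right (show Commute z v from hzv)).eq
  exact ((mem_four ht hv hc).1 h).resolve_left (ne_one_of_invol hz)

theorem four_comm {t v : G} (ht : orderOf t = 2) (hv : orderOf v = 2) (hc : t * v = v * t) (hne : v ≠ t) {a b : G}
    (ha : a ∈ four t v) (hb : b ∈ four t v) : a * b = b * a :=
  (Subgroup.mem_centralizer_iff.1 (le_centralizer_klein (isKleinFour_four ht hv hc hne) ha) b hb).symm

/-- A subgroup of even order normalized by a four group contains one of its involutions. -/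
theorem meets_normal (hd : GWDihedral G) {t v : G} (ht : orderOf t = 2) (hv : orderOf v = 2) (hc : t * v = v * t)
    (hne : v ≠ t) {Y N : Subgroup G} (htY : t ∈ Y) (hvY : v ∈ Y) (hNY : N ≤ Y)
    (hn : ∀ y ∈ Y, ∀ x ∈ N, y * x * y⁻¹ ∈ N) (heven : ¬ Odd (Nat.card N)) :
    t ∈ N ∨ v ∈ N ∨ t * v ∈ N := by
  haveI : Fact (Nat.Prime 2) := ⟨Nat.prime_two⟩
  have hV : IsPGroup 2 ((four t v).subgroupOf Y) :=
    (isPGroup_klein (isKleinFour_four ht hv hc hne)).comap_of_injective _ Y.subtype_injective
  obtain ⟨P, hP⟩ := hV.exists_le_sylow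
  set N' : Subgroup Y := N.subgroupOf Y
  haveI hn' : N'.Normal := ⟨fun x hx y => hn y y.2 x hx⟩
  have hM : N' ⊓ (P : Subgroup Y) ≠ ⊥ := by
    intro e
    rw [Nat.not_odd_iff_even, even_iff_two_dvd] at heven
    rw [← Nat.card_congr (Subgroup.subgroupOfEquivOfLe hNY).toEquiv] at heven
    obtain ⟨z, hz⟩ := exists_prime_orderOf_dvd_card' (G := N') 2 heven
    rw [← Subgroup.orderOf_coe] at hz
    obtain ⟨g, hg⟩ := exists_conj_le (S := P) (T := Subgroup.zpowers (z : Y))
      (IsPGroup.of_card (n := 1) (by rw [Nat.card_zpowers, hz]; rfl))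
    have hmem : g * (z : Y) * g⁻¹ ∈ N' ⊓ (P : Subgroup Y) :=
      ⟨hn'.conj_mem _ z.2 g, hg ⟨z, Subgroup.mem_zpowers _, rfl⟩⟩
    rw [e, Subgroup.mem_bot, conj_eq_one_iff] at hmem
    rw [hmem, orderOf_one] at hz
    omega
  obtain ⟨z, hzM, hz, hzc⟩ := CfsgLib.Comp.exists_central_in_normal (p := 2) P.2
    (inf_le_right : N' ⊓ (P : Subgroup Y) ≤ P)
    (fun q hq => Subgroup.mem_normalizer_fintype fun x hx =>
      ⟨hn'.conj_mem x hx.1 q, (P : Subgroup Y).mul_mem ((P : Subgroup Y).mul_mem hq hx.2) ((P : Subgroup Y).inv_mem hq)⟩) hM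
  have h1 := hzc ⟨t, htY⟩ (hP (left_mem_four t v))
  have h2 := hzc ⟨v, hvY⟩ (hP (right_mem_four t v))
  rw [← Subgroup.orderOf_coe] at hz
  have hzN : (z : G) ∈ N := hzM.1
  rcases invol_cases hd ht hv hc hne hz (congrArg Subtype.val h1).symm (congrArg Subtype.val h2).symm with e | e | e
  · exact Or.inl (e ▸ hzN)
  · exact Or.inr (Or.inl (e ▸ hzN))
  · exact Or.inr (Or.inr (e ▸ hzN))

section

variable (h : Simp G)

include h

theorem Simp.index_ne_two (H : Subgroup G) : H.index ≠ 2 := by
  intro hH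
  haveI := Subgroup.normal_of_index_eq_two hH
  rcases h.simple.eq_bot_or_eq_top_of_normal H inferInstance with e | e
  · rw [e, Subgroup.index_bot] at hH
    haveI : Fact (Nat.Prime 2) := ⟨Nat.prime_two⟩
    haveI : IsCyclic G := isCyclic_of_prime_card hH
    exact h.noncomm IsCyclic.isMulCommutative
  · rw [e, Subgroup.index_top] at hH
    exact absurd hH (by norm_num)

/-- One class of involutions. -/
theorem Simp.all_conj (a b : G) (ha : orderOf a = 2) (hb : orderOf b = 2) : IsConj a b := by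
  obtain ⟨S, n, hn, ⟨eS⟩⟩ := h.dihedral
  refine all_conj_of_not_lacking eS hn (fun U hU hK hL => ?_) a b ha hb
  obtain ⟨H, hH⟩ := exists_index_two_of_lacking eS hn hU hK hL
  exact h.index_ne_two H hH

theorem Simp.exists_conj (a b : G) (ha : orderOf a = 2) (hb : orderOf b = 2) : ∃ g : G, g * a * g⁻¹ = b :=
  isConj_iff.1 (h.all_conj a b ha hb)

/-- A Sylow 2-subgroup in the centralizer of an involution. -/
theorem Simp.exists_sylow {t : G} (ht : orderOf t = 2) :
    ∃ S : Sylow 2 G, t ∈ (S : Subgroup G) ∧ ∀ s ∈ (S : Subgroup G), s * t = t * s := by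
  haveI : Fact (Nat.Prime 2) := ⟨Nat.prime_two⟩
  obtain ⟨S, n, hn, ⟨eS⟩⟩ := h.dihedral
  have hne : (S : Subgroup G) ≠ ⊥ := fun e => by
    have h1 := Nat.card_congr eS.toEquiv
    rw [DihedralGroup.nat_card, e, Subgroup.card_bot] at h1
    omega
  obtain ⟨z, hzS, hz, hzc⟩ := CfsgLib.Comp.exists_central_in_normal (p := 2) S.2 le_rfl
    Subgroup.le_normalizer hne
  obtain ⟨g, hg⟩ := h.exists_conj z t hz ht
  refine ⟨g • S, ?_, fun s hs => ?_⟩
  · rw [Sylow.coe_subgroup_smul, ← hg]
    exact Subgroup.smul_mem_pointwise_smul _ (MulAut.conj g) _ hzS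
  · rw [Sylow.coe_subgroup_smul, Subgroup.mem_pointwise_smul_iff_inv_smul_mem] at hs
    have h1 := hzc _ hs
    simp only [MulAut.smul_def, MulAut.inv_def, MulAut.conj_symm_apply] at h1
    rw [← hg]
    calc s * (g * z * g⁻¹) = g * (g⁻¹ * s * g * z) * g⁻¹ := by group
      _ = g * (z * (g⁻¹ * s * g)) * g⁻¹ := by rw [h1]
      _ = g * z * g⁻¹ * s := by group

/-- The three-cycle of a four group. -/
theorem Simp.three {t v : G} (ht : orderOf t = 2) (hv : orderOf v = 2) (hc : t * v = v * t) (hne : v ≠ t) :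
    ∃ g : G, g * t * g⁻¹ = v ∧ g * v * g⁻¹ = t * v ∧ g * (t * v) * g⁻¹ = t := by
  haveI := isKleinFour_four ht hv hc hne
  haveI : Fact (Nat.Prime 2) := ⟨Nat.prime_two⟩
  obtain ⟨g, hg, ho, hgC⟩ : ∃ g ∈ Subgroup.normalizer ((four t v : Subgroup G) : Set G), Odd (orderOf g) ∧
      g ∉ Subgroup.centralizer ((four t v : Subgroup G) : Set G) := by
    by_contra hno
    push Not at hno
    obtain ⟨P, hP⟩ := (isPGroup_klein (X := G) (U := four t v) inferInstance).exists_le_sylow
    obtain ⟨n, hn, ⟨eP⟩⟩ := h.dihedral.shape P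
    obtain ⟨H, hH⟩ := exists_index_two_of_lacking eP hn hP inferInstance hno
    exact h.index_ne_two H hH
  have hto := orderOf_mul_invol ht hv hc hne
  have him : ∀ x ∈ four t v, orderOf x = 2 → g * x * g⁻¹ = t ∨ g * x * g⁻¹ = v ∨ g * x * g⁻¹ = t * v :=
    fun x hx ho => ((mem_four ht hv hc).1 ((Subgroup.mem_normalizer_iff.1 hg x).1 hx)).resolve_left fun e =>
      ne_one_of_invol ho (conj_eq_one_iff.1 e)
  have hinj : ∀ {x y : G}, g * x * g⁻¹ = g * y * g⁻¹ → x = y := fun e => mul_left_cancel (mul_right_cancel e)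
  have htwo : ∀ x, g * (g * x * g⁻¹) * g⁻¹ = x → g * x * g⁻¹ = x := by
    intro x e
    have h2 : Commute (g ^ 2) x := mul_inv_eq_iff_eq_mul.1 (by simpa [pow_two, mul_assoc] using e)
    obtain ⟨j, hj⟩ := ho
    have := h2.pow_left (j + 1)
    rw [← pow_mul, show 2 * (j + 1) = orderOf g + 1 by omega, pow_succ, pow_orderOf_eq_one, one_mul] at this
    exact mul_inv_eq_iff_eq_mul.2 this.eq
  have hprod : g * (t * v) * g⁻¹ = (g * t * g⁻¹) * (g * v * g⁻¹) := by group
  have hnt : t * v ≠ t := fun e => ne_one_of_invol hv (mul_eq_left.1 e)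
  have hnv : t * v ≠ v := fun e => ne_one_of_invol ht (mul_eq_right.1 e)
  have hfix : ¬ (g * t * g⁻¹ = t ∧ g * v * g⁻¹ = v) := fun ⟨e1, e2⟩ => hgC
    (Subgroup.mem_centralizer_iff.2 fun x hx => by
      have ex : g * x * g⁻¹ = x := by
        rcases (mem_four ht hv hc).1 hx with rfl | rfl | rfl | rfl
        · group
        · exact e1
        · exact e2
        · rw [hprod, e1, e2]
      exact (mul_inv_eq_iff_eq_mul.1 ex).symm)
  rcases him t (left_mem_four _ _) ht with e1 | e1 | e1
  · -- `t` is fixed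
    exfalso
    rcases him v (right_mem_four _ _) hv with e2 | e2 | e2
    · exact hne (hinj (e2.trans e1.symm))
    · exact hfix ⟨e1, e2⟩
    · refine hfix ⟨e1, htwo v ?_⟩
      rw [e2, hprod, e1, e2, ← mul_assoc, invol_mul_self ht, one_mul]
  · -- `t ↦ v`
    rcases him v (right_mem_four _ _) hv with e2 | e2 | e2
    · exact absurd ((htwo t (by rw [e1, e2])).symm.trans e1) (Ne.symm hne)
    · exact absurd (hinj (e1.trans e2.symm)) (Ne.symm hne)
    · refine ⟨g, e1, e2, ?_⟩
      rw [hprod, e1, e2, ← mul_assoc, ← hc, mul_assoc, invol_mul_self hv, mul_one]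
  · -- `t ↦ t v`
    rcases him v (right_mem_four _ _) hv with e2 | e2 | e2
    · refine ⟨g * g, ?_, ?_, ?_⟩
      · rw [show g * g * t * (g * g)⁻¹ = g * (g * t * g⁻¹) * g⁻¹ by group, e1, hprod, e1, e2, hc,
          mul_assoc, invol_mul_self ht, mul_one]
      · rw [show g * g * v * (g * g)⁻¹ = g * (g * v * g⁻¹) * g⁻¹ by group, e2, e1]
      · rw [show g * g * (t * v) * (g * g)⁻¹ = g * (g * (t * v) * g⁻¹) * g⁻¹ by group, hprod, e1, e2,
          hc, mul_assoc v, invol_mul_self ht, mul_one, e2]
    · exfalso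
      refine hnt ((htwo t ?_).symm.trans e1).symm
      rw [e1, hprod, e1, e2, mul_assoc, invol_mul_self hv, mul_one]
    · exact absurd (hinj (e1.trans e2.symm)) (Ne.symm hne)

/-- Either the centralizer of `t` swaps `v` and `t v`, or `⟨t, v⟩` is a Sylow 2-subgroup. -/
theorem Simp.swap_or_sylow {t v : G} (ht : orderOf t = 2) (hv : orderOf v = 2) (hc : t * v = v * t)
    (hne : v ≠ t) :
    (∃ s ∈ Subgroup.centralizer ({t} : Set G), s * v * s⁻¹ = t * v) ∨
      ∃ P : Sylow 2 G, (P : Subgroup G) = four t v := by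
  haveI := isKleinFour_four ht hv hc hne
  haveI : Fact (Nat.Prime 2) := ⟨Nat.prime_two⟩
  obtain ⟨S, htS, hSc⟩ := h.exists_sylow ht
  set C := Subgroup.centralizer ({t} : Set G)
  have hSC : (S : Subgroup G) ≤ C := fun s hs => mem_cent.2 (hSc s hs)
  have hVC : four t v ≤ C := four_le (mem_cent_self t) (mem_cent.2 hc.symm)
  obtain ⟨g, hg⟩ := exists_conj_le (S := (S.subtype hSC : Sylow 2 C)) (T := (four t v).subgroupOf C)
    ((isPGroup_klein (X := G) (U := four t v) inferInstance).comap_of_injective _ C.subtype_injective)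
  set P : Sylow 2 G := (g : G)⁻¹ • S with hPdef
  have hVP : four t v ≤ (P : Subgroup G) := fun x hx => by
    rw [hPdef, Sylow.coe_subgroup_smul, Subgroup.mem_pointwise_smul_iff_inv_smul_mem]
    have := hg ⟨⟨x, hVC hx⟩, hx, rfl⟩
    rw [Sylow.coe_subtype, Subgroup.mem_subgroupOf] at this
    simpa [MulAut.smul_def] using this
  have hPc : ∀ p ∈ (P : Subgroup G), p ∈ C := fun p hp => by
    rw [hPdef, Sylow.coe_subgroup_smul, Subgroup.mem_pointwise_smul_iff_inv_smul_mem] at hp
    have h1 : (g : G) * p * (g : G)⁻¹ ∈ C := hSC (by simpa [MulAut.smul_def] using hp)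
    simpa [mul_assoc] using mul_mem (mul_mem (inv_mem g.2) h1) g.2
  obtain ⟨n, hn, ⟨eP⟩⟩ := h.dihedral.shape P
  by_cases h4 : 4 ≤ n
  · refine Or.inl ?_
    obtain ⟨s, hsP, hs, hmove, -⟩ := exists_moving eP h4 hVP inferInstance
    refine ⟨s, hPc s hsP, ?_⟩
    have hst : s * t * s⁻¹ = t := mul_inv_eq_iff_eq_mul.2 (mem_cent.1 (hPc s hsP))
    rcases (mem_four ht hv hc).1 ((Subgroup.mem_normalizer_iff.1 hs v).1 (right_mem_four _ _)) with e | e | e | e
    · exact absurd (conj_eq_one_iff.1 e) (ne_one_of_invol hv)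
    · exact absurd (mul_left_cancel (mul_right_cancel (e.trans hst.symm))) hne
    · exfalso
      refine hmove (MulEquiv.ext fun x => Subtype.ext ?_)
      show s * (x : G) * s⁻¹ = x
      rcases (mem_four ht hv hc).1 x.2 with ex | ex | ex | ex <;> rw [ex]
      · group
      · exact hst
      · exact e
      · rw [show s * (t * v) * s⁻¹ = s * t * s⁻¹ * (s * v * s⁻¹) by group, hst, e]
    · exact e
  · refine Or.inr ⟨P, (Subgroup.eq_of_le_of_card_ge hVP ?_).symm⟩
    rw [show Nat.card (P : Subgroup G) = 4 from (card_eq_four_iff eP hn).2 h4]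
    exact (IsKleinFour.card_four (G := four t v)).ge

end

end CfsgLib.BG
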