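import Cfsg.Agent.Lib.GW.OrderFormula
import Cfsg.Agent.Lib.BG.Bad
import Cfsg.Agent.Lib.SmallOrder

/-!
A `Bad` subgroup does not fuse all its involutions.
-/

set_option autoImplicit false
set_option maxHeartbeats 800000
set_option linter.unusedSectionVars false

namespace CfsgLib.BG

open Cfsg CfsgLib.GW CfsgLib.BenderMax

universe u

theorem klein_two_comm : ∀ a b : DihedralGroup 2, a * b = b * a := by decide

variable {G : Type u} [Group G] [Finite G]

/-- A Klein four Sylow subgroup. -/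
theorem shape_four_fused (hone : ∀ a b : G, orderOf a = 2 → orderOf b = 2 → IsConj a b) (S : Sylow 2 G)
    (eS : (S : Subgroup G) ≃* DihedralGroup 2) {t : G} (htS : t ∈ (S : Subgroup G))
    (ht : orderOf t = 2) :
    ∃ ρ : ℚ, Shape 2 (Nat.card G) ρ ∧
      (Nat.card G : ℚ) = 8 * ρ * (Nat.card (Subgroup.centralizer ({t} : Set G)) : ℚ) ^ 3 /
        (Nat.card (Subgroup.centralizer ((S : Subgroup G) : Set G)) : ℚ) ^ 2 := by
  classical
  haveI := Fintype.ofFinite G
  haveI : Fact (Nat.Prime 2) := ⟨Nat.prime_two⟩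
  have hS4 : Nat.card S = 4 := (Nat.card_congr eS.toEquiv).trans DihedralGroup.nat_card
  obtain ⟨g₀, hg⟩ : 4 ∣ Nat.card G := hS4 ▸ Subgroup.card_subgroup_dvd_card (S : Subgroup G)
  have hg0 : Odd g₀ := by
    refine Nat.not_even_iff_odd.1 fun he => S.not_dvd_index ?_
    obtain ⟨r, hr⟩ := he
    have h := (S : Subgroup G).card_mul_index
    rw [show Nat.card (S : Subgroup G) = 4 from hS4, hg] at h
    have : (S : Subgroup G).index = g₀ := by omega
    exact ⟨r, by omega⟩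
  have hnc : ¬ ∃ N : Subgroup G, N.Normal ∧ Nat.card N = g₀ := by
    rintro ⟨N, hN, hNc⟩
    obtain ⟨v₁, v₂, h₁, -, o₁, -, ne₁, -, -⟩ := exists_reflections S le_rfl eS htS (fun s hs => by
      have h := congrArg eS.symm ((klein_two_comm (eS ⟨s, hs⟩) (eS ⟨t, htS⟩)))
      simp only [map_mul, MulEquiv.symm_apply_apply] at h
      exact congrArg Subtype.val h)
    obtain ⟨c, hc⟩ := isConj_iff.1 (hone t v₁ ht o₁)
    haveI := hN
    have hq : Nat.card (G ⧸ N) = 2 ^ 2 := by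
      have h := Subgroup.card_eq_card_quotient_mul_card_subgroup N
      rw [hg, hNc] at h
      exact (Nat.eq_of_mul_eq_mul_right hg0.pos h).symm
    haveI := IsPGroup.isMulCommutative_of_card_eq_prime_sq hq
    have hmem : t⁻¹ * v₁ ∈ N := by
      rw [← QuotientGroup.eq, ← hc]
      show QuotientGroup.mk' N t = QuotientGroup.mk' N (c * t * c⁻¹)
      rw [map_mul, map_mul, map_inv, IsMulCommutative.is_comm.comm (QuotientGroup.mk' N c), mul_inv_cancel_right]
    have hs : t⁻¹ * v₁ ∈ (S : Subgroup G) := mul_mem (inv_mem htS) h₁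
    have h1 := Nat.eq_one_of_dvd_coprimes (Nat.Coprime.pow_left 2 (Nat.coprime_two_left.2 hg0))
      ((Subgroup.orderOf_dvd_natCard _ hs).trans (dvd_of_eq (hS4.trans (by norm_num))))
      (hNc ▸ Subgroup.orderOf_dvd_natCard N hmem)
    exact ne₁ (inv_mul_eq_one.1 (orderOf_eq_one_iff.1 h1)).symm
  obtain ⟨-, hexp, hone'⟩ := CfsgLib.Blocks.klein_sylow_fusion hg0 hg hnc S
  have hK : IsKleinFour (S : Subgroup G) := by
    haveI : Nontrivial (S : Subgroup G) := Finite.one_lt_card_iff_nontrivial.1 (hS4 ▸ by norm_num)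
    exact ⟨hS4, (Monoid.exponent_eq_prime_iff Nat.prime_two).2 fun x hx =>
      orderOf_eq_prime (by rw [sq]; exact hexp x) hx⟩
  obtain ⟨M, hM⟩ := CfsgLib.Blocks.exists_isPModular Nat.prime_two
  obtain ⟨ζ₂, ζ₃, ζ₄, ε, hε, h02, h03, h23, h24, h34, hB, hval, d2, d3, d4, hrel⟩ :=
    Cfsg.Agent.S0948.result M hM S hK hone'
  have h04 : (ζ₄ : G → ℂ) ≠ fun _ => 1 := fun e => by
    have h := (hval t ht).2.2
    rw [e] at h
    norm_num at h
  obtain ⟨v2, v3, v4⟩ := hval t ht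
  have hdvd := fun χ : Cfsg.IrrCharacter G => CfsgLib.Blocks.charDegree_dvd_card χ
  have hrel1 := hrel 1 (by simp)
  simp only [← CfsgLib.Blocks.irr_charDegree_cast] at hrel1
  have hlin : 1 + (Cfsg.charDegree (ζ₂ : G → ℂ) : ℤ) + ε * (Cfsg.charDegree (ζ₃ : G → ℂ) : ℤ) -
      (Cfsg.charDegree (ζ₄ : G → ℂ) : ℤ) = 0 := by exact_mod_cast hrel1
  rcases hε with rfl | rfl
  · obtain ⟨k, hk1, hk2⟩ := Cfsg.Agent.S4480.result M hM g₀ hg0 hg hnc S t htS ht ζ₂ ζ₃ ζ₄ 1 1 (-1)
      hB ⟨h02, h03, h04, h23, h24, h34⟩ ⟨Or.inl rfl, Or.inl rfl, Or.inr rfl⟩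
      ⟨by simpa using v2, by simpa using v3, by simpa using v4⟩ (by norm_num) rfl
    set q := Cfsg.charDegree (ζ₄ : G → ℂ) with hq
    have hq1 : 1 < q := by omega
    refine ⟨(q : ℚ) * ((q : ℚ) + ((-1 : ℤ) : ℚ)) / ((q : ℚ) - ((-1 : ℤ) : ℚ)) ^ 2,
      Or.inl ⟨q, -1, Or.inr rfl, hq1, hdvd ζ₄, by omega, rfl⟩, ?_⟩
    have hH : (Nat.card (Subgroup.centralizer ((S : Subgroup G) : Set G)) : ℚ) ≠ 0 :=
      Nat.cast_ne_zero.2 Nat.card_pos.ne'
    have e1 : (4 : ℚ) * Nat.card (Subgroup.centralizer ({t} : Set G)) =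
        k * Nat.card (Subgroup.centralizer ((S : Subgroup G) : Set G)) * ((q : ℚ) + 1) := by
      exact_mod_cast hk1
    have hle : q ≤ q ^ 3 := Nat.le_self_pow (by norm_num) q
    have e2 : (8 : ℚ) * Nat.card G = (k : ℚ) ^ 3 *
        Nat.card (Subgroup.centralizer ((S : Subgroup G) : Set G)) * ((q : ℚ) ^ 3 - q) := by
      have h := congrArg (fun n : ℕ => (n : ℚ)) hk2
      push_cast [Nat.cast_sub hle] at h
      exact h
    have e3 : (Nat.card (Subgroup.centralizer ({t} : Set G)) : ℚ) =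
        k * Nat.card (Subgroup.centralizer ((S : Subgroup G) : Set G)) * ((q : ℚ) + 1) / 4 := by
      linarith
    have e4 : (Nat.card G : ℚ) = (k : ℚ) ^ 3 *
        Nat.card (Subgroup.centralizer ((S : Subgroup G) : Set G)) * ((q : ℚ) ^ 3 - q) / 8 := by
      linarith
    have hq2 : (q : ℚ) + 1 ≠ 0 := by positivity
    rw [e3, e4]
    push_cast
    field_simp
    ring
  · have hord := Cfsg.Agent.S4479.result M hM g₀ hg0 hg hnc S t htS ht ζ₂ ζ₃ ζ₄ 1 (-1) (-1)
      hB ⟨h02, h03, h04, h23, h24, h34⟩ ⟨Or.inl rfl, Or.inr rfl, Or.inr rfl⟩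
      ⟨by simpa using v2, by simpa using v3, by simpa using v4⟩
    set x := Cfsg.charDegree (ζ₂ : G → ℂ)
    set y := Cfsg.charDegree (ζ₃ : G → ℂ)
    set z := Cfsg.charDegree (ζ₄ : G → ℂ)
    rcases le_total y z with hyz | hyz
    · refine ⟨((x : ℚ) * y * z) / (((x : ℚ) + 1) * ((y : ℚ) - 1) * ((z : ℚ) - 1)),
        Or.inr ⟨rfl, x, y, z, by omega, hyz, by omega, by omega, by omega, by omega, hdvd _, hdvd _,
          hdvd _, rfl⟩, ?_⟩
      rw [hord]
      push_cast
      simp only [← sub_eq_add_neg]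
    · refine ⟨((x : ℚ) * z * y) / (((x : ℚ) + 1) * ((z : ℚ) - 1) * ((y : ℚ) - 1)),
        Or.inr ⟨rfl, x, z, y, by omega, hyz, by omega, by omega, by omega, by omega, hdvd _, hdvd _,
          hdvd _, rfl⟩, ?_⟩
      rw [hord]
      push_cast
      simp only [← sub_eq_add_neg]
      ring

theorem card_centralizer_sub {H : Subgroup G} (s : Set H)
    (hle : Subgroup.centralizer ((↑) '' s : Set G) ≤ H) :
    Nat.card (Subgroup.centralizer s) = Nat.card (Subgroup.centralizer ((↑) '' s : Set G)) := by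
  rw [← Subgroup.card_map_of_injective (f := H.subtype) H.subtype_injective]
  refine congrArg (fun K : Subgroup G => Nat.card K) ?_
  ext x
  constructor
  · rintro ⟨y, hy, rfl⟩
    rw [Subgroup.mem_centralizer_iff]
    rintro _ ⟨z, hz, rfl⟩
    exact congrArg Subtype.val (Subgroup.mem_centralizer_iff.1 hy z hz)
  · intro hx
    refine ⟨⟨x, hle hx⟩, Subgroup.mem_centralizer_iff.2 fun z hz => Subtype.ext ?_, rfl⟩
    exact Subgroup.mem_centralizer_iff.1 hx _ ⟨z, hz, rfl⟩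

/-- A lower bound for the ratio in the order formula. -/
theorem ratio_ge {x : ℕ} {d : ℤ} {M : ℕ} (hd : d = 1 ∨ d = -1) (hM : 1 ≤ M) (hx : 1 < x)
    (hxd : (M : ℤ) + 1 ≤ (x : ℤ) - d) :
    (M : ℚ) * ((M : ℚ) - 1) / ((M : ℚ) + 1) ^ 2 ≤ (x : ℚ) * ((x : ℚ) + d) / ((x : ℚ) - d) ^ 2 := by
  have hx2 : (2 : ℚ) ≤ x := by exact_mod_cast hx
  have hM1 : (1 : ℚ) ≤ M := by exact_mod_cast hM
  have h : (M : ℚ) + 1 ≤ (x : ℚ) - d := by exact_mod_cast hxd
  rcases hd with rfl | rfl <;> push_cast at h ⊢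
  · calc (M : ℚ) * ((M : ℚ) - 1) / ((M : ℚ) + 1) ^ 2 ≤ 1 := by
          rw [div_le_one (by positivity)]; nlinarith
      _ ≤ _ := by
          rw [le_div_iff₀ (by nlinarith)]; nlinarith
  · rw [div_le_div_iff₀ (by positivity) (by nlinarith)]
    nlinarith [mul_nonneg (show (0 : ℚ) ≤ x - M by linarith) (show (0 : ℚ) ≤ 3 * x * M + x + M - 1 by nlinarith)]

theorem shape_ge_big {m N : ℕ} {ρ : ℚ} (hm : 4 ≤ m) (h : Shape m N ρ) : 21 / 32 ≤ ρ := by
  obtain ⟨x, d, hd, hx, -, hdvd, rfl⟩ := h.exists_x (by omega)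
  have h8 : (8 : ℤ) ≤ (x : ℤ) - d := by
    have := Int.le_of_dvd (by omega) hdvd
    omega
  exact le_trans (by norm_num) (ratio_ge (M := 7) hd (by norm_num) hx (by simpa using h8))

theorem shape_ge_four {N : ℕ} {ρ : ℚ} (h : Shape 2 N ρ) : 3 / 8 ≤ ρ := by
  rcases h with ⟨x, d, hd, hx, -, hdvd, rfl⟩ | ⟨-, x, y, z, hy, hyz, hxy, -, -, -, -, -, -, rfl⟩
  · have h4 : (4 : ℤ) ≤ (x : ℤ) - d := by
      have := Int.le_of_dvd (by omega) hdvd
      omega
    exact le_trans (by norm_num) (ratio_ge (M := 3) hd (by norm_num) hx (by simpa using h4))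
  · have h3 : (3 : ℚ) ≤ y := by exact_mod_cast hy
    have h4 : (3 : ℚ) ≤ z := by exact_mod_cast hy.trans hyz
    have h5 : (5 : ℚ) ≤ x := by exact_mod_cast (show 5 ≤ x by omega)
    have h6 : (4 : ℚ) ≤ ((y : ℚ) - 1) * ((z : ℚ) - 1) := by nlinarith
    rw [le_div_iff₀ (by rw [mul_assoc]; exact mul_pos (by linarith) (by linarith))]
    nlinarith [mul_nonneg (show (0 : ℚ) ≤ x - 5 by linarith)
      (show (0 : ℚ) ≤ (y : ℚ) * z - ((y : ℚ) - 1) * ((z : ℚ) - 1) by nlinarith)]

/-- **A `Bad` subgroup does not fuse all its involutions.** -/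
theorem not_all_fused (hs : Simp G) {t : G} {H : Subgroup G} (hB : Bad t H) :
    ∃ x ∈ H, orderOf x = 2 ∧ ∀ h ∈ H, h * t * h⁻¹ ≠ x := by
  by_contra hno
  push Not at hno
  haveI := hs.simple
  haveI : Fact (Nat.Prime 2) := ⟨Nat.prime_two⟩
  have ht := hB.invol
  have honeH : ∀ a b : H, orderOf a = 2 → orderOf b = 2 → IsConj a b := by
    have h1 : ∀ a : H, orderOf a = 2 → IsConj (⟨t, hB.mem⟩ : H) a := fun a ha => by
      obtain ⟨h, hh, e⟩ := hno a a.2 (by rw [Subgroup.orderOf_coe, ha])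
      exact isConj_iff.2 ⟨⟨h, hh⟩, Subtype.ext e⟩
    exact fun a b ha hb => (h1 a ha).symm.trans (h1 b hb)
  obtain ⟨S, htS, hSc⟩ := hs.exists_sylow ht
  have hSH : (S : Subgroup G) ≤ H := fun s hs' => hB.cent (mem_cent.2 (hSc s hs'))
  obtain ⟨m, hm, ⟨eS⟩⟩ := hs.dihedral.shape S
  obtain ⟨v₁, v₂, h₁, h₂, o₁, o₂, ne₁, ne₂, o₁₂⟩ := exists_reflections S hm eS htS hSc
  set S' : Sylow 2 H := S.subtype hSH with hS'
  let eS' : (S' : Subgroup H) ≃* DihedralGroup m :=
    ((MulEquiv.subgroupCongr (Sylow.coe_subtype S hSH)).trans (Subgroup.subgroupOfEquivOfLe hSH)).trans eS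
  have htS' : (⟨t, hB.mem⟩ : H) ∈ (S' : Subgroup H) := by rw [hS', Sylow.coe_subtype]; exact htS
  have ht' : orderOf (⟨t, hB.mem⟩ : H) = 2 := by rw [← ht]; exact Subgroup.orderOf_mk t _
  have hCt : Nat.card (Subgroup.centralizer ({⟨t, hB.mem⟩} : Set H)) =
      Nat.card (Subgroup.centralizer ({t} : Set G)) := by
    rw [card_centralizer_sub] <;> rw [Set.image_singleton]
    exact hB.cent
  have hCv : ∀ (v : G) (hv : v ∈ (S : Subgroup G)),
      Nat.card (Subgroup.centralizer ({⟨t, hB.mem⟩, ⟨v, hSH hv⟩} : Set H)) =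
        Nat.card (Subgroup.centralizer ({t, v} : Set G)) := by
    intro v hv
    rw [card_centralizer_sub] <;> rw [Set.image_pair]
    exact (Subgroup.centralizer_le (Set.singleton_subset_iff.2 (Set.mem_insert _ _))).trans hB.cent
  have hpos : ∀ K : Subgroup G, (0 : ℚ) < Nat.card K := fun K => Nat.cast_pos.2 Nat.card_pos
  have hGH : (Nat.card G : ℚ) = Nat.card H * H.index := by exact_mod_cast H.card_mul_index.symm
  have hodd : ¬ 2 ∣ H.index := fun h => S.not_dvd_index (h.trans (Subgroup.index_dvd_of_le hSH))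
  have hH1 : H.index ≠ 1 := fun e => hB.coatom.1 (Subgroup.index_eq_one.1 e)
  obtain ⟨ρ, hρ, hρ0, hρ1, hfG⟩ := order_formula hs.noncomm hs.all_conj S hm eS ht htS hSc h₁ h₂ o₁ o₂ ne₁ ne₂ o₁₂
  by_cases hm4 : 4 ≤ m
  · obtain ⟨σ, hσ, hfH⟩ := shape_big honeH S' hm4 eS' ht' htS' (fun s hs' => by
        rw [hS', Sylow.coe_subtype] at hs'
        exact Subtype.ext (hSc _ hs'))
      (v₁ := ⟨v₁, hSH h₁⟩) (v₂ := ⟨v₂, hSH h₂⟩) (by rw [hS', Sylow.coe_subtype]; exact h₁)
      (by rw [hS', Sylow.coe_subtype]; exact h₂) (by rw [← o₁]; exact Subgroup.orderOf_mk v₁ _)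
      (by rw [← o₂]; exact Subgroup.orderOf_mk v₂ _) (fun e => ne₁ (congrArg Subtype.val e))
      (fun e => ne₂ (congrArg Subtype.val e)) (by rw [← o₁₂]; exact Subgroup.orderOf_mk (v₁ * v₂) (mul_mem (hSH h₁) (hSH h₂)))
    rw [hCt, hCv v₁ h₁, hCv v₂ h₂] at hfH
    have hσ1 := shape_ge_big hm4 hσ
    set A := (Nat.card (Subgroup.centralizer ({t} : Set G)) : ℚ) ^ 3 *
        (1 / (Nat.card (Subgroup.centralizer ({t, v₁} : Set G)) : ℚ) +
          1 / (Nat.card (Subgroup.centralizer ({t, v₂} : Set G)) : ℚ)) ^ 2 with hA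
    have hA0 : 0 < A := by
      have := hpos (Subgroup.centralizer ({t} : Set G))
      have := hpos (Subgroup.centralizer ({t, v₁} : Set G))
      have := hpos (Subgroup.centralizer ({t, v₂} : Set G))
      positivity
    have h3 : (H.index : ℚ) < 3 := by
      have e : (2 * ρ) * A = (2 * σ) * A * H.index := by
        rw [hA]; linear_combination -hfG + hGH + (H.index : ℚ) * hfH
      nlinarith [mul_le_mul_of_nonneg_right hρ1 hA0.le, mul_le_mul_of_nonneg_right hσ1 hA0.le]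
    have h3' : H.index < 3 := by exact_mod_cast h3
    have := H.index_ne_zero_of_finite
    omega
  · obtain rfl : m = 2 := by
      obtain ⟨k, hk⟩ := IsPGroup.iff_card.1 S.isPGroup'
      rw [Nat.card_congr eS.toEquiv, DihedralGroup.nat_card] at hk
      by_contra hne
      obtain rfl : m = 3 := by omega
      exact absurd (Nat.prime_three.dvd_of_dvd_pow (dvd_trans ⟨2, rfl⟩ (dvd_of_eq hk))) (by norm_num)
    have hS4 : Nat.card (S : Subgroup G) = 4 := (Nat.card_congr eS.toEquiv).trans DihedralGroup.nat_card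
    obtain ⟨σ, hσ, hfH⟩ := shape_four_fused honeH S' eS' htS' ht'
    obtain ⟨ρ', hρ', hfG'⟩ := shape_four hs.noncomm S eS htS ht
    have hCS : Nat.card (Subgroup.centralizer ((S' : Subgroup H) : Set H)) =
        Nat.card (Subgroup.centralizer ((S : Subgroup G) : Set G)) := by
      have e : ((↑) '' ((S' : Subgroup H) : Set H) : Set G) = (S : Subgroup G) := by
        rw [hS', Sylow.coe_subtype]
        ext x
        exact ⟨fun ⟨y, hy, hyx⟩ => hyx ▸ hy, fun hx => ⟨⟨x, hSH hx⟩, hx, rfl⟩⟩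
      rw [card_centralizer_sub] <;> rw [e]
      exact (Subgroup.centralizer_le (Set.singleton_subset_iff.2 htS)).trans hB.cent
    rw [hCt, hCS] at hfH
    have hσ1 := shape_ge_four hσ
    have hρ1' := hρ'.le le_rfl
    set A := (Nat.card (Subgroup.centralizer ({t} : Set G)) : ℚ) ^ 3 /
        (Nat.card (Subgroup.centralizer ((S : Subgroup G) : Set G)) : ℚ) ^ 2 with hA
    have hA0 : 0 < A := by
      have := hpos (Subgroup.centralizer ({t} : Set G))
      have := hpos (Subgroup.centralizer ((S : Subgroup G) : Set G))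
      positivity
    have h5 : (H.index : ℚ) ≤ 5 := by
      have e : (8 * ρ') * A = (8 * σ) * A * H.index := by
        rw [hA]; linear_combination -hfG' + hGH + (H.index : ℚ) * hfH
      nlinarith [mul_le_mul_of_nonneg_right hρ1' hA0.le, mul_le_mul_of_nonneg_right hσ1 hA0.le]
    have h5' : H.index ≤ 5 := by exact_mod_cast h5
    have := H.index_ne_zero_of_finite
    have hdvd := CfsgLib.SmallOrder.card_dvd_factorial_index hB.coatom.1
    have h4 : 4 ∣ Nat.card H := hS4 ▸ Subgroup.card_dvd_of_le hSH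
    have hmul := H.card_mul_index
    rcases (show H.index = 3 ∨ H.index = 5 by omega) with e | e
    · rw [e] at hdvd hmul
      norm_num [Nat.factorial] at hdvd
      have := Nat.le_of_dvd (by norm_num) hdvd
      have := Nat.le_of_dvd Nat.card_pos h4
      omega
    rw [e] at hdvd hmul
    have h24 : Nat.card H ∣ 24 := by
      rw [← hmul] at hdvd
      norm_num [Nat.factorial] at hdvd
      exact Nat.dvd_of_mul_dvd_mul_right (by norm_num : 0 < 5) (by norm_num; exact hdvd)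
    -- `F(H)` has order three
    have hF : Nat.card (FF H) = 3 := by
      have hne : FF H ≠ ⊥ := fun e' => hB.moved (e' ▸ bot_le)
      have h1 : Nat.card (FF H) ≠ 1 := fun e' => hne (Subgroup.eq_bot_of_card_eq _ e')
      have hd : Nat.card (FF H) ∣ 24 := (Subgroup.card_dvd_of_le FF_le).trans h24
      obtain ⟨j, hj⟩ := hB.odd
      have := Nat.le_of_dvd (by norm_num) hd
      have key : ∀ n ≤ 24, n ∣ 24 → n % 2 = 1 → n ≠ 1 → n = 3 := by decide
      exact key _ this hd (by omega) h1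
    obtain ⟨a, ha, ha1⟩ := (Subgroup.bot_or_exists_ne_one (FF H)).resolve_left
      (fun e' => by rw [e', Subgroup.card_bot] at hF; omega)
    haveI : Fact (Nat.Prime 3) := ⟨Nat.prime_three⟩
    have hgen : ∀ y ∈ FF H, y ∈ Subgroup.zpowers a := by
      intro y hy
      obtain ⟨i, hi⟩ := Subgroup.mem_zpowers_iff.1
        (mem_zpowers_of_prime_card hF (g := (⟨a, ha⟩ : FF H)) (g' := ⟨y, hy⟩) fun e' => ha1 (congrArg Subtype.val e'))
      exact Subgroup.mem_zpowers_iff.2 ⟨i, congrArg Subtype.val hi⟩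
    have hfix : ∀ x ∈ H, orderOf x = 2 → x * a ≠ a * x := by
      intro x hx hx2 hxa
      obtain ⟨h, hh, e'⟩ := hno x hx hx2
      apply hB.moved
      intro y hy
      refine mem_cent.2 ?_
      obtain ⟨i, hi⟩ := Subgroup.mem_zpowers_iff.1 (hgen _ (conj_FF hh hy))
      have hc : Commute x (h * y * h⁻¹) := hi ▸ (show Commute x a from hxa).zpow_right i
      rw [← e'] at hc
      exact ((Commute.conj_iff h).1 hc).eq.symm
    have hact : ∀ x ∈ H, orderOf x = 2 → x * a * x⁻¹ = a⁻¹ := by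
      intro x hx hx2
      have hm' : x * a * x⁻¹ ∈ FF H := conj_FF hx ha
      obtain ⟨i, hi⟩ := (IsOfFinOrder.mem_powers_iff_mem_zpowers (isOfFinOrder_of_finite a)).2 (hgen _ hm')
      have ho : orderOf a = 3 := by
        have := Subgroup.orderOf_dvd_natCard _ ha
        rw [hF] at this
        exact ((Nat.dvd_prime Nat.prime_three).1 this).resolve_left fun e' => ha1 (orderOf_eq_one_iff.1 e')
      rw [← hi]
      show a ^ i = a⁻¹
      rw [← pow_mod_orderOf, ho]
      have hlt : i % 3 < 3 := Nat.mod_lt _ (by norm_num)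
      have hi' : a ^ (i % 3) = x * a * x⁻¹ := by rw [← ho, pow_mod_orderOf]; exact hi
      interval_cases h3 : i % 3
      · rw [pow_zero] at hi'
        exact absurd (conj_eq_one_iff.1 hi'.symm) ha1
      · rw [pow_one] at hi'
        exact absurd (mul_inv_eq_iff_eq_mul.1 hi'.symm) (hfix x hx hx2)
      · exact eq_inv_of_mul_eq_one_left (by rw [← pow_succ]; have := pow_orderOf_eq_one a; rwa [ho] at this)
    have hvt : t * v₁ = v₁ * t := (hSc v₁ h₁).symm
    have hprod := hact _ (mul_mem hB.mem (hSH h₁)) (orderOf_mul_invol ht o₁ hvt ne₁)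
    rw [show t * v₁ * a * (t * v₁)⁻¹ = t * (v₁ * a * v₁⁻¹) * t⁻¹ by group, hact v₁ (hSH h₁) o₁,
      ← conj_inv, hact t hB.mem ht, inv_inv] at hprod
    exact ha1 (eq_one_of_sq hB.odd ha (by rw [← eq_inv_iff_mul_eq_one]; exact hprod))

end CfsgLib.BG
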