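import Cfsg.Agent.Lib.BG.Multi
import Cfsg.Agent.Lib.StrongFusion.LocalFree
import Cfsg.Agent.Lib.Quadratic.SectionQuot
import Cfsg.Agent.S0664

/-!
The case of one prime, and the theorem `noMoved`.

* `not_involves_qd`: no section `Qd(p)` in a group with dihedral Sylow 2-subgroups.
* `zj_data`: `H = N(ZJ(P))` for a Sylow `p`-subgroup `P` of the whole group.
* `Ctx.single_false`, `noMoved`: no odd subgroup normalized by `C(t)` is moved by `t`.
-/

set_option autoImplicit false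
set_option maxHeartbeats 800000
set_option linter.unusedSectionVars false

namespace CfsgLib.BG

open Cfsg DihedralGroup CfsgLib.GW CfsgLib.DihedralFusion CfsgLib.BenderMax
open scoped Pointwise

universe u

variable {G : Type u} [Group G] [Finite G]

/-- No section `SL₂(p)`. -/
theorem no_sl2 (hd : GWDihedral G) {p : ℕ} [Fact p.Prime] (hp : p ≠ 2) (L : Subgroup G)
    (f : L →* Matrix.SpecialLinearGroup (Fin 2) (ZMod p)) (hf : Function.Surjective f) : False := by
  refine CfsgLib.Quadratic.no_sl2_of_cyclicInvolutions hp ?_ f hf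
  intro T hT
  haveI : Fact (Nat.Prime 2) := ⟨Nat.prime_two⟩
  obtain ⟨S, n, hn, ⟨eS⟩⟩ := hd
  haveI : NeZero n := ⟨by omega⟩
  obtain ⟨g, hg⟩ := exists_conj_le (S := S) hT
  refine ⟨g⁻¹ * (eS.symm (r 1) : (S : Subgroup G)) * g, fun x hx => ?_⟩
  set y : (S : Subgroup G) := ⟨g * x * g⁻¹, hg ⟨x, hx, rfl⟩⟩
  have hy : eS.symm (eS y) = y := eS.symm_apply_apply y
  rcases hc : eS y with i | i
  · left
    refine Subgroup.mem_zpowers_iff.2 ⟨((i.val : ℕ) : ℤ), ?_⟩
    rw [zpow_natCast]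
    have h1 : (eS.symm (r 1)) ^ i.val = y := by
      rw [← map_pow, DihedralGroup.r_one_pow, ZMod.natCast_zmod_val, ← hc, hy]
    calc (g⁻¹ * ((eS.symm (r 1) : (S : Subgroup G)) : G) * g) ^ i.val
        = g⁻¹ * ((eS.symm (r 1) : (S : Subgroup G)) : G) ^ i.val * g := by
          simpa using conj_pow (i := i.val) (a := g⁻¹) (b := ((eS.symm (r 1) : (S : Subgroup G)) : G))
      _ = g⁻¹ * (y : G) * g := by rw [← SubmonoidClass.coe_pow, h1]
      _ = x := by show g⁻¹ * (g * x * g⁻¹) * g = x; group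
  · right
    have h1 : y * y = 1 := eS.injective (by rw [map_mul, map_one, hc, sr_mul_self])
    have h2 : (g * x * g⁻¹) * (g * x * g⁻¹) = 1 := congrArg Subtype.val h1
    rw [show g * x * g⁻¹ * (g * x * g⁻¹) = g * (x * x) * g⁻¹ by group, conj_eq_one_iff] at h2
    exact h2

/-- No section `Qd(p)`. -/
theorem not_involves_qd (hd : GWDihedral G) {p : ℕ} [Fact p.Prime] (hp : p ≠ 2) :
    ¬ Involves (Cfsg.qd p) G := by
  intro h
  obtain ⟨K, R, hR, ⟨e⟩⟩ := CfsgLib.StrongFusion.involves_sl2_of_involves_qd h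
  haveI := hR
  exact no_sl2 hd hp K (e.toMonoidHom.comp (QuotientGroup.mk' (R.subgroupOf K)))
    (e.surjective.comp (QuotientGroup.mk'_surjective _))

/-- No section `Qd(p)` in a subgroup. -/
theorem not_involves_qd_sub (hd : GWDihedral G) {p : ℕ} [Fact p.Prime] (hp : p ≠ 2) (Y : Subgroup G) :
    ¬ Involves (Cfsg.qd p) Y := by
  intro h
  obtain ⟨K, R, hR, ⟨e⟩⟩ := CfsgLib.StrongFusion.involves_sl2_of_involves_qd h
  haveI := hR
  exact no_sl2 hd hp (K.map Y.subtype)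
    ((e.toMonoidHom.comp (QuotientGroup.mk' (R.subgroupOf K))).comp
      (K.equivMapOfInjective Y.subtype Y.subtype_injective).symm.toMonoidHom)
    ((e.surjective.comp (QuotientGroup.mk'_surjective _)).comp (MulEquiv.surjective _))

/-- `Z(J(Q))` in the ambient group. -/
theorem zj_map_subtype {X : Subgroup G} (Q : Subgroup X) :
    (ZJ.zj 0 Q).map X.subtype = ZJ.zj 0 (Q.map X.subtype) := (ZJ.zj_map 0 X.subtype_injective Q).symm

/-- A Sylow subgroup of a maximal normalizer of `ZJ` is a Sylow subgroup of the group. -/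
theorem sylow_of_zj {p : ℕ} [Fact p.Prime] {M : Subgroup G} (P₀ : Sylow p M)
    (hN : Subgroup.normalizer (ZJ.zj 0 ((P₀ : Subgroup M).map M.subtype) : Set G) ≤ M) :
    ∃ P : Sylow p G, (P : Subgroup G) = (P₀ : Subgroup M).map M.subtype := by
  set T := (P₀ : Subgroup M).map M.subtype with hT
  obtain ⟨Q, hQ⟩ := (P₀.2.map M.subtype).exists_le_sylow
  refine ⟨Q, (by_contra fun hne => ?_)⟩
  have hlt := CfsgLib.StrongFusion.lt_inf_normalizer Q hQ (Ne.symm hne)
  have hle : (Q : Subgroup G) ⊓ Subgroup.normalizer (T : Set G) ≤ M := by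
    intro x hx
    refine hN (Subgroup.mem_normalizer_fintype fun z hz => ?_)
    have e : T.map (MulAut.conj x).toMonoidHom = T := by
      refine Subgroup.eq_of_le_of_card_ge ?_ (Subgroup.card_map_of_injective (MulAut.conj x).injective).ge
      rintro _ ⟨y, hy, rfl⟩
      exact mem_normalizer_of_mem hx.2 hy
    have h := ZJ.zj_map 0 (f := (MulAut.conj x).toMonoidHom) (MulAut.conj x).injective T
    rw [e] at h
    exact h.symm ▸ ⟨z, hz, rfl⟩
  have h1 : (P₀ : Subgroup M) ≤ ((Q : Subgroup G) ⊓ Subgroup.normalizer (T : Set G)).subgroupOf M :=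
    fun x hx => hlt.le ⟨x, hx, rfl⟩
  have h2 := P₀.is_maximal' ((Q.2.to_le inf_le_left).comap_of_injective _ M.subtype_injective) h1
  refine hlt.ne ?_
  exact (congrArg (Subgroup.map M.subtype) h2.symm).trans (Subgroup.map_subgroupOf_eq_of_le hle)

/-- `ZJ` is normal in a group whose Fitting subgroup is a `p`-group. -/
theorem zj_normal_in (hd : GWDihedral G) {p : ℕ} [Fact p.Prime] (hp : p ≠ 2) {Y : Subgroup G} (hE : EE Y = ⊥)
    (hone : ∀ r, r.Prime → r ≠ p → OO r Y = ⊥) (P₀ : Sylow p Y) :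
    ∀ y ∈ Y, y ∈ Subgroup.normalizer (ZJ.zj 0 ((P₀ : Subgroup Y).map Y.subtype) : Set G) := by
  have hc : Subgroup.centralizer (Cfsg.pCore p Y : Set Y) ≤ Cfsg.pCore p Y := by
    intro x hx
    have h := self_cent hE x.2 (comm_FF_of_OO fun r hr z hz => ?_)
    · obtain ⟨z, hz, hzx⟩ := h
      rw [← show z = x from Subtype.ext hzx]
      revert hz
      rw [CfsgLib.fittingSubgroup_eq_iSup_pCore]
      refine fun hz => (iSup_le fun r => ?_ : (⨆ r : {r : ℕ // r.Prime}, Cfsg.pCore (r : ℕ) Y) ≤ Cfsg.pCore p Y) hz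
      by_cases hr : (r : ℕ) = p
      · rw [hr]
      · have := hone r r.2 hr
        rw [OO, Subgroup.map_eq_bot_iff_of_injective _ Y.subtype_injective] at this
        rw [this]; exact bot_le
    · by_cases hrp : r = p
      · subst hrp
        obtain ⟨z, hz, rfl⟩ := hz
        exact (congrArg Subtype.val (hx z hz)).symm
      · rw [hone r hr hrp, Subgroup.mem_bot] at hz
        rw [hz, mul_one, one_mul]
  have hfree := not_involves_qd_sub hd hp Y
  haveI hn : (ZJ.zj 0 (P₀ : Subgroup Y)).Normal := by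
    rw [ZJ.zj_zero]
    exact Cfsg.Agent.S0664.result hp hfree hc P₀
  intro y hy
  refine Subgroup.mem_normalizer_fintype fun z hz => ?_
  rw [SetLike.mem_coe, ← zj_map_subtype] at hz ⊢
  exact conj_mem_map _ hy hz

theorem zj_ne_bot_of {p : ℕ} [Fact p.Prime] {Y : Subgroup G} (P₀ : Sylow p Y) (hO : OO p Y ≠ ⊥) :
    ZJ.zj 0 ((P₀ : Subgroup Y).map Y.subtype) ≠ ⊥ := by
  refine ZJ.zj_ne_bot (p := p) (Or.inl rfl) (P₀.2.map _) fun e => hO ?_
  rw [Subgroup.map_eq_bot_iff_of_injective _ Y.subtype_injective] at e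
  have := CfsgLib.pCore_le_sylow (G := Y) P₀
  rw [e, le_bot_iff] at this
  rw [OO, this, Subgroup.map_bot]

theorem zj_isPGroup {p : ℕ} {Y : Subgroup G} (P₀ : Sylow p Y) :
    IsPGroup p (ZJ.zj 0 ((P₀ : Subgroup Y).map Y.subtype)) :=
  (P₀.2.map Y.subtype).to_le (inf_le_left.trans (ZJ.thompsonJ_le 0 _))

theorem zj_le {p : ℕ} {Y : Subgroup G} (P₀ : Sylow p Y) : ZJ.zj 0 ((P₀ : Subgroup Y).map Y.subtype) ≤ Y :=
  (inf_le_left.trans (ZJ.thompsonJ_le 0 _)).trans (Subgroup.map_subtype_le _)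

theorem OO_ne_bot_single {p : ℕ} {Y : Subgroup G} {t : G} (ht : orderOf t = 2) (htY : t ∈ Y) (hE : EE Y = ⊥)
    (hp : p ≠ 2) (hprime : p.Prime) (hone : ∀ r, r.Prime → r ≠ p → OO r Y = ⊥) : OO p Y ≠ ⊥ := fun e => by
  have h0 : FF Y ≤ ⊥ := FF_le_of_primes fun r hr _ => by
    by_cases hrp : r = p
    · rw [hrp, e]
    · rw [hone r hr hrp]
  have := h0 (self_cent hE htY fun y hy => by rw [Subgroup.mem_bot.1 (h0 hy), mul_one, one_mul])
  exact ne_one_of_invol ht (Subgroup.mem_bot.1 this)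

theorem Bad.normalizer_eq (hs : Simp G) {t : G} {N : Subgroup G} (hB : Bad t N) {A : Subgroup G} (hA : A ≤ N)
    (hne : A ≠ ⊥) (hn : ∀ a ∈ N, a ∈ Subgroup.normalizer (A : Set G)) :
    Subgroup.normalizer (A : Set G) = N := by
  haveI := hs.simple
  by_contra hne'
  have htop := hB.coatom.2 _ (lt_of_le_of_ne hn (Ne.symm hne'))
  haveI : A.Normal := Subgroup.normalizer_eq_top_iff.1 htop
  rcases hs.simple.eq_bot_or_eq_top_of_normal A inferInstance with e | e
  · exact hne e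
  · exact hB.coatom.1 (top_le_iff.1 (e ▸ hA))

theorem prime_ne_two {t : G} {N : Subgroup G} (hB : Bad t N) {p : ℕ} (hone : ∀ r, r.Prime → r ≠ p → OO r N = ⊥) :
    p.Prime → p ≠ 2 := fun _ e => by
  obtain ⟨r, hr, x, hx, hmv⟩ := hB.exists_moved
  have hne : OO r N ≠ ⊥ := fun e' => hmv (by rw [e', Subgroup.mem_bot] at hx; rw [hx, mul_one, one_mul])
  exact hB.ne_two hne (by_contra fun h => hne (hone r hr (e ▸ h)))

/-- `H = N(ZJ(P))`. -/
theorem zj_data (hs : Simp G) {t : G} {N : Subgroup G} (hB : Bad t N) {p : ℕ} [Fact p.Prime]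
    (hone : ∀ r, r.Prime → r ≠ p → OO r N = ⊥) :
    ∃ P : Sylow p G, (P : Subgroup G) ≤ N ∧ Subgroup.normalizer (ZJ.zj 0 (P : Subgroup G) : Set G) = N := by
  have hp : p.Prime := Fact.out
  have hp2 := prime_ne_two hB hone hp
  obtain ⟨P₀⟩ : Nonempty (Sylow p N) := inferInstance
  have hne := zj_ne_bot_of P₀ (OO_ne_bot_single hB.invol hB.mem hB.layer hp2 hp hone)
  have hN := hB.normalizer_eq hs (zj_le P₀) hne (zj_normal_in hs.dihedral hp2 hB.layer hone P₀)
  obtain ⟨P, hP⟩ := sylow_of_zj P₀ hN.le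
  exact ⟨P, hP ▸ Subgroup.map_subtype_le _, by rw [hP]; exact hN⟩

/-- `H` controls the fusion of its `p`-subgroups. -/
theorem fusion_data (hs : Simp G) {t : G} {N : Subgroup G} (hB : Bad t N) {p : ℕ} [Fact p.Prime]
    (hone : ∀ r, r.Prime → r ≠ p → OO r N = ⊥) {A : Subgroup G} (hA : IsPGroup p A) (hAN : A ≤ N) {g : G}
    (hg : ∀ a ∈ A, g * a * g⁻¹ ∈ N) : ∃ n ∈ N, ∀ a ∈ A, n * a * n⁻¹ = g * a * g⁻¹ := by
  obtain ⟨P, hPN, hNZ⟩ := zj_data hs hB hone
  have hp2 := prime_ne_two hB hone Fact.out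
  have hinto : ∀ {B : Subgroup G}, IsPGroup p B → B ≤ N → ∃ h ∈ N, ∀ b ∈ B, h * b * h⁻¹ ∈ (P : Subgroup G) := by
    intro B hB' hBN
    obtain ⟨Q, hQ⟩ := (hB'.comap_of_injective N.subtype N.subtype_injective).exists_le_sylow
    obtain ⟨h, hh⟩ := MulAction.exists_smul_eq N Q (P.subtype hPN)
    refine ⟨h, h.2, fun b hb => ?_⟩
    have h1 : h * (⟨b, hBN hb⟩ : N) * h⁻¹ ∈ ((P.subtype hPN : Sylow p N) : Subgroup N) := by
      rw [← hh, Sylow.coe_subgroup_smul]
      exact Subgroup.smul_mem_pointwise_smul _ (MulAut.conj h) _ (hQ (show (⟨b, hBN hb⟩ : N) ∈ B.comap N.subtype from hb))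
    rwa [Sylow.coe_subtype, Subgroup.mem_subgroupOf] at h1
  obtain ⟨a₁, ha₁, h₁⟩ := hinto hA hAN
  obtain ⟨a₂, ha₂, h₂⟩ := hinto (B := cj g A) (hA.map _) (fun x hx => by
    obtain ⟨y, hy, rfl⟩ := hx; exact hg y hy)
  obtain ⟨x, hx, he⟩ := (CfsgLib.StrongFusion.controlsOf_zj hp2 (not_involves_qd hs.dihedral hp2) (Or.inl rfl) P
    (D := (P : Subgroup G)) ⟨le_rfl, fun x _ g hg => hg⟩
    (A := {y | ∃ a ∈ A, y = a₁ * a * a₁⁻¹}) (by rintro _ ⟨a, ha, rfl⟩; exact h₁ a ha)).2 (a₂ * g * a₁⁻¹) (by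
      rintro _ ⟨_, ⟨a, ha, rfl⟩, rfl⟩
      show a₂ * g * a₁⁻¹ * (a₁ * a * a₁⁻¹) * (a₂ * g * a₁⁻¹)⁻¹ ∈ (P : Subgroup G)
      rw [show a₂ * g * a₁⁻¹ * (a₁ * a * a₁⁻¹) * (a₂ * g * a₁⁻¹)⁻¹ = a₂ * (g * a * g⁻¹) * a₂⁻¹ by group]
      exact h₂ _ ⟨a, ha, rfl⟩)
  rw [CfsgLib.StrongFusion.inducedFunctor_zjA, ← ZJ.zj_zero, hNZ] at hx
  refine ⟨a₂⁻¹ * x * a₁, N.mul_mem (N.mul_mem (N.inv_mem ha₂) hx) ha₁, fun a ha => ?_⟩
  calc a₂⁻¹ * x * a₁ * a * (a₂⁻¹ * x * a₁)⁻¹ = a₂⁻¹ * (x * (a₁ * a * a₁⁻¹) * x⁻¹) * a₂ := by group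
    _ = a₂⁻¹ * (a₂ * g * a₁⁻¹ * (a₁ * a * a₁⁻¹) * (a₂ * g * a₁⁻¹)⁻¹) * a₂ := by rw [he _ ⟨a, ha, rfl⟩]
    _ = g * a * g⁻¹ := by group

namespace Ctx

variable {t v : G} {H : Subgroup G} (C : Ctx t v H) {p : ℕ} [Fact p.Prime]
  (hone : ∀ r, r.Prime → r ≠ p → OO r H = ⊥)

include C hone

theorem single_FF : FF H ≤ OO p H := FF_le_of_primes fun r hr _ => by
  by_cases hrp : r = p
  · rw [hrp]
  · rw [hone r hr hrp]; exact bot_le

theorem single_moved : Moved t H p := by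
  refine ⟨Fact.out, by_contra fun h => ?_⟩
  push Not at h
  exact C.bad.moved fun x hx => mem_cent.2 (h x (C.single_FF hone hx)).symm

/-- An element conjugating `F(H)` into `H` lies in `H`. -/
theorem mem_of_conj_FF {g : G} (hg : ∀ a ∈ OO p H, g * a * g⁻¹ ∈ H) : g ∈ H := by
  have hne := C.moved_ne_bot (C.single_moved hone)
  obtain ⟨n, hn, he⟩ := fusion_data C.simp C.bad hone (OO_isPGroup p H) OO_le hg
  have h1 : g⁻¹ * n ∈ H := C.cent_OO_le hne fun y hy => comm_of_conj_eq (by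
    rw [show g⁻¹ * n * y * (g⁻¹ * n)⁻¹ = g⁻¹ * (n * y * n⁻¹) * g by group, he y hy]
    group)
  simpa using H.mul_mem hn (H.inv_mem h1)

/-- A `Bad` subgroup containing `F(H)` is `H`. -/
theorem over_FF {N : Subgroup G} (hN : Bad t N) (hF : OO p H ≤ N) : N = H := by
  haveI := C.simp.simple
  have hlead : Cfsg.leadsTo H N := ⟨OO p H, C.moved_ne_bot (C.single_moved hone), OO_le_FF Fact.out H,
    fun y hy => hF (C.single_FF hone (C.GG_H.le hy.1))⟩
  have honeN : ∀ r, r.Prime → r ≠ p → OO r N = ⊥ := fun r hr hrp => C.kill hN hr (hone r hr hrp)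
    ((leadsTo_facts C.simp.noncomm C.bad.coatom hlead).1 r hr (not_dvd_of_OO_eq_bot hr (hone r hr hrp)))
  obtain ⟨P, hPH, hH⟩ := zj_data C.simp C.bad hone
  obtain ⟨Q, hQN, hN'⟩ := zj_data C.simp hN honeN
  obtain ⟨g, hg⟩ := MulAction.exists_smul_eq G P Q
  have hNg : N = cj g H := by
    rw [← hH, ← hN', ← hg, Sylow.coe_subgroup_smul]
    have e : ((MulAut.conj g) • (P : Subgroup G)) = (P : Subgroup G).map (MulAut.conj g).toMonoidHom := rfl
    rw [e, ZJ.zj_map 0 (f := (MulAut.conj g).toMonoidHom) (MulAut.conj g).injective, cj,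
      Subgroup.map_equiv_normalizer_eq]
  have hgH : g⁻¹ ∈ H := C.mem_of_conj_FF hone fun a ha => by
    have := hF ha
    rw [hNg, mem_cj] at this
    simpa using this
  rw [hNg, cj_eq_self (by simpa using H.inv_mem hgH)]

theorem cent_comm_single {x : G}
    (hx : ∀ f ∈ OO p H, x * (f⁻¹ * (t * f * t⁻¹)) = f⁻¹ * (t * f * t⁻¹) * x) : x ∈ H := by
  obtain ⟨hp, f, hf, hmv⟩ := C.single_moved hone
  refine C.cent_comm_le_of (C.single_moved hone) (fun X hX hXF hC hFX => ?_) hx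
  have hodd : Odd (Nat.card X) := C.bad.odd.of_dvd_nat (Subgroup.card_dvd_of_le hXF)
  obtain ⟨N, hN, hle⟩ := exists_coatom_ge C.simp (normalizer_ne_top C.simp hX hodd)
  have hB : Bad t N := bad_of_moved C.simp C.ih C.bad.invol hN (hC.trans hle) (R := OO p H)
    (C.bad.odd.of_dvd_nat (Subgroup.card_dvd_of_le (OO_le_FF hp H)))
    (fun c hc => mem_normalizer_OO (C.bad.cent hc)) (hFX.trans hle) fun h => hmv (mem_cent.1 (h hf)).symm
  exact C.over_FF hone hB (hFX.trans hle) ▸ hle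

/-- The closing step for one prime: `C(e)` lies in a conjugate of `H`. -/
theorem close_single {e : G} (hext : Extra t v H e) (hbase : ∃ Y, Mid t v e Y)
    (hmv : ∃ f ∈ FF H, f * e = e * f ∧ t * f ≠ f * t) :
    ∃ g : G, ∀ x : G, x * e = e * x → x ∈ cj g H := by
  haveI := C.simp.simple
  have hp : p.Prime := Fact.out
  have hpm := C.single_moved hone
  have hp2 := C.ne_two (C.moved_ne_bot hpm)
  obtain ⟨Y₀, hY₀⟩ := hbase
  obtain ⟨Y, -, hYmax⟩ := Finite.exists_le_maximal (p := fun Y => Mid t v e Y) hY₀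
  have hY := hYmax.prop
  have honeY : ∀ r, r.Prime → r ≠ p → OO r Y = ⊥ := fun r hr hrp => hext Y hY r hr (hone r hr hrp)
  obtain ⟨P₀⟩ : Nonempty (Sylow p Y) := inferInstance
  set Z := ZJ.zj 0 ((P₀ : Subgroup Y).map Y.subtype) with hZ
  have hZne : Z ≠ ⊥ := zj_ne_bot_of P₀ (OO_ne_bot_single C.bad.invol hY.left hY.layer hp2 hp honeY)
  have hZp : IsPGroup p Z := zj_isPGroup P₀
  have hYY' : Y ≤ Subgroup.normalizer (Z : Set G) := zj_normal_in C.simp.dihedral hp2 hY.layer honeY P₀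
  set Y' := Subgroup.normalizer (Z : Set G) with hY'
  have hY'top : Y' ≠ ⊤ := normalizer_ne_top C.simp hZne (by
    obtain ⟨k, hk⟩ := hZp.exists_card_eq
    rw [hk]; exact (hp.odd_of_ne_two hp2).pow)
  have hZY' : Z ≤ OO p Y' := isPGroup_normal_le_OO hZp Subgroup.le_normalizer
    fun y hy x hx => mem_normalizer_of_mem hy hx
  have hAcomm : ∀ a ∈ EE Y', ∀ b ∈ Z, a * b = b * a := fun a ha b hb =>
    comm_EE_FF ha (OO_le_FF hp Y' (hZY' hb))
  have hY'mid : Mid t v e Y' := by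
    refine ⟨hY'top, hYY' hY.left, hYY' hY.right, fun x hx => hYY' (hY.cent x hx), ?_, ?_⟩
    · by_contra hE
      rcases C.layer_cases (hYY' hY.left) (hYY' hY.right) hE with htE | ⟨-, hw | hw⟩
      · obtain ⟨f, hf, hfe, hfm⟩ := hmv
        exact hfm (not_mem_layer C.simp C.ih hY'top C.bad.invol htE C.bad.odd
          (fun c hc r hr => conj_FF (C.cent_le hc) hr) hf (hYY' (hY.cent f hfe)))
      · exact C.close_side hY'top hp hp2 hZp hAcomm (Subgroup.centralizer_le_normalizer _) (Or.inl hpm) hw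
      · exact C.symm.close_side hY'top hp hp2 hZp hAcomm (Subgroup.centralizer_le_normalizer _) (Or.inl hpm) hw
    · by_contra hO
      obtain ⟨w, hw, hwY, hwo⟩ : ∃ w ∈ OO 2 Y', w ∈ Y ∧ orderOf w = 2 := by
        rcases C.two_cases (hYY' hY.left) (hYY' hY.right) hO with h | h | h
        · exact ⟨t, h, hY.left, C.bad.invol⟩
        · exact ⟨v, h, hY.right, C.invol⟩
        · exact ⟨t * v, h, mul_mem hY.left hY.right, C.tv_invol⟩
      have := isPGroup_normal_le_OO (R := OO 2 Y' ⊓ Y) ((OO_isPGroup 2 Y').to_le inf_le_left) inf_le_right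
        (fun y hy z hz => ⟨conj_OO (hYY' hy) hz.1, Y.mul_mem (Y.mul_mem hy hz.2) (Y.inv_mem hy)⟩) ⟨hw, hwY⟩
      rw [hY.two, Subgroup.mem_bot] at this
      exact ne_one_of_invol hwo this
  have hYeq : Y' = Y := le_antisymm (hYmax.2 hY'mid hYY') hYY'
  obtain ⟨P, hP⟩ := sylow_of_zj P₀ hYeq.le
  obtain ⟨Q, hQH, hH⟩ := zj_data C.simp C.bad hone
  obtain ⟨g, hg⟩ := MulAction.exists_smul_eq G Q P
  refine ⟨g, fun x hx => ?_⟩
  have hx' : x ∈ Y' := hYeq ▸ hY.cent x hx
  rw [hY', hZ, ← hP, ← hg, Sylow.coe_subgroup_smul,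
    show ((MulAut.conj g) • (Q : Subgroup G)) = (Q : Subgroup G).map (MulAut.conj g).toMonoidHom from rfl,
    ZJ.zj_map 0 (f := (MulAut.conj g).toMonoidHom) (MulAut.conj g).injective] at hx'
  rw [cj, ← hH, Subgroup.map_equiv_normalizer_eq]
  exact hx'

/-- Centralizers of central elements. -/
theorem central_single {z : G} (hz : z ∈ OO p H) (hzp : orderOf z = p) (hzc : ∀ x ∈ OO p H, z * x = x * z)
    (htz : t ∈ IC z) (hvz : v ∈ IC z) : ∀ x : G, x * z = z * x → x ∈ H := by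
  have hpm := C.single_moved hone
  obtain ⟨hp, f, hf, hfm⟩ := id hpm
  obtain ⟨g, hg⟩ := C.close_single hone
    (C.extra_of_moved hp hz hzp (fun _ => C.cent_comm_single hone) fun a ha => (hzc a ha).symm)
    ⟨_, C.base hpm hzp htz hvz⟩ ⟨f, OO_le_FF hp H hf, (hzc f hf).symm, hfm⟩
  have hgH : g⁻¹ ∈ H := C.mem_of_conj_FF hone fun a ha => by
    have := hg a (hzc a ha).symm
    rw [mem_cj] at this
    simpa using this
  intro x hx
  have := hg x hx
  rwa [cj_eq_self (by simpa using H.inv_mem hgH)] at this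

omit hone in
/-- The extra hypothesis for an element fixed by `v`, when `v` inverts `z`. -/
theorem extra_fixed {q : ℕ} (hq : q.Prime) {e : G} (he : e ∈ OO q H) (hep : orderOf e = q)
    (hte : t * e * t⁻¹ = e⁻¹) (hve : v * e = e * v) {z : G} (hzo : Odd (orderOf z)) (hze : z * e = e * z)
    (hvz : v * z * v⁻¹ = z⁻¹) (hzH : ∀ x : G, x * z = z * x → x ∈ H) : Extra t v H e := by
  intro Y hY r hr hrH
  by_contra hne
  have hr2 : r ≠ 2 := fun h => hne (h ▸ hY.two)
  have hRo := OO_odd hr hr2 Y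
  have hRH := C.mid_disjoint hq he hep hY hr hrH
  have hinv := all_inverted hRo C.bad.invol (mem_normalizer_OO hY.left) fun x hx htx => by
    have : x ∈ OO r Y ⊓ H := ⟨hx, C.cent_le htx.symm⟩
    rwa [hRH, Subgroup.mem_bot] at this
  have hRe := comm_of_double_inverted (mem_normalizer_OO (hY.cent e rfl)) hinv hte (C.odd_order_of_mem hq he)
  have hv := all_inverted hRo C.invol (mem_normalizer_OO hY.right) fun x hx hvx =>
    C.extra_core hq he hep (C.mem_Hc C.invol hve.symm) hte hY.cent hr hr2 hrH hinv hRe x hx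
      (C.mem_Hc C.invol hvx.symm)
  refine hne (eq_bot_iff.2 fun x hx => ?_)
  rw [← hRH]
  exact ⟨hx, hzH x (comm_of_double_inverted (mem_normalizer_OO (hY.cent z hze)) hv hvz hzo x hx).symm⟩

/-- An element of `F(H)` whose centralizer lies in `H` is not centralized by `v`. -/
theorem not_fixed {e : G} (he : e ∈ OO p H) (hve : v * e = e * v) (hcent : ∀ x : G, x * e = e * x → x ∈ H) :
    False := by
  obtain ⟨g, hg, -⟩ := C.exists_Hc C.invol
  have h1 : Commute t (g⁻¹ * e * g) := by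
    have h : Commute (g⁻¹ * v * g⁻¹⁻¹) (g⁻¹ * e * g⁻¹⁻¹) := (Commute.conj_iff g⁻¹).2 hve
    rw [conj_back hg, inv_inv] at h
    exact h
  obtain ⟨n, hn, hne⟩ := fusion_data C.simp C.bad hone (A := Subgroup.zpowers e)
    ((OO_isPGroup p H).to_le (Subgroup.zpowers_le.2 he)) (Subgroup.zpowers_le.2 (OO_le he)) (g := g⁻¹) (by
      intro a ha
      obtain ⟨i, rfl⟩ := Subgroup.mem_zpowers_iff.1 ha
      rw [← conj_zpow, inv_inv]
      exact H.zpow_mem (C.cent_le h1.symm.eq) i)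
  have h2 : g * n ∈ H := hcent _ (comm_of_conj_eq (by
    rw [show g * n * e * (g * n)⁻¹ = g * (n * e * n⁻¹) * g⁻¹ by group, hne e (Subgroup.mem_zpowers e)]
    group))
  exact C.not_fused g (by simpa using H.mul_mem h2 (H.inv_mem hn)) hg

/-- The element `e` on the side `v`. -/
theorem single_side (hmv : ∃ y ∈ OO p H, v * y = y * v ∧ t * y ≠ y * t) {z : G} (hz : z ∈ OO p H)
    (hzp : orderOf z = p) (hzc : ∀ x ∈ OO p H, z * x = x * z) (hvz : v * z * v⁻¹ = z⁻¹)
    (hzH : ∀ x : G, x * z = z * x → x ∈ H) : False := by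
  have hpm := C.single_moved hone
  have hp : p.Prime := Fact.out
  set U := OO p H ⊓ Subgroup.centralizer ({v} : Set G) with hU
  have htU : t ∈ Subgroup.normalizer (U : Set G) := Subgroup.mem_normalizer_fintype fun y hy =>
    ⟨conj_OO C.bad.mem hy.1, mem_cent.2 (((show Commute t v from C.comm).mul_left (mem_cent.1 hy.2)).mul_left
      (show Commute t v from C.comm).inv_left).eq⟩
  obtain ⟨y, hy, hvy, hym⟩ := hmv
  obtain ⟨e, heU, heo, hte⟩ := exists_inverted (P := U)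
    (C.bad.odd.of_dvd_nat (Subgroup.card_dvd_of_le (inf_le_left.trans (OO_le_FF hp H)))) C.bad.invol htU
    (show y ∈ U from ⟨hy, mem_cent.2 hvy.symm⟩) hym
  have hep := C.prime_order hp heU.1 heo
  have hve : v * e = e * v := (mem_cent.1 heU.2).symm
  have hem : t * e ≠ e * t := fun h => by
    rw [conj_eq_self h] at hte
    exact heo.ne_one (orderOf_eq_one_iff.2
      (eq_one_of_sq C.bad.odd (OO_le_FF hp H heU.1) (eq_inv_iff_mul_eq_one.1 hte)))
  obtain ⟨g, hg⟩ := C.close_single hone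
    (C.extra_fixed hp heU.1 hep hte hve (C.odd_order_of_mem hp hz) (hzc e heU.1) hvz hzH)
    ⟨_, C.base hpm hep (Or.inr hte) (IC_cent hve)⟩ ⟨e, OO_le_FF hp H heU.1, rfl, hem⟩
  have hzg : g⁻¹ * z * g ∈ H := mem_cj.1 (hg z (hzc e heU.1))
  obtain ⟨n, hn, hne⟩ := fusion_data C.simp C.bad hone (A := Subgroup.zpowers z)
    ((OO_isPGroup p H).to_le (Subgroup.zpowers_le.2 hz)) (Subgroup.zpowers_le.2 (OO_le hz)) (g := g⁻¹) (by
      intro a ha
      obtain ⟨i, rfl⟩ := Subgroup.mem_zpowers_iff.1 ha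
      rw [← conj_zpow, inv_inv]
      exact H.zpow_mem hzg i)
  have h2 : g * n ∈ H := hzH _ (comm_of_conj_eq (by
    rw [show g * n * z * (g * n)⁻¹ = g * (n * z * n⁻¹) * g⁻¹ by group, hne z (Subgroup.mem_zpowers z)]
    group))
  have hgH : g ∈ H := by simpa using H.mul_mem h2 (H.inv_mem hn)
  refine C.not_fixed hone heU.1 hve fun x hx => ?_
  have := hg x hx
  rwa [cj_eq_self hgH] at this

/-- **The case of one prime is impossible.** -/
theorem single_false : False := by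
  have hpm := C.single_moved hone
  have hp : p.Prime := Fact.out
  have hodd : Odd (Nat.card (OO p H)) := C.bad.odd.of_dvd_nat (Subgroup.card_dvd_of_le (OO_le_FF hp _))
  obtain ⟨Z, hZne, hZO, hZab, hZn, hZc⟩ := center_OO H hp (OO_ne_bot_dvd hp (C.moved_ne_bot hpm))
  obtain ⟨z, hzZ, hzo, htz, hvz⟩ := exists_eigen (hodd.of_dvd_nat (Subgroup.card_dvd_of_le hZO)) hZab hZne
    C.bad.invol C.invol C.comm (Subgroup.mem_normalizer_fintype fun y hy => hZn t C.bad.mem y hy)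
    (Subgroup.mem_normalizer_fintype fun y hy => hZn v C.v_mem y hy)
  have hz := hZO hzZ
  have hzp : orderOf z = p := C.prime_order hp hz hzo
  have hzc : ∀ x ∈ OO p H, z * x = x * z := fun x hx => hZc z hzZ x (OO_le_GG hp H hx)
  have hzH := C.central_single hone hz hzp hzc htz hvz
  rcases hvz with hv | hv
  · exact C.not_fixed hone hz (comm_of_conj_eq hv) hzH
  rcases htz with ht | ht
  swap
  · refine C.symm.not_fixed hone hz (comm_of_conj_eq ?_) hzH
    rw [show t * v * z * (t * v)⁻¹ = t * (v * z * v⁻¹) * t⁻¹ by group, hv, ← conj_inv, ht, inv_inv]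
  by_cases h1 : ∀ y ∈ OO p H, v * y = y * v → t * y = y * t
  swap
  · push Not at h1
    exact C.single_side hone h1 hz hzp hzc hv hzH
  by_cases h2 : ∀ y ∈ OO p H, (t * v) * y = y * (t * v) → t * y = y * t
  swap
  · push Not at h2
    refine C.symm.single_side hone h2 hz hzp hzc ?_ hzH
    rw [show t * v * z * (t * v)⁻¹ = t * (v * z * v⁻¹) * t⁻¹ by group, hv, ← conj_inv, ht]
  obtain ⟨-, x, hx, hmv⟩ := hpm
  obtain ⟨a, ha, hap, hinv⟩ := exists_inverted hodd C.bad.invol (mem_normalizer_OO C.bad.mem) hx hmv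
  have h3 := inverted_of_centralizer_le hodd C.bad.invol C.invol C.comm (mem_normalizer_OO C.bad.mem)
    (mem_normalizer_OO C.v_mem) h1 ha hinv
  rw [conj_eq_self (h2 a ha h3)] at hinv
  exact hap.ne_one (orderOf_eq_one_iff.2 (eq_one_of_sq hodd ha (eq_inv_iff_mul_eq_one.1 hinv)))

end Ctx

theorem bad_false (hs : Simp G) (ih : Smaller G) {t : G} {H : Subgroup G} (hB : Bad t H) : False := by
  obtain ⟨v, C⟩ := exists_ctx hs ih hB
  obtain ⟨p, hp, x, hx, hmv⟩ := hB.exists_moved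
  by_cases hone : ∀ r, r.Prime → r ≠ p → OO r H = ⊥
  · haveI := Fact.mk hp
    exact C.single_false hone
  · push Not at hone
    obtain ⟨q, hq, hqp, hne⟩ := hone
    refine C.multi_false fun r => ?_
    by_cases hr : r = q
    · exact ⟨p, hp, fun e => hqp (hr.symm.trans e.symm), fun e => hmv (by
        rw [e, Subgroup.mem_bot] at hx; rw [hx, mul_one, one_mul])⟩
    · exact ⟨q, hq, Ne.symm hr, hne⟩

/-- **No odd subgroup normalized by an involution centralizer is moved by the involution.** -/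
theorem noMoved : ∀ (G : Type u) [Group G] [Finite G], Simp G → NoMoved G := by
  suffices H : ∀ (n : ℕ) (G : Type u) [Group G] [Finite G], Nat.card G = n → Simp G → NoMoved G from
    fun G _ _ hs => H _ G rfl hs
  intro n
  induction n using Nat.strong_induction_on with
  | _ n ih =>
    intro G _ _ hn hs t R ht hR hnorm
    by_contra hmv
    have hsm : Smaller G := fun X _ _ hX hXs => ih _ (hn ▸ hX) X rfl hXs
    obtain ⟨N, hN, -⟩ := exists_bad hs hsm ht hR hnorm hmv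
    exact bad_false hs hsm hN

end CfsgLib.BG
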