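import Cfsg.Agent.Lib.GW.Setup
import Cfsg.Agent.Lib.GW.Hyp
import Cfsg.Agent.Lib.BG.Coprime

/-!
Setup of the Bender–Glauberman theorem.

* `Simp G`: simple, non-abelian, dihedral Sylow 2-subgroups.
* `NoMoved G`: an involution centralizes each odd subgroup normalized by its centralizer.
* `Smaller G`: the statement `NoMoved` for the smaller such groups.
* `perfect_no_moved`: what `Smaller G` says on perfect proper subgroups with central core.
-/

set_option autoImplicit false
set_option linter.unusedSectionVars false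

namespace CfsgLib.BG

open Cfsg DihedralGroup CfsgLib.GW CfsgLib.DihedralFusion

universe u

/-- Simple, non-abelian, with dihedral Sylow 2-subgroups. -/
structure Simp (G : Type u) [Group G] [Finite G] : Prop where
  simple : IsSimpleGroup G
  noncomm : ¬ IsMulCommutative G
  dihedral : GWDihedral G

/-- No odd subgroup normalized by an involution centralizer is moved by the involution. -/
def NoMoved (G : Type u) [Group G] : Prop :=
  ∀ (t : G) (R : Subgroup G), orderOf t = 2 → Odd (Nat.card R) →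
    Subgroup.centralizer ({t} : Set G) ≤ Subgroup.normalizer (R : Set G) →
    R ≤ Subgroup.centralizer ({t} : Set G)

/-- The smaller groups satisfy `NoMoved`. -/
def Smaller (G : Type u) : Prop :=
  ∀ (X : Type u) [Group X] [Finite X], Nat.card X < Nat.card G → Simp X → NoMoved X

theorem orderOf_conj {X : Type*} [Group X] (g x : X) : orderOf (g * x * g⁻¹) = orderOf x :=
  MulEquiv.orderOf_eq (MulAut.conj g) x

theorem odd_subgroupOf {X : Type*} [Group X] [Finite X] {R H : Subgroup X} (h : Odd (Nat.card R)) :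
    Odd (Nat.card (R.subgroupOf H)) := by
  refine h.of_dvd_nat ?_
  rw [← Subgroup.card_map_of_injective (f := H.subtype) H.subtype_injective]
  exact Subgroup.card_dvd_of_le (by
    rintro _ ⟨x, hx, rfl⟩
    exact hx)

theorem odd_orderOf {X : Type*} [Group X] [Finite X] {R : Subgroup X} (h : Odd (Nat.card R)) {x : X}
    (hx : x ∈ R) : Odd (orderOf x) :=
  h.of_dvd_nat (Subgroup.orderOf_dvd_natCard R hx)

theorem not_mem_of_odd {X : Type*} [Group X] [Finite X] {R : Subgroup X} (h : Odd (Nat.card R)) {t : X}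
    (ht : orderOf t = 2) : t ∉ R := fun htR => by
  have := odd_orderOf h htR
  rw [ht] at this
  exact absurd this (by decide)

variable {G : Type u} [Group G] [Finite G]

theorem mem_cent {t x : G} : x ∈ Subgroup.centralizer ({t} : Set G) ↔ x * t = t * x :=
  Subgroup.mem_centralizer_singleton_iff

theorem mem_cent_self (t : G) : t ∈ Subgroup.centralizer ({t} : Set G) := mem_cent.2 rfl

/-- An element that centralizes an involution modulo an odd normal subgroup is a product. -/
theorem exists_lift {O : Subgroup G} [O.Normal] (hO : Odd (Nat.card O)) {w x : G} (hw : orderOf w = 2)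
    (hx : x * w * x⁻¹ * w⁻¹ ∈ O) : ∃ s ∈ O, s⁻¹ * x ∈ Subgroup.centralizer ({w} : Set G) := by
  set o := x * w * x⁻¹ * w⁻¹ with ho
  have hww := invol_mul_self hw
  have hwi := invol_inv hw
  have hinv : w * o * w⁻¹ = o⁻¹ := by
    have h1 : (x * w * x⁻¹) * (x * w * x⁻¹) = 1 := by
      rw [show x * w * x⁻¹ * (x * w * x⁻¹) = x * (w * w) * x⁻¹ by group, hww]; group
    rw [show x * w * x⁻¹ = o * w by rw [ho]; group] at h1
    refine eq_inv_of_mul_eq_one_right ?_
    rw [show o * (w * o * w⁻¹) = o * w * (o * w) * w⁻¹ * w⁻¹ by group, h1, hwi, one_mul, hww]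
  obtain ⟨j, hj⟩ := odd_orderOf hO hx
  refine ⟨o ^ (j + 1), pow_mem hx _, mem_cent.2 ?_⟩
  have hs : o ^ (j + 1) * o ^ (j + 1) = o := by
    rw [← pow_add, show j + 1 + (j + 1) = orderOf o + 1 by omega, pow_succ, pow_orderOf_eq_one, one_mul]
  have hws : w * o ^ (j + 1) * w⁻¹ = (o ^ (j + 1))⁻¹ := by rw [← conj_pow, hinv, inv_pow]
  have e : o ^ (j + 1) * w * (o ^ (j + 1))⁻¹ = x * w * x⁻¹ := by
    rw [← hws, show o ^ (j + 1) * w * (w * o ^ (j + 1) * w⁻¹) =
      o ^ (j + 1) * (w * w) * o ^ (j + 1) * w⁻¹ by group, hww, mul_one, hs, hwi, ho, hwi]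
    simp [mul_assoc, hww]
  calc (o ^ (j + 1))⁻¹ * x * w = (o ^ (j + 1))⁻¹ * (x * w * x⁻¹) * x := by group
    _ = w * ((o ^ (j + 1))⁻¹ * x) := by rw [← e]; group

/-- `Smaller` applied to a perfect proper subgroup with central core. -/
theorem perfect_no_moved (hd : GWDihedral G) (ih : Smaller G) {X : Subgroup G} (hX : X ≠ ⊤)
    [Group.IsPerfect X] (hcore : oddCore X ≤ Subgroup.center X) {w : G} (hw : orderOf w = 2) (hwX : w ∈ X)
    {R : Subgroup G} (hRX : R ≤ X) (hR : Odd (Nat.card R))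
    (hnorm : ∀ c ∈ X, c * w = w * c → ∀ r ∈ R, c * r * c⁻¹ ∈ R) :
    R ≤ Subgroup.centralizer ({w} : Set G) := by
  have hne : X ≠ ⊥ := fun e => by
    rw [e, Subgroup.mem_bot] at hwX
    rw [hwX, orderOf_one] at hw
    omega
  have hXd := hd.perfect_sub X hne
  obtain ⟨hs, hna⟩ := simple_mod_core hXd
  set ww : X := ⟨w, hwX⟩
  have hww2 : orderOf ww = 2 := by rw [← hw]; exact Subgroup.orderOf_mk w hwX
  have hwπ : orderOf ((QuotientGroup.mk' (oddCore X)) ww) = 2 := by
    have hd2 := orderOf_map_dvd (QuotientGroup.mk' (oddCore X)) ww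
    rw [hww2] at hd2
    refine ((Nat.dvd_prime Nat.prime_two).1 hd2).resolve_left fun e => ?_
    exact not_mem_of_odd CfsgLib.odd_card_oddCore hww2 ((QuotientGroup.eq_one_iff ww).1 (orderOf_eq_one_iff.1 e))
  have hlt : Nat.card (↥X ⧸ oddCore X) < Nat.card G :=
    lt_of_le_of_lt (Nat.le_of_dvd Nat.card_pos (Subgroup.card_quotient_dvd_card _))
      (card_lt_of_lt_top (lt_top_iff_ne_top.2 hX))
  have hQ := ih (↥X ⧸ oddCore X) hlt ⟨hs, hna, hXd.quotient _ CfsgLib.odd_card_oddCore⟩ ((QuotientGroup.mk' (oddCore X)) ww)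
    ((R.subgroupOf X).map (QuotientGroup.mk' (oddCore X))) hwπ ((odd_subgroupOf hR).of_dvd_nat (Subgroup.card_map_dvd _ (QuotientGroup.mk' (oddCore X)))) (by
      intro y hy
      obtain ⟨c, rfl⟩ := QuotientGroup.mk'_surjective _ y
      have hc : c * ww * c⁻¹ * ww⁻¹ ∈ oddCore X := by
        rw [← QuotientGroup.eq_one_iff]
        show (QuotientGroup.mk' (oddCore X)) (c * ww * c⁻¹ * ww⁻¹) = 1
        rw [map_mul, map_mul, map_mul, map_inv, map_inv, mem_cent.1 hy]
        group
      obtain ⟨s, hs, hsc⟩ := exists_lift CfsgLib.odd_card_oddCore hww2 hc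
      refine Subgroup.mem_normalizer_fintype fun z hz => ?_
      obtain ⟨r, hr, rfl⟩ := hz
      refine ⟨(s⁻¹ * c) * r * (s⁻¹ * c)⁻¹, ?_, ?_⟩
      · exact hnorm _ (s⁻¹ * c).2 (congrArg Subtype.val (mem_cent.1 hsc)) _ hr
      · have : (QuotientGroup.mk' (oddCore X)) s = 1 := (QuotientGroup.eq_one_iff s).2 hs
        simp only [map_mul, map_inv, this, inv_one, one_mul])
  intro r hr
  set rr : X := ⟨r, hRX hr⟩
  set c := rr * ww * rr⁻¹ * ww⁻¹ with hc
  have hcO : c ∈ oddCore X := by
    rw [← QuotientGroup.eq_one_iff]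
    show (QuotientGroup.mk' (oddCore X)) c = 1
    rw [hc, map_mul, map_mul, map_mul, map_inv, map_inv, mem_cent.1 (hQ ⟨rr, hr, rfl⟩)]
    group
  have hcw := Subgroup.mem_center_iff.1 (hcore hcO) ww
  have hw1 := invol_mul_self hww2
  have hcc : c * c = 1 := by
    have h1 : (c * ww) * (c * ww) = 1 := by
      rw [hc, show rr * ww * rr⁻¹ * ww⁻¹ * ww * (rr * ww * rr⁻¹ * ww⁻¹ * ww) = rr * (ww * ww) * rr⁻¹ by group, hw1]
      group
    rwa [mul_assoc, ← mul_assoc ww, hcw, mul_assoc c, hw1, mul_one] at h1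
  have hc1 := eq_one_of_sq CfsgLib.odd_card_oddCore hcO hcc
  rw [hc, mul_inv_eq_one, mul_inv_eq_iff_eq_mul] at hc1
  exact mem_cent.2 (congrArg Subtype.val hc1)

end CfsgLib.BG
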