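import Cfsg.Agent.Lib.BG.VSetup
import Cfsg.Agent.Lib.Blocks.Dihedral.Order
import Cfsg.Agent.S1124

/-!
The configuration with Sylow 2-subgroups of order eight.

* `Eight S σ τ O`: `S = ⟨σ, τ⟩`, `C(σ²) = O S`, `στ` centralizes `O`, `|G| = 24 |O| I` with `I` odd.
* `exists_eight`: it arises from a four group normalized by `C(t)`.
* `Eight.fix`, `Eight.rev`: the fixed and the inverted elements of `τ` on `O`.
-/

set_option autoImplicit false
set_option linter.unusedSectionVars false

namespace CfsgLib.BG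

open Cfsg DihedralGroup CfsgLib.GW CfsgLib.DihedralFusion CfsgLib.Blocks.Dihedral

universe u

variable {G : Type u} [Group G] [Finite G]

/-- The configuration with Sylow 2-subgroups of order eight. -/
structure Eight (S : Sylow 2 G) (σ τ : G) (O : Subgroup G) : Prop where
  simp : Simp G
  pair : DihPair S σ τ 2
  core : Core S (σ ^ 2) O
  comm : ∀ o ∈ O, Commute o (σ * τ)
  order : ∃ I : ℕ, Odd I ∧ Nat.card G = 24 * Nat.card O * I

theorem exists_eight (hs : Simp G) {t v : G} (ht : orderOf t = 2) (hv : orderOf v = 2) (hc : t * v = v * t)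
    (hne : v ≠ t) (S : Sylow 2 G) (htS : t ∈ (S : Subgroup G)) (hSc : ∀ s ∈ (S : Subgroup G), s * t = t * s)
    (h8 : Nat.card (S : Subgroup G) = 8)
    (hnorm : ∀ c, c * t = t * c → ∀ x ∈ four t v, c * x * c⁻¹ ∈ four t v) :
    ∃ (σ τ : G) (O : Subgroup G), Eight S σ τ O ∧ σ ^ 2 = t := by
  haveI : Fact (Nat.Prime 2) := ⟨Nat.prime_two⟩
  have hV := isKleinFour_four ht hv hc hne
  -- the four group lies in `S`
  have hVS : four t v ≤ (S : Subgroup G) := by
    have hSN : (S : Subgroup G) ≤ Subgroup.normalizer ((four t v : Subgroup G) : Set G) :=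
      fun s hs' => Subgroup.mem_normalizer_fintype fun x hx => hnorm s (hSc s hs') x hx
    have h := S.is_maximal' (S.2.to_sup_of_normal_right' (isPGroup_klein hV) hSN) le_sup_left
    exact le_sup_right.trans h.le
  -- a reflection outside the four group
  obtain ⟨m, hm, ⟨eS⟩⟩ := hs.dihedral.shape S
  obtain rfl : m = 4 := by
    have := Nat.card_congr eS.toEquiv
    rw [DihedralGroup.nat_card, h8] at this
    omega
  obtain ⟨w₁, w₂, hw₁, hw₂, o₁, o₂, -, -, o₁₂⟩ := CfsgLib.GW.exists_reflections S hm eS htS hSc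
  obtain ⟨τ, hτS, hτ, hτV⟩ : ∃ τ ∈ (S : Subgroup G), orderOf τ = 2 ∧ τ ∉ four t v := by
    by_contra hno
    push Not at hno
    have hcw := four_comm ht hv hc hne (hno w₁ hw₁ o₁) (hno w₂ hw₂ o₂)
    have h2 := orderOf_dvd_of_pow_eq_one (x := w₁ * w₂) (n := 2) (by
      rw [(show Commute w₁ w₂ from hcw).mul_pow, sq, sq, invol_mul_self o₁, invol_mul_self o₂, one_mul])
    rw [o₁₂] at h2
    norm_num at h2
  have hvS : v ∈ (S : Subgroup G) := hVS (right_mem_four t v)
  have htt := invol_mul_self ht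
  have hvv := invol_mul_self hv
  have hττ := invol_mul_self hτ
  have hτi := invol_inv hτ
  have hvi := invol_inv hv
  have hnc : τ * v ≠ v * τ := fun e => hτV (by
    rcases invol_cases hs.dihedral ht hv hc hne hτ (hSc τ hτS) e with h | h | h
    · rw [h]; exact left_mem_four t v
    · rw [h]; exact right_mem_four t v
    · rw [h]; exact mul_mem (left_mem_four t v) (right_mem_four t v))
  have hτv : τ * v * τ⁻¹ = t * v := by
    rcases (mem_four ht hv hc).1 (hnorm τ (hSc τ hτS) v (right_mem_four t v)) with e | e | e | e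
    · exact absurd (conj_eq_one_iff.1 e) (ne_one_of_invol hv)
    · exfalso
      have e' : τ * t * τ⁻¹ = t := mul_inv_eq_iff_eq_mul.2 (hSc τ hτS)
      exact hne (mul_left_cancel (mul_right_cancel (e.trans e'.symm)))
    · exact absurd (mul_inv_eq_iff_eq_mul.1 e) hnc
    · exact e
  obtain ⟨σ, hσ⟩ : ∃ σ : G, σ = v * τ := ⟨_, rfl⟩
  have hσ2 : σ ^ 2 = t := by
    rw [hσ, sq, show v * τ * (v * τ) = v * (τ * v * τ) by group]
    nth_rewrite 2 [← hτi]
    rw [hτv, hc, ← mul_assoc, hvv, one_mul]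
  have hστ : σ * τ = v := by rw [hσ, mul_assoc, hττ, mul_one]
  have hσo : orderOf σ = 2 * 2 :=
    orderOf_eq_prime_pow (p := 2) (n := 1) (by rw [pow_one, hσ2]; exact ne_one_of_invol ht)
      (by rw [pow_succ, pow_one, pow_mul, hσ2, sq, htt])
  have hrel : τ * σ * τ⁻¹ = σ⁻¹ := by
    rw [hσ, mul_inv_rev, hτi, hvi, mul_assoc, mul_assoc v, hττ, mul_one]
  have hσS : σ ∈ (S : Subgroup G) := hσ ▸ mul_mem hvS hτS
  have hgen : Subgroup.closure ({σ, τ} : Set G) = (S : Subgroup G) := by
    have hle : Subgroup.closure ({σ, τ} : Set G) ≤ (S : Subgroup G) := (Subgroup.closure_le _).2 (by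
      rintro x (rfl | hx)
      · exact hσS
      · exact Set.mem_singleton_iff.1 hx ▸ hτS)
    have hlt : Subgroup.zpowers σ < Subgroup.closure ({σ, τ} : Set G) := by
      refine lt_of_le_of_ne (Subgroup.zpowers_le.2 (Subgroup.subset_closure (Set.mem_insert _ _))) fun e => hnc ?_
      have hτz : τ ∈ Subgroup.zpowers σ := by
        rw [e]; exact Subgroup.subset_closure (Set.mem_insert_of_mem _ rfl)
      obtain ⟨j, hj⟩ := hτz
      have hcτ : Commute τ σ := hj ▸ Commute.zpow_self σ j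
      calc τ * v = τ * (σ * τ) := by rw [hστ]
        _ = σ * τ * τ := by rw [← mul_assoc, hcτ.eq]
        _ = v * τ := by rw [hστ]
    refine Subgroup.eq_of_le_of_card_ge hle ?_
    have h1 := Subgroup.card_dvd_of_le hlt.le
    have h2 := Subgroup.card_dvd_of_le hle
    have h3 : Nat.card (Subgroup.zpowers σ) < Nat.card (Subgroup.closure ({σ, τ} : Set G)) :=
      lt_of_le_of_ne (Subgroup.card_le_of_le hlt.le) fun e => hlt.ne (Subgroup.eq_of_le_of_card_ge hlt.le e.ge)
    rw [Nat.card_zpowers, hσo] at h1 h3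
    rw [h8] at h2 ⊢
    have h4 := Nat.le_of_dvd (by norm_num) h2
    interval_cases hn : Nat.card (Subgroup.closure ({σ, τ} : Set G)) <;> omega
  have hh : DihPair S σ τ 2 := DihPair.of_gen ⟨0, rfl⟩ hσS hτS hσo hτ hrel hgen
  obtain ⟨O, hO⟩ := hh.toDih.exists_core
  have hOodd : Odd (Nat.card O) := by
    rw [← Nat.not_even_iff_odd, even_iff_two_dvd]
    exact hO.odd
  have hoc : ∀ o ∈ O, o * t = t * o := fun o ho => by rw [← hσ2]; exact (hO.comm o ho).eq
  have hvc : ∀ o ∈ O, Commute o v := by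
    intro o ho
    have h1 : o * (v * o⁻¹ * v⁻¹) ∈ O := mul_mem ho (hO.norm v (by rw [hσ2]; exact hc.symm) _ (inv_mem ho))
    have h2 : o * v * o⁻¹ * v⁻¹ ∈ four t v :=
      mul_mem (hnorm o (hoc o ho) v (right_mem_four t v)) (inv_mem (right_mem_four t v))
    rw [show o * (v * o⁻¹ * v⁻¹) = o * v * o⁻¹ * v⁻¹ by group] at h1
    have h3 := eq_one_of_sq hOodd h1 (by
      haveI := hV
      exact congrArg Subtype.val (IsKleinFour.mul_self (⟨_, h2⟩ : four t v)))
    rw [mul_inv_eq_one, mul_inv_eq_iff_eq_mul] at h3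
    exact h3
  refine ⟨σ, τ, O, ⟨hs, hh, hO, fun o ho => by rw [hστ]; exact hvc o ho, ?_⟩, hσ2⟩
  -- the order of the group
  set N := Subgroup.normalizer ((four t v : Subgroup G) : Set G) with hN
  have hCN : Subgroup.centralizer ({t} : Set G) ≤ N := fun c hc' =>
    Subgroup.mem_normalizer_fintype fun x hx => hnorm c (mem_cent.1 hc') x hx
  classical
  have hk3 : ((Subgroup.centralizer ({t} : Set G)).subgroupOf N).index ≤ 3 := by
    refine (card_le_orbit N t {t, v, t * v} fun n hn => ?_).trans Finset.card_le_three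
    rcases (mem_four ht hv hc).1 ((Subgroup.mem_normalizer_iff.1 hn t).1 (left_mem_four t v)) with e | e | e | e
    · exact absurd (conj_eq_one_iff.1 e) (ne_one_of_invol ht)
    all_goals simp [e]
  have hk1 : ((Subgroup.centralizer ({t} : Set G)).subgroupOf N).index ≠ 1 := fun e => by
    rw [Subgroup.index_eq_one, Subgroup.subgroupOf_eq_top] at e
    obtain ⟨g, g1, g2, g3⟩ := hs.three ht hv hc hne
    have hg : g ∈ N := Subgroup.mem_normalizer_fintype fun x hx => by
      rcases (mem_four ht hv hc).1 hx with rfl | rfl | rfl | rfl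
      · simp
      · rw [g1]; exact right_mem_four _ _
      · rw [g2]; exact mul_mem (left_mem_four t x) (right_mem_four t x)
      · rw [g3]; exact left_mem_four _ _
    rw [mul_inv_eq_iff_eq_mul, mem_cent.1 (e hg)] at g1
    exact hne (mul_right_cancel g1).symm
  have hcardN : Nat.card N =
      8 * Nat.card O * ((Subgroup.centralizer ({t} : Set G)).subgroupOf N).index := by
    rw [← Subgroup.card_mul_index ((Subgroup.centralizer ({t} : Set G)).subgroupOf N),
      Nat.card_congr (Subgroup.subgroupOfEquivOfLe hCN).toEquiv, ← hσ2, hO.card]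
    rw [h8]
  have hG : Nat.card G = 8 * (S : Subgroup G).index := by
    rw [← h8, Subgroup.card_mul_index]
  have hodd : Odd ((S : Subgroup G).index) := by
    rw [← Nat.not_even_iff_odd, even_iff_two_dvd]
    exact S.not_dvd_index
  obtain ⟨I, hI⟩ := Subgroup.card_subgroup_dvd_card N
  rw [hcardN, hG, mul_assoc 8, mul_assoc 8, mul_left_cancel_iff_of_pos (by norm_num : 0 < 8)] at hI
  rw [hI] at hodd
  obtain ⟨ho1, hoI⟩ := Nat.odd_mul.1 hodd
  have hk : ((Subgroup.centralizer ({t} : Set G)).subgroupOf N).index = 3 := by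
    obtain ⟨-, j, hj⟩ := Nat.odd_mul.1 ho1
    omega
  refine ⟨I, hoI, ?_⟩
  rw [hG, hI, hk]
  ring

variable {S : Sylow 2 G} {σ τ : G} {O : Subgroup G}

theorem Eight.odd_core (h : Eight S σ τ O) : Odd (Nat.card O) := by
  rw [← Nat.not_even_iff_odd, even_iff_two_dvd]
  exact h.core.odd

theorem Eight.tau (h : Eight S σ τ O) : orderOf τ = 2 :=
  orderOf_eq_prime (by rw [sq]; exact h.pair.tinv.1) fun e => h.pair.tnot (e ▸ one_mem _)

theorem Eight.norm_tau (h : Eight S σ τ O) : ∀ x ∈ O, τ * x * τ⁻¹ ∈ O := fun x hx =>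
  h.core.norm τ (h.pair.toDih.z_central h.pair.tmem) x hx

theorem Eight.card_cent (h : Eight S σ τ O) :
    Nat.card (Subgroup.centralizer ({σ ^ 2} : Set G)) = 8 * Nat.card O := by
  rw [h.core.card, h.pair.toDih.card]

/-- The number of inverted elements. -/
noncomputable def rev (σ τ : G) (O : Subgroup G) : ℕ := (inv' O σ τ 0).card

theorem mem_inv_zero (h : Eight S σ τ O) {k : G} :
    k ∈ inv' O σ τ 0 ↔ k ∈ O ∧ τ * k * τ⁻¹ = k⁻¹ := by
  rw [mem_inv', pow_zero, one_mul, invol_inv h.tau]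
  refine and_congr_right fun _ => ⟨fun e => ?_, fun e => ?_⟩
  · refine eq_inv_of_mul_eq_one_right ?_
    rw [← e]; group
  · rw [show k * τ * (k * τ) = k * (τ * k * τ) by group, e, mul_inv_cancel]

theorem Eight.inv_one (h : Eight S σ τ O) : (inv' O σ τ 1).card = 1 := by
  refine Finset.card_eq_one.2 ⟨1, ?_⟩
  ext k
  rw [mem_inv', Finset.mem_singleton, pow_one]
  have hu : σ * τ * (σ * τ) = 1 := by
    have h1 := (h.pair.toDih.out (h.pair.refl_mem 1) (h.pair.refl_not 1)).1
    rwa [pow_one] at h1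
  refine ⟨fun ⟨hk, e⟩ => eq_one_of_sq h.odd_core hk ?_, fun e => ?_⟩
  · rw [mul_assoc, ← mul_assoc (σ * τ), (h.comm k hk).eq.symm, mul_assoc k, hu, mul_one] at e
    exact e
  · subst e
    exact ⟨one_mem O, by rw [one_mul, hu]⟩

/-- `|O| = |C_O(τ)| r`. -/
theorem Eight.card_split (h : Eight S σ τ O) :
    Nat.card O = Nat.card ↥(O ⊓ Subgroup.centralizer {τ}) * rev σ τ O := by
  have e : Nat.card (Cfsg.invertedBy O τ) = rev σ τ O := by
    rw [rev, ← Set.ncard_coe_finset, Nat.card_coe_set_eq]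
    congr 1
    ext k
    rw [Finset.mem_coe, mem_inv_zero h]
    rfl
  rw [← e]
  exact (Cfsg.Agent.S1124.result τ h.tau O h.odd_core h.norm_tau).2.1

theorem Eight.rev_odd (h : Eight S σ τ O) : Odd (rev σ τ O) :=
  h.odd_core.of_dvd_nat ⟨_, h.card_split.trans (mul_comm _ _)⟩

/-- If nothing is inverted then `τ` centralizes `O`. -/
theorem Eight.comm_of_rev_one (h : Eight S σ τ O) (hr : rev σ τ O = 1) : ∀ o ∈ O, Commute o τ := by
  intro o ho
  have hc := h.card_split
  rw [hr, mul_one] at hc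
  have e : O ⊓ Subgroup.centralizer {τ} = O := Subgroup.eq_of_le_of_card_ge inf_le_left hc.le
  rw [← e] at ho
  exact mem_cent.1 ho.2

/-- If every element is fixed or inverted then one of the two sets is everything. -/
theorem Eight.fixed_or_inverted (h : Eight S σ τ O)
    (hall : ∀ o ∈ O, τ * o * τ⁻¹ = o ∨ τ * o * τ⁻¹ = o⁻¹) :
    rev σ τ O = 1 ∨ Nat.card O = rev σ τ O := by
  classical
  haveI := Fintype.ofFinite G
  set F := O ⊓ Subgroup.centralizer ({τ} : Set G)
  have h1 : ((F : Set G) ∪ (inv' O σ τ 0 : Set G)) = (O : Set G) := by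
    ext x
    simp only [Set.mem_union, SetLike.mem_coe, mem_inv_zero h]
    refine ⟨fun hx => hx.elim (fun e => e.1) (fun e => e.1), fun hx => ?_⟩
    rcases hall x hx with e | e
    · exact Or.inl ⟨hx, mem_cent.2 (mul_inv_eq_iff_eq_mul.1 e).symm⟩
    · exact Or.inr ⟨hx, e⟩
  have h2 : ((F : Set G) ∩ (inv' O σ τ 0 : Set G)).Nonempty :=
    ⟨1, one_mem F, (mem_inv_zero h).2 ⟨one_mem O, by simp⟩⟩
  have h3 := Set.ncard_union_add_ncard_inter (F : Set G) (inv' O σ τ 0 : Set G)
  rw [h1, Set.ncard_coe_finset, ← Nat.card_coe_set_eq (O : Set G), ← Nat.card_coe_set_eq (F : Set G)] at h3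
  have h4 := h2.ncard_pos (Set.toFinite _)
  have hc := h.card_split
  change Nat.card O + _ = Nat.card F + rev σ τ O at h3
  have hr := h.rev_odd.pos
  have hF : 0 < Nat.card F := Nat.card_pos
  rcases Nat.lt_or_ge (rev σ τ O) 2 with hr2 | hr2
  · exact Or.inl (by omega)
  · right
    rcases Nat.lt_or_ge (Nat.card F) 2 with hF2 | hF2
    · rw [hc, show Nat.card ↥F = 1 by omega, one_mul]
    · exfalso
      change Nat.card O = Nat.card F * rev σ τ O at hc
      nlinarith

end CfsgLib.BG
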