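import Cfsg.Agent.Lib.BG.Arith
import Cfsg.Agent.Lib.BG.VEight

/-!
The degrees in the principal 2-block for Sylow 2-subgroups of order eight.

* `Eight.exists_char`: a nontrivial irreducible character with the value `δ` on every element of even
  order, whose degree falls into one of three cases.
-/

set_option autoImplicit false
set_option linter.unusedSectionVars false
set_option maxHeartbeats 1000000

namespace CfsgLib.BG

open Cfsg CfsgLib.CharTheory CfsgLib.Blocks CfsgLib.Blocks.Dihedral CfsgLib.Blocks.AbelianFree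
open scoped ComplexConjugate

universe u

variable {G : Type u} [Group G] [Fintype G] {S : Sylow 2 G} {σ τ : G} {O : Subgroup G}

theorem Eight.isConj (h : Eight S σ τ O) :
    IsConj (σ ^ 2) τ ∧ IsConj (σ ^ 2) (σ * τ) := by
  have ht : orderOf (σ ^ 2) = 2 := orderOf_eq_prime (by rw [sq]; exact h.pair.toDih.z_ne.2) h.pair.toDih.z_ne.1
  refine ⟨h.simp.all_conj _ _ ht h.tau, h.simp.all_conj _ _ ht ?_⟩
  have h1 := (h.pair.toDih.out (h.pair.refl_mem 1) (h.pair.refl_not 1)).1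
  rw [pow_one] at h1
  refine orderOf_eq_prime (by rw [sq]; exact h1) fun e => ?_
  have h2 := h.pair.refl_not 1
  rw [pow_one, e] at h2
  exact h2 (one_mem _)

/-- The sum over a Sylow 2-subgroup of a class function. -/
theorem Eight.sum_sylow [Fintype (S : Subgroup G)] (h : Eight S σ τ O) {χ : G → ℂ} (hχ : IsClassFunction G χ) {c₁ c₂ : ℂ}
    (h₁ : χ σ = c₁) (h₂ : χ (σ ^ 2) = c₂) :
    ∑ s : (S : Subgroup G), χ s = χ 1 + 5 * c₂ + 2 * c₁ := by
  classical
  have hcard : Fintype.card (S : Subgroup G) = 8 := by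
    rw [← Nat.card_eq_fintype_card]; exact h.pair.toDih.card
  have hval : ∀ s : (S : Subgroup G), s ≠ 1 → χ s = if s * s = 1 then c₂ else c₁ := by
    intro s hs
    split_ifs with e
    · obtain ⟨g, hg⟩ := isConj_iff.1 ((isConj_z h.pair h.isConj (a := (s : G))).2
        ⟨congrArg Subtype.val e, fun e' => hs (Subtype.ext e')⟩)
      rw [← h₂, ← hg, hχ]
    · have h1 : (s : G) * s ≠ 1 := fun e' => e (Subtype.ext e')
      obtain ⟨n, hn, hn'⟩ := h.pair.exists_pow (h.pair.toDih.sq_ne_one_mem s.2 h1)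
      rw [hn', ← h₁]
      rw [hn'] at h1
      interval_cases n
      · simp at h1
      · rw [pow_one]
      · exact absurd h.pair.toDih.z_ne.2 h1
      · have e3 : σ ^ 3 = σ⁻¹ := eq_inv_of_mul_eq_one_left (by
          rw [← pow_succ, show 3 + 1 = 2 * 2 by rfl, ← h.pair.ord, pow_orderOf_eq_one])
        rw [e3, ← (h.pair.tinv).2, hχ]
  have htwo : (Finset.univ.filter fun s : (S : Subgroup G) => ¬ s * s = 1).card = 2 := by
    let a : (S : Subgroup G) := ⟨σ, h.pair.mem⟩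
    have ha : orderOf a = 4 := by rw [Subgroup.orderOf_mk]; exact h.pair.ord
    have e : (Finset.univ.filter fun s : (S : Subgroup G) => ¬ s * s = 1) = {a, a ^ 3} := by
      ext s
      simp only [Finset.mem_filter, Finset.mem_univ, true_and, Finset.mem_insert, Finset.mem_singleton]
      constructor
      · intro e
        have h1 : (s : G) * s ≠ 1 := fun e' => e (Subtype.ext e')
        obtain ⟨n, hn, hn'⟩ := h.pair.exists_pow (h.pair.toDih.sq_ne_one_mem s.2 h1)
        rw [hn'] at h1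
        interval_cases n
        · simp at h1
        · exact Or.inl (Subtype.ext (by rw [hn', pow_one]))
        · exact absurd h.pair.toDih.z_ne.2 h1
        · exact Or.inr (Subtype.ext hn')
      · rintro (rfl | rfl) e
        · have := orderOf_dvd_of_pow_eq_one (x := a) (n := 2) (by rw [sq, e])
          rw [ha] at this
          norm_num at this
        · rw [← pow_add] at e
          have := orderOf_dvd_of_pow_eq_one e
          rw [ha] at this
          norm_num at this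
    rw [e, Finset.card_pair]
    intro e'
    have := orderOf_dvd_of_pow_eq_one (x := a) (n := 2) (mul_left_cancel (a := a) (by
      rw [mul_one, ← pow_succ']; exact e'.symm))
    rw [ha] at this
    norm_num at this
  rw [← Finset.add_sum_erase _ _ (Finset.mem_univ (1 : (S : Subgroup G))),
    Finset.sum_congr rfl fun s hs => hval s (Finset.ne_of_mem_erase hs), Finset.sum_ite, Finset.sum_const,
    Finset.sum_const, OneMemClass.coe_one]
  have e2 : ((Finset.univ.erase (1 : (S : Subgroup G))).filter fun s => ¬ s * s = 1).card = 2 := by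
    rw [Finset.filter_erase, Finset.erase_eq_of_notMem (by simp), htwo]
  have e1 : ((Finset.univ.erase (1 : (S : Subgroup G))).filter fun s => s * s = 1).card = 5 := by
    have := Finset.card_filter_add_card_filter_not (s := Finset.univ.erase (1 : (S : Subgroup G)))
      (fun s => s * s = 1)
    rw [Finset.card_erase_of_mem (Finset.mem_univ _), Finset.card_univ, hcard] at this
    omega
  rw [e1, e2, nsmul_eq_mul, nsmul_eq_mul]
  push_cast
  ring

/-- The congruence from the restriction to a Sylow 2-subgroup. -/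
theorem Eight.congruence (h : Eight S σ τ O) (χ : IrrCharacter G) {x : ℕ} (hx : (χ : G → ℂ) 1 = x)
    {c₁ c₂ : ℤ} (h₁ : (χ : G → ℂ) σ = c₁) (h₂ : (χ : G → ℂ) (σ ^ 2) = c₂) :
    (8 : ℤ) ∣ (x : ℤ) + 5 * c₂ + 2 * c₁ := by
  classical
  obtain ⟨r, hr⟩ := classInner_char_nat
    (isCharacter_restrict (isCharacter_of_irr χ.2) (S : Subgroup G))
    (isCharacter_one : IsCharacter (S : Subgroup G) fun _ => (1 : ℂ))
  simp only [Cfsg.classInner, map_one, mul_one] at hr
  rw [h.sum_sylow (isClassFunction_irr χ.2) h₁ h₂, hx, inv_mul_eq_iff_eq_mul₀ (Nat.cast_ne_zero.2 Nat.card_pos.ne'),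
    show Nat.card (S : Subgroup G) = 8 from h.pair.toDih.card] at hr
  refine ⟨r, ?_⟩
  apply Int.cast_injective (α := ℂ)
  push_cast at hr ⊢
  exact hr

/-- Elements of even order are sections at rotations. -/
theorem Eight.exists_section (h : Eight S σ τ O) {g : G} (hg : ¬ Odd (orderOf g)) :
    ∃ (l : ℕ) (v b : G), 0 < l ∧ l < 4 ∧ v ∈ regC 2 (σ ^ l) ∧ b * g * b⁻¹ = σ ^ l * v := by
  haveI : Fact (Nat.Prime 2) := ⟨Nat.prime_two⟩
  obtain ⟨z, w, e, hc, ⟨k, hk⟩, hw, -, -⟩ := CfsgLib.Blocks.exists_pPart Nat.prime_two g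
  have hz1 : z ≠ 1 := fun e' => hg (by
    rw [← e, e', one_mul, ← Nat.not_even_iff_odd, even_iff_two_dvd]
    exact hw)
  obtain ⟨b, hb⟩ := DihedralFusion.exists_conj_le (S := S) (T := Subgroup.zpowers z)
    (IsPGroup.of_card (n := k) (by rw [Nat.card_zpowers, hk]))
  have hzS : b * z * b⁻¹ ∈ (S : Subgroup G) := hb ⟨z, Subgroup.mem_zpowers z, rfl⟩
  obtain ⟨l, hl0, hl, c, hc'⟩ : ∃ l, 0 < l ∧ l < 4 ∧ ∃ c : G, c * z * c⁻¹ = σ ^ l := by
    by_cases h2 : b * z * b⁻¹ * (b * z * b⁻¹) = 1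
    · obtain ⟨c, hc'⟩ := isConj_iff.1 ((isConj_z h.pair h.isConj).2
        ⟨h2, fun e' => hz1 (conj_eq_one_iff.1 e')⟩).symm
      exact ⟨2, by norm_num, by norm_num, c * b, by rw [← hc']; group⟩
    · obtain ⟨n, hn, hn'⟩ := h.pair.exists_pow (h.pair.toDih.sq_ne_one_mem hzS h2)
      refine ⟨n, Nat.pos_of_ne_zero fun e0 => h2 ?_, hn, b, hn'⟩
      rw [hn', e0, pow_zero, one_mul]
  refine ⟨l, c * w * c⁻¹, c, hl0, hl, mem_regC.2 ⟨?_, by rwa [conj_orderOf]⟩, ?_⟩
  · rw [← hc']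
    exact (Commute.conj_iff c).2 hc.symm
  · rw [← e, ← hc']
    group

/-- The block characters take one value on the elements of even order. -/
theorem Eight.value_even (h : Eight S σ τ O) {M : Ideal AlgInt} (hM : IsPModular 2 M) {χ : IrrCharacter G}
    (hχ : χ ∈ principalBlock M G) {δ : ℂ} (hval : ∀ l : ℕ, 0 < l → l < 4 → (χ : G → ℂ) (σ ^ l) = δ)
    {g : G} (hg : ¬ Odd (orderOf g)) : (χ : G → ℂ) g = δ := by
  obtain ⟨l, v, b, hl0, hl, hv, hb⟩ := h.exists_section hg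
  obtain ⟨hlm, hlo⟩ := h.pair.toDih.pow_mem l
  obtain ⟨k, hk⟩ := h.pair.toDih.ord_pow
  obtain ⟨K, hKn, hK, k', hidx⟩ : ∃ K : Subgroup (Subgroup.centralizer ({σ ^ l} : Set G)),
      K.Normal ∧ ¬ 2 ∣ Nat.card K ∧ ∃ k', K.index = 2 ^ k' := by
    by_cases h2 : l = 2
    · subst h2
      obtain ⟨K, a, b, c⟩ := h.pair.toDih.complement_z
      exact ⟨K, a, b, k + 1, by rw [c, hk]; ring⟩
    · obtain ⟨K, a, b, c⟩ := h.pair.toDih.complement_rot hlm (fun e => by
        rw [← pow_add] at e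
        have := orderOf_dvd_of_pow_eq_one e
        rw [h.pair.ord] at this
        interval_cases l <;> first | omega | norm_num at this)
      exact ⟨K, a, b, k, c.trans hk⟩
  haveI := hKn
  rw [← isClassFunction_irr χ.2 g b, hb, section_const hM hlo K hK hidx hχ hv, hval l hl0 hl]

/-- The sum over the coset `O σ` of the pairs of involutions. -/
theorem Eight.coset_formula (h : Eight S σ τ O) {M : Ideal AlgInt} (hM : IsPModular 2 M) :
    256 * (Nat.card O : ℂ) ^ 2 * (rev σ τ O : ℂ) =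
      (Nat.card G : ℂ) * (Nat.card O : ℂ) * ∑ χ ∈ bset (principalBlock M G),
        (χ : G → ℂ) (σ ^ 2) ^ 2 / (χ : G → ℂ) 1 * (χ : G → ℂ) σ := by
  classical
  have hh := h.pair
  set c : ℕ := Nat.card (Subgroup.centralizer ({σ ^ 2} : Set G)) with hcdef
  have hc8 : c = 8 * Nat.card O := h.card_cent
  have hclv : ∀ χ : IrrCharacter G, clv (σ ^ 2) χ * (χ : G → ℂ) (σ ^ 2) * (c : ℂ) =
      (Nat.card G : ℂ) * ((χ : G → ℂ) (σ ^ 2) ^ 2 / (χ : G → ℂ) 1) := by
    intro χ
    rw [clv, centralChar, ← Subgroup.index_mul_card (Subgroup.centralizer ({σ ^ 2} : Set G)),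
      ← hcdef, Nat.cast_mul]
    ring
  obtain ⟨hlm, hlo⟩ := hh.toDih.pow_mem 1
  obtain ⟨k, hk⟩ := hh.toDih.ord_pow
  obtain ⟨Ky, hKy, hKo, hidx⟩ := hh.toDih.complement_rot hlm (fun e => by
    rw [← pow_add] at e
    have := orderOf_dvd_of_pow_eq_one e
    rw [hh.ord] at this
    norm_num at this)
  have hcz : ∀ y : G, Commute y (σ ^ 1) → Commute y (σ ^ 2) := fun y hy => by
    rw [pow_one] at hy; exact hy.pow_right 2
  have hsum := fun χ : IrrCharacter G => coset_sum (y := σ ^ 1) hM h.core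
    (Commute.pow_pow_self σ 1 2) hlo hcz hKy hKo (hidx.trans hk) χ
  have hpairs : ((invs (σ ^ 2) ×ˢ invs (σ ^ 2)).filter
      fun y => y.1 * y.2 * (σ ^ 1)⁻¹ ∈ O).card = 4 * rev σ τ O := by
    rw [hh.card_pairs h.core 1]
    show ∑ m ∈ Finset.range 4, _ = _
    simp only [Finset.sum_range_succ, Finset.sum_range_zero]
    norm_num [h.inv_one]
    rw [rev]
    ring
  have key : (c : ℂ) ^ 2 * (((invs (σ ^ 2) ×ˢ invs (σ ^ 2)).filter
      fun y => y.1 * y.2 * (σ ^ 1)⁻¹ ∈ O).card : ℂ) =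
      (Nat.card G : ℂ) * (Nat.card O : ℂ) * ∑ χ ∈ bset (principalBlock M G),
        (χ : G → ℂ) (σ ^ 2) ^ 2 / (χ : G → ℂ) 1 * (χ : G → ℂ) (σ ^ 1) := by
    rw [← sum_pairCount hh h.isConj h.core (Or.inl rfl), Nat.cast_sum, Finset.mul_sum]
    have e : ∀ g, (c : ℂ) ^ 2 * (pairCount (σ ^ 2) (σ ^ 2) g : ℂ) =
        (Nat.card G : ℂ) * ∑ χ : IrrCharacter G,
          (χ : G → ℂ) (σ ^ 2) ^ 2 / (χ : G → ℂ) 1 * conj ((χ : G → ℂ) g) := by
      intro g
      rw [sq (c : ℂ), mul_assoc, mul_comm (c : ℂ) (pairCount _ _ _ : ℂ), hcdef, pairCount_mul,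
        ← hcdef, Finset.mul_sum, Finset.mul_sum]
      exact Finset.sum_congr rfl fun χ _ => by rw [← mul_assoc (Nat.card G : ℂ), ← hclv χ]; ring
    rw [Finset.sum_congr rfl fun g _ => e g, ← Finset.mul_sum, Finset.sum_comm]
    have e2 : ∀ χ : IrrCharacter G, ∑ g ∈ Finset.univ.filter (fun g => g * (σ ^ 1)⁻¹ ∈ O),
        (χ : G → ℂ) (σ ^ 2) ^ 2 / (χ : G → ℂ) 1 * conj ((χ : G → ℂ) g) =
        (Nat.card O : ℂ) * (if χ ∈ bset (principalBlock M G) then
          (χ : G → ℂ) (σ ^ 2) ^ 2 / (χ : G → ℂ) 1 * (χ : G → ℂ) (σ ^ 1) else 0) := by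
      intro χ
      rw [← Finset.mul_sum, ← map_sum, hsum χ, map_mul, map_mul, map_natCast, hh.toDih.value_real]
      by_cases hm : χ ∈ principalBlock M G
      · rw [ind_of_mem hm, map_one, if_pos (mem_bset.2 hm)]; ring
      · rw [ind_of_notMem hm, map_zero, if_neg (fun hm' => hm (mem_bset.1 hm'))]; ring
    rw [Finset.sum_congr rfl fun χ _ => e2 χ, ← Finset.mul_sum, ← mul_assoc, ← Finset.sum_filter]
    congr 1
    exact Finset.sum_congr (by ext; simp) fun _ _ => rfl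
  rw [hpairs, hc8] at key
  simp only [pow_one] at key
  push_cast at key
  linear_combination key

/-- **The character and the three cases.** -/
theorem Eight.exists_char (h : Eight S σ τ O) :
    ∃ (χ : IrrCharacter G) (x : ℕ) (δ : ℤ), χ ≠ oneIrr G ∧ (χ : G → ℂ) 1 = x ∧
      (∀ g : G, ¬ Odd (orderOf g) → (χ : G → ℂ) g = δ) ∧
      ((x = 7 ∧ δ = -1) ∨ (x = 9 ∧ δ = 1 ∧ rev σ τ O = 1) ∨
        (x = 15 ∧ δ = -1 ∧ rev σ τ O = 3 ∧ Nat.card G = 840 * Nat.card O)) := by
  classical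
  have hh := h.pair
  obtain ⟨M, hM⟩ := CfsgLib.Blocks.exists_isPModular Nat.prime_two
  let ζ : ℂ := Complex.exp (2 * Real.pi * Complex.I / (2 * 2 : ℕ))
  have hζ : IsPrimitiveRoot ζ (2 * 2) := Complex.isPrimitiveRoot_exp _ (by norm_num)
  obtain ⟨U, V, W, s, eU, eV, eW, hU, hV, hW, hs, ⟨oU, oV, oW, UV, UW, VW⟩, hsne, hB, hv, hreg⟩ :=
    hh.toDih.exists_columns hM hζ
  have hvalW : ∀ l : ℕ, 0 < l → l < 4 → (W : G → ℂ) (σ ^ l) = eW := fun l a b => (hv l a b).1
  have hWB : W ∈ principalBlock M G := (hB W).2 (Or.inr (Or.inr (Or.inr (Or.inl rfl))))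
  have hdeg : ∀ χ : IrrCharacter G, ((charDegree (χ : G → ℂ) : ℕ) : ℂ) = (χ : G → ℂ) 1 :=
    fun χ => irr_charDegree_cast χ
  obtain ⟨x, hx⟩ : ∃ x : ℕ, (W : G → ℂ) 1 = x := ⟨_, (hdeg W).symm⟩
  obtain ⟨x₂, hx₂⟩ : ∃ x : ℕ, (U : G → ℂ) 1 = x := ⟨_, (hdeg U).symm⟩
  obtain ⟨x₃, hx₃⟩ : ∃ x : ℕ, (V : G → ℂ) 1 = x := ⟨_, (hdeg V).symm⟩
  have hUW : ∀ (χ : IrrCharacter G) (e : ℤ), (χ : G → ℂ) σ = e * (-1) ^ (1 + 1) →
      (χ : G → ℂ) (σ ^ 2) = e * (-1) ^ (2 + 1) → (χ : G → ℂ) σ = e ∧ (χ : G → ℂ) (σ ^ 2) = ((-e : ℤ) : ℂ) :=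
    fun χ e a b => ⟨by rw [a]; norm_num, by rw [b]; norm_num⟩
  have v1 := hv 1 Nat.one_pos (by norm_num)
  have v2 := hv 2 (by norm_num) (by norm_num)
  rw [pow_one] at v1
  obtain ⟨U1, U2⟩ := hUW U eU v1.2.1 v2.2.1
  obtain ⟨V1, V2⟩ := hUW V eV v1.2.2.1 v2.2.2.1
  have cU := h.congruence U hx₂ U1 U2
  have cV := h.congruence V hx₃ V1 V2
  have cW := h.congruence W hx v1.1 v2.1
  have hsum : 1 + (eW : ℤ) * x = -(eU * x₂) - eV * x₃ := by
    have e := (hreg 1 (by simp) ⟨0, by norm_num⟩).1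
    rw [hx, hx₂, hx₃] at e
    exact_mod_cast e
  obtain ⟨hne, hord⟩ := order_formula hM hh h.isConj hWB (fun e => oW e.symm) hW hvalW
  have hWd : charDegree (W : G → ℂ) = x := by
    have := hdeg W
    rw [hx] at this
    exact_mod_cast this
  rw [hWd, h.card_cent, hh.card_invs h.core, h.inv_one] at hord
  rw [hWd] at hne
  obtain ⟨I, hI, hG⟩ := h.order
  -- the coset formula
  have hcoset := h.coset_formula hM
  have hbs : bset (principalBlock M G) =
      insert (oneIrr G) (insert U (insert V (insert W (Finset.univ.image s)))) := by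
    ext χ
    simp only [mem_bset, hB χ, Finset.mem_insert, Finset.mem_image, Finset.mem_univ, true_and, eq_comm]
  have hs0 : ∀ j : Fin (2 - 1), (s j : G → ℂ) σ = 0 := by
    intro j
    rw [v1.2.2.2 j, show (j : ℕ) + 1 = 1 by omega, pow_one, pow_one]
    have h2 : ζ ^ 2 = -1 := IsPrimitiveRoot.eq_neg_one_of_two_right (hζ.pow (by norm_num) rfl)
    have hinv : ζ⁻¹ = -ζ := inv_eq_of_mul_eq_one_right (by linear_combination (-1 : ℂ) * h2)
    rw [hinv, add_neg_cancel, mul_zero]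
  rw [hbs, Finset.sum_insert (by simp [oU, oV, oW, fun k => Ne.symm (hsne k).1]),
    Finset.sum_insert (by simp [UV, UW, fun k => Ne.symm (hsne k).2.1]),
    Finset.sum_insert (by simp [VW, fun k => Ne.symm (hsne k).2.2.1]),
    Finset.sum_insert (by simp [fun k => Ne.symm (hsne k).2.2.2]), Finset.sum_image hs.injOn] at hcoset
  simp only [hs0, mul_zero, Finset.sum_const_zero, add_zero, U1, U2, V1, V2, v1.1, v2.1, hx, hx₂, hx₃,
    show ∀ g, (oneIrr G : G → ℂ) g = 1 from fun g => rfl] at hcoset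
  have hxp : 0 < x ∧ 0 < x₂ ∧ 0 < x₃ := by
    refine ⟨?_, ?_, ?_⟩ <;> refine Nat.pos_of_ne_zero fun e => ?_
    · exact irr_ne_zero W.2 (by rw [hx, e, Nat.cast_zero])
    · exact irr_ne_zero U.2 (by rw [hx₂, e, Nat.cast_zero])
    · exact irr_ne_zero V.2 (by rw [hx₃, e, Nat.cast_zero])
  have hO : (Nat.card O : ℂ) ≠ 0 := Nat.cast_ne_zero.2 Nat.card_pos.ne'
  have sU : ((eU : ℂ)) ^ 2 = 1 := by rcases hU with rfl | rfl <;> norm_num
  have sV : ((eV : ℂ)) ^ 2 = 1 := by rcases hV with rfl | rfl <;> norm_num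
  have sW : ((eW : ℂ)) ^ 2 = 1 := by rcases hW with rfl | rfl <;> norm_num
  have h2 : 3 * (I : ℤ) * ((eU * x₂) * (eV * x₃) * (eW * x) + (eV * x₃) * (eW * x) +
      (eU * x₂) * (eW * x) + (eU * x₂) * (eV * x₃)) =
      32 * (rev σ τ O : ℤ) * ((eU * x₂) * (eV * x₃) * (eW * x)) := by
    apply Int.cast_injective (α := ℂ)
    push_cast
    have a1 : (x : ℂ) ≠ 0 := Nat.cast_ne_zero.2 hxp.1.ne'
    have a2 : (x₂ : ℂ) ≠ 0 := Nat.cast_ne_zero.2 hxp.2.1.ne'
    have a3 : (x₃ : ℂ) ≠ 0 := Nat.cast_ne_zero.2 hxp.2.2.ne'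
    rw [hG] at hcoset
    push_cast at hcoset
    generalize hw : (Nat.card O : ℂ) = w at hcoset hO
    have hc2 : 32 * (rev σ τ O : ℂ) =
        3 * (I : ℂ) * (1 + eU / x₂ + eV / x₃ + eW / x) := by
      refine mul_left_cancel₀ (mul_ne_zero (show (8 : ℂ) ≠ 0 by norm_num) (pow_ne_zero 2 hO)) ?_
      have e1 : (-(eU : ℂ)) ^ 2 / x₂ * eU = eU / x₂ := by rw [neg_sq, sU, one_div_mul_eq_div]
      have e2 : (-(eV : ℂ)) ^ 2 / x₃ * eV = eV / x₃ := by rw [neg_sq, sV, one_div_mul_eq_div]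
      have e3 : (eW : ℂ) ^ 2 / x * eW = eW / x := by rw [sW, one_div_mul_eq_div]
      rw [e1, e2, e3] at hcoset
      norm_num at hcoset
      linear_combination hcoset
    field_simp at hc2
    rcases hU with rfl | rfl <;> rcases hV with rfl | rfl <;> rcases hW with rfl | rfl <;>
      push_cast at hc2 ⊢ <;>
      first | linear_combination -hc2 | linear_combination hc2
  have h1 : 3 * (I : ℤ) * (eW * x - 1) ^ 2 =
      8 * (eW * x) * (eW * x + 1) * (1 + (rev σ τ O : ℤ)) ^ 2 := by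
    rw [hG] at hord
    push_cast at hord
    have hO' : (8 * (Nat.card O : ℤ)) ≠ 0 := by
      have := Nat.card_pos (α := O)
      omega
    apply mul_left_cancel₀ hO'
    rw [rev]
    rcases hW with rfl | rfl <;> linear_combination hord
  have hcases := arith h.rev_odd hI (d := eW * x) (a := eU * x₂) (b := eV * x₃)
    (by rcases hW with rfl | rfl <;> omega) (fun e => hne ?_)
    (by rcases hU with rfl | rfl <;> omega) (by rcases hV with rfl | rfl <;> omega) (by linarith) h1 h2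
  · refine ⟨W, x, eW, fun e => oW e.symm, hx, fun g hg => h.value_even hM hWB hvalW hg, ?_⟩
    rcases hcases with e | ⟨e, e1, -⟩ | ⟨e, e1, e2⟩
    · left
      rcases hW with rfl | rfl <;> omega
    · right; left
      rcases hW with rfl | rfl <;> omega
    · right; right
      refine ⟨?_, ?_, e1, ?_⟩
      · rcases hW with rfl | rfl <;> omega
      · rcases hW with rfl | rfl <;> omega
      · rw [hG, e2]; ring
  · rcases hW with rfl | rfl <;> omega

end CfsgLib.BG
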