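import Cfsg.Agent.Lib.BG.VDegrees
import Cfsg.Agent.Lib.CharTheory.DetOrbit
import Cfsg.Agent.Lib.LinearGroups.Blichfeldt

/-!
The core of an involution centralizer for Sylow 2-subgroups of order eight.

* `multiplicity_dvd`, `Eight.multiplicity_one`: congruences for the restriction to `O`.
* `exists_two_linear`: the shape of the restriction.
* `Eight.small`: `O = 1` or `|G| = 2520`.
-/

set_option autoImplicit false
set_option linter.unusedSectionVars false
set_option maxHeartbeats 1000000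

namespace CfsgLib.BG

open Cfsg CfsgLib.CharTheory CfsgLib.Blocks CfsgLib.Blocks.Dihedral
open scoped ComplexConjugate

universe u

variable {G : Type u} [Group G] [Fintype G] {S : Sylow 2 G} {σ τ : G} {O : Subgroup G}

theorem Eight.mem_core (h : Eight S σ τ O) {g : G} (hc : g * σ ^ 2 = σ ^ 2 * g) (hg : Odd (orderOf g)) :
    g ∈ O := by
  haveI : Fact (Nat.Prime 2) := ⟨Nat.prime_two⟩
  have ht : orderOf (σ ^ 2) = 2 := orderOf_eq_prime (by rw [sq]; exact h.pair.toDih.z_ne.2) h.pair.toDih.z_ne.1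
  obtain ⟨k, hk, p, hp, e⟩ := h.core.dec g hc
  have hmem : ∀ {y : G}, y * σ ^ 2 = σ ^ 2 * y → Odd (orderOf y) → y ∈ GW.coreC (σ ^ 2) :=
    fun a b => (GW.mem_coreC h.simp.dihedral ht).2 ⟨a, b⟩
  have hpc : p ∈ GW.coreC (σ ^ 2) := by
    rw [show p = k⁻¹ * g by rw [e, inv_mul_cancel_left]]
    exact mul_mem (inv_mem (hmem (h.core.comm k hk).eq (odd_orderOf h.odd_core hk))) (hmem hc hg)
  obtain ⟨j, hj⟩ := IsPGroup.iff_orderOf.1 S.2 ⟨p, hp⟩
  rw [Subgroup.orderOf_mk] at hj
  have hp1 : p = 1 := orderOf_eq_one_iff.1 (Nat.eq_one_of_dvd_coprimes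
    ((Nat.coprime_two_left.2 ((GW.mem_coreC h.simp.dihedral ht).1 hpc).2).pow_left j) (dvd_of_eq hj) dvd_rfl)
  rw [e, hp1, mul_one]
  exact hk

/-- The congruence from a 2-group centralizing `O`. -/
theorem multiplicity_dvd [Fintype O] (hO : Odd (Nat.card O)) (P : Subgroup G) (hP : IsPGroup 2 P)
    (hc : ∀ o ∈ O, ∀ p ∈ P, Commute o p) {χ : G → ℂ} (hχ : IsCharacter G χ) {δ : ℂ}
    (hval : ∀ g : G, ¬ Odd (orderOf g) → χ g = δ) (φ : IrrCharacter O) {n : ℕ}
    (hn : classInner (fun o : O => χ o) φ = n) (hφ : φ ≠ oneIrr O) : Nat.card P ∣ n := by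
  classical
  haveI := Fintype.ofFinite P
  haveI : Fact (Nat.Prime 2) := ⟨Nat.prime_two⟩
  let f : P × O →* G :=
    { toFun := fun x => (x.1 : G) * x.2
      map_one' := by simp
      map_mul' := fun a b => by
        show ((a.1 : G) * b.1) * ((a.2 : G) * b.2) = a.1 * a.2 * ((b.1 : G) * b.2)
        exact ((hc _ a.2.2 _ b.1.2).symm).mul_mul_mul_comm _ _ }
  obtain ⟨r, hr⟩ := classInner_char_nat (isCharacter_comp hχ f)
    (isCharacter_comp (isCharacter_of_irr φ.2) (MonoidHom.snd P O))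
  have h0 : ∑ o : O, conj ((φ : O → ℂ) o) = 0 := by
    have h := classInner_irr_ne (oneIrr O).2 φ.2 fun e => hφ (Subtype.ext e.symm)
    simp only [Cfsg.classInner, mul_eq_zero, inv_eq_zero, Nat.cast_eq_zero] at h
    have h' := h.resolve_left Nat.card_pos.ne'
    rw [← h']
    exact Finset.sum_congr rfl fun o _ => (one_mul _).symm
  have hp : ∀ p : P, p ≠ 1 → ∀ o : O, χ ((p : G) * o) = δ := by
    intro p hp1 o
    refine hval _ fun hodd => ?_
    obtain ⟨j, hj⟩ := IsPGroup.iff_orderOf.1 hP p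
    have hj0 : j ≠ 0 := fun e => hp1 (orderOf_eq_one_iff.1 (by rw [hj, e, pow_zero]))
    rw [← Subgroup.orderOf_coe] at hj
    rw [(hc _ o.2 _ p.2).symm.orderOf_mul_eq_mul_orderOf_of_coprime (by
      rw [hj]
      exact (Nat.coprime_two_left.2 (odd_orderOf hO o.2)).pow_left j), hj] at hodd
    exact absurd (Nat.odd_mul.1 hodd).1 (by rw [Nat.not_odd_iff_even]; exact (even_two).pow_of_ne_zero hj0)
  have hrow : ∀ p : P, ∑ o : O, χ (f (p, o)) * conj ((φ : O → ℂ) o) =
      if p = 1 then ∑ o : O, χ o * conj ((φ : O → ℂ) o) else 0 := by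
    intro p
    split_ifs with e
    · subst e
      exact Finset.sum_congr rfl fun o _ => by simp [f]
    · rw [Finset.sum_congr rfl fun o _ => by rw [show χ (f (p, o)) = δ from hp p e o], ← Finset.mul_sum, h0,
        mul_zero]
  simp only [Cfsg.classInner] at hr hn
  rw [Fintype.sum_prod_type] at hr
  change _ * (∑ p : P, ∑ o : O, χ (f (p, o)) * conj ((φ : O → ℂ) o)) = _ at hr
  rw [Finset.sum_congr rfl fun p _ => hrow p, Finset.sum_ite_eq', if_pos (Finset.mem_univ _), Nat.card_prod,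
    Nat.cast_mul, mul_inv, mul_assoc, hn, inv_mul_eq_iff_eq_mul₀ (Nat.cast_ne_zero.2 Nat.card_pos.ne')] at hr
  exact ⟨r, by exact_mod_cast hr⟩

/-- The congruence from `C(t)`. -/
theorem Eight.multiplicity_one [Fintype O] (h : Eight S σ τ O) {χ : G → ℂ} (hχ : IsCharacter G χ) {δ : ℤ}
    (hval : ∀ g : G, ¬ Odd (orderOf g) → χ g = δ) {n : ℕ}
    (hn : classInner (fun o : O => χ o) (oneIrr O : O → ℂ) = n) : (8 : ℤ) ∣ (n : ℤ) - δ := by
  classical
  set C := Subgroup.centralizer ({σ ^ 2} : Set G) with hC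
  obtain ⟨r, hr⟩ := classInner_char_nat (isCharacter_restrict hχ C)
    (isCharacter_one : IsCharacter C fun _ => (1 : ℂ))
  simp only [Cfsg.classInner, map_one, mul_one] at hr hn
  have hn' : ∑ o : O, χ o = (Nat.card O : ℂ) * n := by
    have e := hn
    simp only [show ∀ o, (oneIrr O : O → ℂ) o = 1 from fun o => rfl, map_one, mul_one] at e
    rwa [inv_mul_eq_iff_eq_mul₀ (Nat.cast_ne_zero.2 Nat.card_pos.ne')] at e
  have hsplit : ∀ c : C, χ (c : G) = (if (c : G) ∈ O then χ c - δ else 0) + δ := by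
    intro c
    split_ifs with e
    · ring
    · rw [hval _ fun ho => e (h.mem_core (mem_cent.1 c.2) ho), zero_add]
  have hO : ∑ c : C, (if (c : G) ∈ O then χ c - δ else 0) = ∑ o : O, (χ o - δ) := by
    rw [← Finset.sum_filter]
    refine Finset.sum_bij' (fun c hc => (⟨(c : G), (Finset.mem_filter.1 hc).2⟩ : O))
      (fun o _ => (⟨(o : G), mem_cent.2 (h.core.comm o o.2).eq⟩ : C)) ?_ ?_ ?_ ?_ ?_
    · intros; exact Finset.mem_univ _
    · intro o _; simp
    · intros; rfl
    · intros; rfl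
    · intros; rfl
  rw [Finset.sum_congr rfl fun c _ => hsplit c, Finset.sum_add_distrib, hO, Finset.sum_sub_distrib,
    Finset.sum_const, Finset.sum_const, Finset.card_univ, Finset.card_univ, ← Nat.card_eq_fintype_card,
    ← Nat.card_eq_fintype_card, hn', inv_mul_eq_iff_eq_mul₀ (Nat.cast_ne_zero.2 Nat.card_pos.ne'),
    hC, h.card_cent, nsmul_eq_mul, nsmul_eq_mul] at hr
  push_cast at hr
  have e : (n : ℂ) + 7 * δ = 8 * r := by
    refine mul_left_cancel₀ (Nat.cast_ne_zero.2 (Nat.card_pos (α := O)).ne') ?_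
    linear_combination hr
  have e' : (n : ℤ) + 7 * δ = 8 * r := by exact_mod_cast e
  omega

/-- Irreducible characters of an odd group, multiplicities divisible by four, total degree eight. -/
theorem exists_two_linear {A : Type u} [Group A] [Fintype A] [DecidableEq (IrrCharacter A)]
    (hA : Odd (Nat.card A)) {s : Finset (IrrCharacter A)} {n d : IrrCharacter A → ℕ}
    (hd : ∀ φ : IrrCharacter A, (φ : A → ℂ) 1 = d φ) (h4 : ∀ φ ∈ s, 4 ∣ n φ)
    (hsum : ∑ φ ∈ s, n φ * d φ = 8) :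
    ∃ a b : A →* ℂˣ,
      (∀ g : A, ∑ φ ∈ s, (n φ : ℂ) * (φ : A → ℂ) g = 4 * (a g : ℂ) + 4 * (b g : ℂ)) ∧
      ((∀ φ ∈ s, 8 ∣ n φ) → a = b) := by
  set T := s.filter fun φ => n φ ≠ 0
  have hodd : ∀ φ, Odd (d φ) := fun φ => hA.of_dvd_nat (CfsgLib.LinearGroups.irr_degree_dvd φ.2 (hd φ))
  have hT : ∀ φ ∈ T, 4 ≤ n φ * d φ := fun φ hφ => by
    obtain ⟨h1, h2⟩ := Finset.mem_filter.1 hφ
    exact le_trans (Nat.le_of_dvd (Nat.pos_of_ne_zero h2) (h4 φ h1)) (Nat.le_mul_of_pos_right _ (hodd φ).pos)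
  have hsT : ∀ (R : Type) [AddCommMonoid R] (f : IrrCharacter A → R), (∀ φ, n φ = 0 → f φ = 0) →
      ∑ φ ∈ T, f φ = ∑ φ ∈ s, f φ := fun R _ f hf => by
    refine Finset.sum_filter_of_ne fun φ _ hne e => hne (hf φ e)
  have hsum' : ∑ φ ∈ T, n φ * d φ = 8 := by rw [hsT ℕ _ fun φ e => by simp [e], hsum]
  have hval : ∀ g : A, ∑ φ ∈ T, (n φ : ℂ) * (φ : A → ℂ) g = ∑ φ ∈ s, (n φ : ℂ) * (φ : A → ℂ) g :=
    fun g => hsT ℂ _ fun φ e => by simp [e]
  have hlin : ∀ φ, d φ = 1 → ∃ a : A →* ℂˣ, (φ : A → ℂ) = fun g => (a g : ℂ) := fun φ e =>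
    exists_hom_of_degree_one (isCharacter_of_irr φ.2) (by rw [hd, e, Nat.cast_one])
  have hc : T.card ≤ 2 := by
    have := Finset.card_nsmul_le_sum T _ 4 hT
    rw [hsum', smul_eq_mul] at this
    omega
  rcases (show T.card = 0 ∨ T.card = 1 ∨ T.card = 2 by omega) with e | e | e
  · rw [Finset.card_eq_zero.1 e, Finset.sum_empty] at hsum'
    omega
  · obtain ⟨φ, hφ⟩ := Finset.card_eq_one.1 e
    rw [hφ, Finset.sum_singleton] at hsum'
    have h4' := h4 φ (Finset.mem_filter.1 (hφ ▸ Finset.mem_singleton_self φ : φ ∈ T)).1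
    obtain ⟨k, hk⟩ := h4'
    obtain ⟨i, hi⟩ := hodd φ
    rw [hk, mul_assoc] at hsum'
    have hkd : k * d φ = 2 := by omega
    have hd1 : d φ = 1 := by
      have := Nat.le_of_dvd two_pos ⟨k, by rw [← hkd, mul_comm]⟩
      omega
    rw [hd1, mul_one] at hkd
    obtain ⟨a, ha⟩ := hlin φ hd1
    refine ⟨a, a, fun g => ?_, fun _ => rfl⟩
    rw [← hval, hφ, Finset.sum_singleton, hk, hkd, ha]
    push_cast
    ring
  · obtain ⟨φ, ψ, hne, hT2⟩ := Finset.card_eq_two.1 e
    have h1 := hT φ (hT2 ▸ Finset.mem_insert_self _ _)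
    have h2 := hT ψ (hT2 ▸ Finset.mem_insert_of_mem (Finset.mem_singleton_self _))
    rw [hT2, Finset.sum_pair hne] at hsum'
    have key : ∀ χ ∈ T, n χ * d χ = 4 → n χ = 4 ∧ d χ = 1 := fun χ hχ he => by
      obtain ⟨m1, m2⟩ := Finset.mem_filter.1 hχ
      have l1 := Nat.le_of_dvd (Nat.pos_of_ne_zero m2) (h4 χ m1)
      have l2 := (hodd χ).pos
      constructor <;> nlinarith
    obtain ⟨nφ, dφ⟩ := key φ (hT2 ▸ Finset.mem_insert_self _ _) (by omega)
    obtain ⟨nψ, dψ⟩ := key ψ (hT2 ▸ Finset.mem_insert_of_mem (Finset.mem_singleton_self _)) (by omega)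
    obtain ⟨a, ha⟩ := hlin φ dφ
    obtain ⟨b, hb⟩ := hlin ψ dψ
    refine ⟨a, b, fun g => ?_, fun h8 => ?_⟩
    · rw [← hval, hT2, Finset.sum_pair hne, nφ, nψ, ha, hb]
      norm_num
    · have := h8 φ (Finset.mem_filter.1 (hT2 ▸ Finset.mem_insert_self _ _ : φ ∈ T)).1
      rw [nφ] at this
      norm_num at this

/-- The determinant of a character of a non-abelian simple group. -/
theorem det_restrict (hs : Simp G) {χ : G → ℂ} (hχ : IsCharacter G χ) (O : Subgroup G) :
    detChar (fun o : O => χ o) = fun _ => 1 := by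
  obtain ⟨D, hD⟩ := exists_detHom hχ
  have htriv : ∀ g, D g = 1 := by
    rcases hs.simple.eq_bot_or_eq_top_of_normal D.ker (MonoidHom.normal_ker D) with e | e
    · exfalso
      exact hs.noncomm ⟨⟨fun a b => (MonoidHom.ker_eq_bot_iff D).1 e (by rw [map_mul, map_mul, mul_comm])⟩⟩
    · intro g
      exact MonoidHom.mem_ker.1 (e ▸ Subgroup.mem_top g)
  have h := detChar_comp hχ O.subtype
  simp only [Subgroup.coe_subtype] at h
  rw [h, hD]
  funext o
  simp [htriv]

theorem units_eq_one {c : ℂˣ} {k n : ℕ} (hn : Odd n) (h1 : c ^ n = 1) (h2 : c ^ 2 ^ k = 1) : c = 1 :=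
  orderOf_eq_one_iff.1 (Nat.eq_one_of_dvd_coprimes ((Nat.coprime_two_left.2 hn).pow_left k)
    (orderOf_dvd_of_pow_eq_one h2) (orderOf_dvd_of_pow_eq_one h1))

/-- **`O = 1` or `|G| = 2520`.** -/
theorem Eight.small (h : Eight S σ τ O) : Nat.card O = 1 ∨ Nat.card G = 2520 := by
  classical
  haveI := Fintype.ofFinite O
  haveI : Fact (Nat.Prime 2) := ⟨Nat.prime_two⟩
  obtain ⟨χ, x, δ, hne, hx, hval, hcases⟩ := h.exists_char
  have hχ := isCharacter_of_irr χ.2
  have hsimple := h.simp.simple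
  -- the kernel is trivial
  have hker : ∀ g : G, (χ : G → ℂ) g = x → g = 1 := by
    intro g hg
    rcases hsimple.eq_bot_or_eq_top_of_normal (charKernel (χ : G → ℂ) hχ) inferInstance with e | e
    · have := (mem_charKernel hχ g).2 (hg.trans hx.symm)
      rwa [e, Subgroup.mem_bot] at this
    · refine absurd (Subtype.ext ?_) hne
      exact irr_eq_one_of_kernel_top χ.2 fun g => (mem_charKernel hχ g).1 (e ▸ Subgroup.mem_top g)
  -- the restriction
  have hψ : IsCharacter O fun o : O => (χ : G → ℂ) o := isCharacter_restrict hχ O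
  choose n hn using fun φ : IrrCharacter O => classInner_char_nat hψ (isCharacter_of_irr φ.2)
  choose d hd0 hd using fun φ : IrrCharacter O => irr_degree_pos φ.2
  have hdec : ∀ o : O, (χ : G → ℂ) o =
      (n (oneIrr O) : ℂ) + ∑ φ ∈ Finset.univ.erase (oneIrr O), (n φ : ℂ) * (φ : O → ℂ) o := by
    intro o
    have e := congrFun (eq_sum_irr (isClassFunction_char hψ)) o
    simp only [Finset.sum_apply, Pi.smul_apply, smul_eq_mul, hn] at e
    rw [e, ← Finset.add_sum_erase _ _ (Finset.mem_univ (oneIrr O)),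
      show (oneIrr O : O → ℂ) o = 1 from rfl, mul_one]
  have hdeg : x = n (oneIrr O) + ∑ φ ∈ Finset.univ.erase (oneIrr O), n φ * d φ := by
    have e := hdec 1
    simp only [OneMemClass.coe_one, hx, hd] at e
    exact_mod_cast e
  have h1 := h.multiplicity_one hχ hval (hn (oneIrr O))
  have htriv : n (oneIrr O) = x → Nat.card O = 1 := by
    intro e
    have hz : ∑ φ ∈ Finset.univ.erase (oneIrr O), n φ * d φ = 0 := by omega
    rw [Finset.sum_eq_zero_iff] at hz
    have hall : ∀ o : O, o = 1 := fun o => Subtype.ext (hker o (by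
      rw [hdec, e, Finset.sum_eq_zero fun φ hφ => by
        rw [(mul_eq_zero.1 (hz φ hφ)).resolve_right (hd0 φ).ne', Nat.cast_zero, zero_mul], add_zero]))
    haveI : Subsingleton O := ⟨fun a b => (hall a).trans (hall b).symm⟩
    exact Nat.card_of_subsingleton (1 : O)
  by_cases hfull : n (oneIrr O) = x
  · exact Or.inl (htriv hfull)
  have h8 : n (oneIrr O) + 8 = x ∧ x ≠ 7 := by
    have hle : n (oneIrr O) ≤ x := by omega
    rcases hcases with ⟨rfl, rfl⟩ | ⟨rfl, rfl, -⟩ | ⟨rfl, rfl, -⟩ <;> omega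
  have hsum : ∑ φ ∈ Finset.univ.erase (oneIrr O), n φ * d φ = 8 := by omega
  -- the four group
  have ht : orderOf (σ ^ 2) = 2 := orderOf_eq_prime (by rw [sq]; exact h.pair.toDih.z_ne.2) h.pair.toDih.z_ne.1
  have hu : orderOf (σ * τ) = 2 := by
    obtain ⟨g, hg⟩ := isConj_iff.1 h.isConj.2
    rw [← hg, orderOf_conj, ht]
  have hcu : σ ^ 2 * (σ * τ) = σ * τ * σ ^ 2 :=
    (h.pair.toDih.z_central (mul_mem h.pair.mem h.pair.tmem)).eq.symm
  have hune : σ * τ ≠ σ ^ 2 := fun e => by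
    have h' := h.pair.refl_not 1
    rw [pow_one, e] at h'
    exact h' (Subgroup.npow_mem_zpowers σ 2)
  have hK := isKleinFour_four ht hu hcu hune
  have hV : ∀ o ∈ O, ∀ p ∈ four (σ ^ 2) (σ * τ), Commute o p := fun o ho p hp => by
    rcases (mem_four ht hu hcu).1 hp with rfl | rfl | rfl | rfl
    · exact Commute.one_right o
    · exact h.core.comm o ho
    · exact h.comm o ho
    · exact (h.core.comm o ho).mul_right (h.comm o ho)
  have h4 : ∀ φ ∈ Finset.univ.erase (oneIrr O), 4 ∣ n φ := fun φ hφ => by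
    rw [← hK.card_four]
    exact multiplicity_dvd h.odd_core _ (DihedralFusion.isPGroup_klein hK) hV hχ hval φ (hn φ) (Finset.ne_of_mem_erase hφ)
  obtain ⟨a, b, hab, hab8⟩ := exists_two_linear h.odd_core hd h4 hsum
  -- the determinant
  have hprod : ∀ o : O, a o * b o = 1 := by
    intro o
    have hfun : (fun o : O => (χ : G → ℂ) o) =
        (((n (oneIrr O) : ℕ) : ℂ) • (fun o : O => ((1 : O →* ℂˣ) o : ℂ)) + ((4 : ℕ) : ℂ) • fun o => (a o : ℂ)) +
          ((4 : ℕ) : ℂ) • fun o => (b o : ℂ) := by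
      funext o
      simp only [Pi.add_apply, Pi.smul_apply, smul_eq_mul, MonoidHom.one_apply, Units.val_one, mul_one]
      rw [hdec, hab]
      push_cast
      ring
    have hl : ∀ φ : O →* ℂˣ, IsCharacter O fun o => (φ o : ℂ) :=
      fun φ => isCharacter_of_irr (isIrrCharacter_linear φ)
    have hdet := det_restrict h.simp hχ O
    rw [hfun, detChar_add (isCharacter_add (isCharacter_nsmul (hl _) _) (isCharacter_nsmul (hl a) _))
      (isCharacter_nsmul (hl b) _), detChar_add (isCharacter_nsmul (hl _) _) (isCharacter_nsmul (hl a) _),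
      detChar_nsmul (hl _), detChar_nsmul (hl a), detChar_nsmul (hl b), detChar_linear, detChar_linear,
      detChar_linear] at hdet
    have e := congrFun hdet o
    simp only [Pi.mul_apply, Pi.pow_apply, MonoidHom.one_apply, Units.val_one, one_pow, one_mul] at e
    refine units_eq_one (k := 2) (n := orderOf o) (h.odd_core.of_dvd_nat (orderOf_dvd_natCard o)) ?_ ?_
    · rw [mul_pow, ← map_pow, ← map_pow, pow_orderOf_eq_one, map_one, map_one, one_mul]
    · refine Units.ext ?_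
      rw [show 2 ^ 2 = 4 from rfl, Units.val_pow_eq_pow_val, Units.val_mul, mul_pow, e, Units.val_one]
  have hform : ∀ o : O, (χ : G → ℂ) o = (n (oneIrr O) : ℂ) + (4 * (a o : ℂ) + 4 * (a o : ℂ)⁻¹) := by
    intro o
    rw [hdec, hab, show b o = (a o)⁻¹ from eq_inv_of_mul_eq_one_right (hprod o)]
    push_cast
    rfl
  have hinj : ∀ o : O, a o = 1 → o = 1 := fun o e => Subtype.ext (hker o (by
    rw [hform, e, Units.val_one, ← h8.1]
    push_cast
    ring))
  rcases hcases with ⟨e, -⟩ | ⟨-, -, hr⟩ | ⟨-, -, hr, hG⟩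
  · exact absurd e h8.2
  · -- `τ` centralizes `O`
    left
    have hS : ∀ o ∈ O, ∀ p ∈ (S : Subgroup G), Commute o p := fun o ho p hp => by
      have hτ := h.comm_of_rev_one hr o ho
      have hσ : Commute o σ := by
        have e := (h.comm o ho).mul_right hτ
        rwa [mul_assoc, h.pair.tinv.1, mul_one] at e
      obtain ⟨m, -, e | e⟩ := (h.pair.shape hp).elim (fun ⟨m, a, b⟩ => ⟨m, a, Or.inl b⟩)
        (fun ⟨m, a, b⟩ => (⟨m, a, Or.inr b⟩ : ∃ m, m < 2 * 2 ∧ (p = σ ^ m ∨ p = σ ^ m * τ)))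
      · rw [e]; exact hσ.pow_right m
      · rw [e]; exact (hσ.pow_right m).mul_right hτ
    have h8' : ∀ φ ∈ Finset.univ.erase (oneIrr O), 8 ∣ n φ := fun φ hφ => by
      rw [show 8 = Nat.card (S : Subgroup G) from h.pair.toDih.card.symm]
      exact multiplicity_dvd h.odd_core _ S.2 hS hχ hval φ (hn φ) (Finset.ne_of_mem_erase hφ)
    have hab' := hab8 h8'
    have hall : ∀ o : O, o = 1 := fun o => hinj o (units_eq_one (k := 1) (n := orderOf o)
      (h.odd_core.of_dvd_nat (orderOf_dvd_natCard o)) (by rw [← map_pow, pow_orderOf_eq_one, map_one])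
      (by
        rw [pow_one, sq]
        nth_rewrite 2 [hab']
        exact hprod o))
    haveI : Subsingleton O := ⟨fun a b => (hall a).trans (hall b).symm⟩
    exact Nat.card_of_subsingleton (1 : O)
  · -- everything is inverted
    right
    have hall : ∀ o ∈ O, τ * o * τ⁻¹ = o ∨ τ * o * τ⁻¹ = o⁻¹ := by
      intro o ho
      set o' : O := ⟨τ * o * τ⁻¹, h.norm_tau o ho⟩
      have e : (χ : G → ℂ) (o' : G) = (χ : G → ℂ) ((⟨o, ho⟩ : O) : G) := isClassFunction_irr χ.2 o τ
      rw [hform, hform] at e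
      have hA := (a o').ne_zero
      have hB := (a ⟨o, ho⟩).ne_zero
      have e' : ((a o' : ℂ) - a ⟨o, ho⟩) * ((a o' : ℂ) * a ⟨o, ho⟩ - 1) = 0 := by
        field_simp at e
        linear_combination e / 4
      have eq_of : ∀ y : O, a o' = a y → o' = y := fun y hy => mul_inv_eq_one.1 (hinj _ (by
        rw [map_mul, map_inv, hy, mul_inv_cancel]))
      rcases mul_eq_zero.1 e' with c | c
      · exact Or.inl (congrArg Subtype.val (eq_of _ (Units.ext (sub_eq_zero.1 c))))
      · refine Or.inr (congrArg Subtype.val (eq_of ⟨o, ho⟩⁻¹ ?_))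
        rw [map_inv]
        exact eq_inv_of_mul_eq_one_left (Units.ext (sub_eq_zero.1 c))
    rcases h.fixed_or_inverted hall with e | e
    · omega
    · rw [hG, e, hr]

end CfsgLib.BG
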