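import Cfsg.Agent.Lib.BG.PCase

/-!
The four group of a component-free subgroup properly containing an involution centralizer.

* `card_le_orbit`: orbit bound.
* `card_le_four`: 2-subgroups centralizing a four group have order at most four.
* `core_four`: if `C(t) < K` and `F*(K) = F(K)`, then `O₂(K)` is a four group through `t`.
* `sylow_le_eight`: then the Sylow 2-subgroups have order at most eight.
-/

set_option autoImplicit false
set_option linter.unusedSectionVars false

namespace CfsgLib.BG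

open Cfsg DihedralGroup CfsgLib.GW CfsgLib.DihedralFusion CfsgLib.BenderMax

universe u

variable {G : Type u} [Group G] [Finite G]

/-- The orbit of `a` under conjugation by `N` bounds the index of its stabilizer. -/
theorem card_le_orbit (N : Subgroup G) (a : G) (T : Finset G) (h : ∀ n ∈ N, n * a * n⁻¹ ∈ T) :
    ((Subgroup.centralizer ({a} : Set G)).subgroupOf N).index ≤ T.card := by
  classical
  let f : (↥N ⧸ (Subgroup.centralizer ({a} : Set G)).subgroupOf N) → (T : Set G) :=
    Quotient.lift (fun n : N => (⟨(n : G) * a * (n : G)⁻¹, h n n.2⟩ : (T : Set G))) fun x y e => by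
      have e' := Subgroup.mem_subgroupOf.1 (QuotientGroup.leftRel_apply.1 e)
      rw [Subgroup.coe_mul, InvMemClass.coe_inv, mem_cent] at e'
      refine Subtype.ext ?_
      show (x : G) * a * (x : G)⁻¹ = (y : G) * a * (y : G)⁻¹
      calc (x : G) * a * (x : G)⁻¹ = (x : G) * (a * ((x : G)⁻¹ * y)) * (y : G)⁻¹ := by group
        _ = (x : G) * ((x : G)⁻¹ * y * a) * (y : G)⁻¹ := by rw [← e']
        _ = (y : G) * a * (y : G)⁻¹ := by group
  have hf : Function.Injective f := by
    rintro ⟨x⟩ ⟨y⟩ e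
    have e' : (x : G) * a * (x : G)⁻¹ = (y : G) * a * (y : G)⁻¹ := congrArg Subtype.val e
    refine Quotient.sound (QuotientGroup.leftRel_apply.2 ?_)
    rw [Subgroup.mem_subgroupOf, Subgroup.coe_mul, InvMemClass.coe_inv, mem_cent]
    calc (x : G)⁻¹ * y * a = (x : G)⁻¹ * ((y : G) * a * (y : G)⁻¹) * y := by group
      _ = (x : G)⁻¹ * ((x : G) * a * (x : G)⁻¹) * y := by rw [e']
      _ = a * ((x : G)⁻¹ * y) := by group
  have := Nat.card_le_card_of_injective f hf
  rwa [Nat.card_coe_set_eq, Set.ncard_coe_finset] at this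

section

variable (hs : Simp G)

include hs

/-- A 2-subgroup centralizing a four group has order at most four. -/
theorem card_le_four {t v : G} (ht : orderOf t = 2) (hv : orderOf v = 2) (hc : t * v = v * t) (hne : v ≠ t)
    {P : Subgroup G} (hP : IsPGroup 2 P) (hct : ∀ p ∈ P, p * t = t * p) (hcv : ∀ p ∈ P, p * v = v * p) :
    Nat.card P ≤ 4 := by
  haveI : Fact (Nat.Prime 2) := ⟨Nat.prime_two⟩
  have hV := isKleinFour_four ht hv hc hne
  have hle : P ≤ Subgroup.centralizer ((four t v : Subgroup G) : Set G) := fun p hp =>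
    Subgroup.mem_centralizer_iff.2 fun x hx => by
      rcases (mem_four ht hv hc).1 hx with rfl | rfl | rfl | rfl
      · rw [one_mul, mul_one]
      · exact (hct p hp).symm
      · exact (hcv p hp).symm
      · exact (((show Commute p t from hct p hp).mul_right (show Commute p v from hcv p hp))).eq.symm
  obtain ⟨k, hk⟩ := IsPGroup.iff_card.1 hP
  have h1 := Subgroup.card_dvd_of_le hle
  rw [card_centralizer_klein hs.dihedral hV, hk] at h1
  have hodd : Odd (Nat.card (coreT (four t v))) := by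
    rw [coreT, Subgroup.card_map_of_injective (Subgroup.subtype_injective _)]
    exact CfsgLib.odd_card_oddCore
  rw [hk]
  exact Nat.le_of_dvd (by norm_num) ((Nat.Coprime.pow_left k (Nat.coprime_two_left.2 hodd)).dvd_of_dvd_mul_right h1)

/-- **The four group `O₂(K)`.** -/
theorem core_four {t : G} (ht : orderOf t = 2) {K : Subgroup G}
    (hlt : Subgroup.centralizer ({t} : Set G) < K)
    (hK : Cfsg.generalizedFittingSubgroup ↥K = Cfsg.fittingSubgroup ↥K) :
    ∃ v : G, orderOf v = 2 ∧ t * v = v * t ∧ v ≠ t ∧ four t v ≤ K ∧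
      ∀ k ∈ K, ∀ x ∈ four t v, k * x * k⁻¹ ∈ four t v := by
  haveI : Fact (Nat.Prime 2) := ⟨Nat.prime_two⟩
  have htK : t ∈ K := hlt.le (mem_cent_self t)
  obtain ⟨S, htS, hSc⟩ := hs.exists_sylow ht
  have hSC : (S : Subgroup G) ≤ Subgroup.centralizer ({t} : Set G) := fun s h => mem_cent.2 (hSc s h)
  have hSK : (S : Subgroup G) ≤ K := hSC.trans hlt.le
  -- `t` centralizes the odd part of `F(K)`
  have hodd : ∀ p : ℕ, p.Prime → p ≠ 2 → ∀ y ∈ OO p K, t * y = y * t := fun p hp hp2 y hy =>
    (mem_cent.1 (noMoved G hs t (OO p K) ht (OO_odd hp hp2 K)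
      (fun c hc => mem_normalizer_OO (hlt.le hc)) hy)).symm
  have hne : OO 2 K ≠ ⊥ := fun e => by
    have hF : ∀ y ∈ FF K, t * y = y * t := comm_FF_of_OO fun r hr y hy => by
      by_cases h2 : r = 2
      · subst h2
        rw [e, Subgroup.mem_bot] at hy
        rw [hy, mul_one, one_mul]
      · exact hodd r hr h2 y hy
    refine not_mem_of_odd (FF_odd_of_two e) ht ⟨⟨t, htK⟩, ?_, rfl⟩
    show (⟨t, htK⟩ : K) ∈ Cfsg.fittingSubgroup ↥K
    rw [← hK]
    refine CfsgLib.centralizer_generalizedFitting_le (fun y hy => Subtype.ext ?_)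
    have hy' : y ∈ Cfsg.fittingSubgroup ↥K := hK ▸ hy
    exact (hF y ⟨y, hy', rfl⟩).symm
  -- `O₂(K)` lies in `S`
  set N := OO 2 K with hN
  have hNS : N ≤ (S : Subgroup G) := by
    rintro _ ⟨x, hx, rfl⟩
    exact (Subgroup.mem_subgroupOf.1 (CfsgLib.pCore_le_sylow (S.subtype hSK) hx))
  have hNK : ∀ k ∈ K, ∀ x ∈ N, k * x * k⁻¹ ∈ N := fun k hk x hx => conj_OO hk hx
  have hN2 : IsPGroup 2 N := S.2.to_le hNS
  obtain ⟨z, hzN, hz, hzc⟩ := CfsgLib.Comp.exists_central_in_normal (p := 2) S.2 hNS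
    (fun s hs' => Subgroup.mem_normalizer_fintype fun x hx => hNK s (hSK hs') x hx) hne
  -- a second involution
  obtain ⟨u, huN, hu, huz⟩ : ∃ u ∈ N, orderOf u = 2 ∧ u ≠ z := by
    by_contra hno
    push Not at hno
    obtain ⟨g, hg⟩ := hs.exists_conj t z ht hz
    have hle : K ≤ Subgroup.centralizer ({z} : Set G) := fun k hk => by
      refine mem_cent.2 (mul_inv_eq_iff_eq_mul.1 ?_)
      exact hno _ (hNK k hk z hzN) (by rw [orderOf_conj, hz])
    have h1 := Subgroup.card_le_of_le hle
    rw [← hg, centralizer_cj, card_cj] at h1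
    exact hlt.ne (Subgroup.eq_of_le_of_card_ge hlt.le h1)
  have hzu : z * u = u * z := (hzc u (hNS huN)).symm
  -- `t` lies in `O₂(K)`
  have htz : t * z = z * t := (hzc t htS).symm ▸ rfl
  have htu : t * u = u * t := (hSc u (hNS huN)).symm
  obtain ⟨v, hvN, hv, hvt, htN⟩ : ∃ v ∈ N, orderOf v = 2 ∧ v ≠ t ∧ t ∈ N := by
    rcases invol_cases hs.dihedral hz hu hzu huz ht htz htu with e | e | e
    · exact ⟨u, huN, hu, by rw [e]; exact huz, by rw [e]; exact hzN⟩
    · exact ⟨z, hzN, hz, by rw [e]; exact huz.symm, by rw [e]; exact huN⟩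
    · refine ⟨z, hzN, hz, fun h => ne_one_of_invol hu ?_, by rw [e]; exact mul_mem hzN huN⟩
      rw [e] at h
      exact mul_eq_left.1 h.symm
  have hc : t * v = v * t := (hSc v (hNS hvN)).symm
  have hVN : four t v ≤ N := four_le htN hvN
  refine ⟨v, hv, hc, hvt, hVN.trans OO_le, fun k hk x hx => ?_⟩
  -- `O₂(K)` is the four group
  by_cases hcv : ∀ p ∈ N, p * v = v * p
  · have e : four t v = N := Subgroup.eq_of_le_of_card_ge hVN (by
      rw [(isKleinFour_four ht hv hc hvt).card_four]
      exact card_le_four hs ht hv hc hvt hN2 (fun p hp => hSc p (hNS hp)) hcv)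
    rw [e] at hx ⊢
    exact hNK k hk x hx
  · exfalso
    push Not at hcv
    obtain ⟨p₀, hp₀, hp₀v⟩ := hcv
    refine hlt.not_ge fun k hk => mem_cent.2 (mul_inv_eq_iff_eq_mul.1 ?_)
    have hcent : ∀ p ∈ N, p * (k * t * k⁻¹) = k * t * k⁻¹ * p := fun p hp => by
      have h := hSc (k⁻¹ * p * k) (hNS (by simpa using hNK k⁻¹ (inv_mem hk) p hp))
      calc p * (k * t * k⁻¹) = k * (k⁻¹ * p * k * t) * k⁻¹ := by group
        _ = k * (t * (k⁻¹ * p * k)) * k⁻¹ := by rw [h]
        _ = k * t * k⁻¹ * p := by group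
    have hw : orderOf (k * t * k⁻¹) = 2 := by rw [orderOf_conj, ht]
    rcases invol_cases hs.dihedral ht hv hc hvt hw (hcent t htN).symm (hcent v hvN).symm with e | e | e
    · exact e
    · exact absurd (e ▸ hcent p₀ hp₀) hp₀v
    · exfalso
      have h1 := e ▸ hcent p₀ hp₀
      refine hp₀v (mul_left_cancel (a := t) ?_)
      calc t * (p₀ * v) = p₀ * (t * v) := by rw [← mul_assoc, ← hSc p₀ (hNS hp₀), mul_assoc]
        _ = t * (v * p₀) := by rw [h1, mul_assoc]

/-- The Sylow 2-subgroups have order at most eight. -/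
theorem sylow_le_eight {t v : G} (ht : orderOf t = 2) (hv : orderOf v = 2) (hc : t * v = v * t) (hne : v ≠ t)
    (S : Sylow 2 G) (hSc : ∀ s ∈ (S : Subgroup G), s * t = t * s)
    (hnorm : ∀ c, c * t = t * c → ∀ x ∈ four t v, c * x * c⁻¹ ∈ four t v) :
    Nat.card (S : Subgroup G) ≤ 8 := by
  classical
  have h1 : ((Subgroup.centralizer ({v} : Set G)).subgroupOf (S : Subgroup G)).index ≤ 2 := by
    refine (card_le_orbit (S : Subgroup G) v {v, t * v} fun s hs' => ?_).trans Finset.card_le_two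
    rcases (mem_four ht hv hc).1 (hnorm s (hSc s hs') v (right_mem_four t v)) with e | e | e | e
    · exact absurd (conj_eq_one_iff.1 e) (ne_one_of_invol hv)
    · refine absurd ?_ hne
      have e' : s * t * s⁻¹ = t := mul_inv_eq_iff_eq_mul.2 (hSc s hs')
      exact mul_left_cancel (mul_right_cancel (e.trans e'.symm))
    · simp [e]
    · simp [e]
  have h2 : Nat.card ((Subgroup.centralizer ({v} : Set G)).subgroupOf (S : Subgroup G)) ≤ 4 := by
    rw [← Subgroup.card_map_of_injective (Subgroup.subtype_injective (S : Subgroup G))]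
    refine card_le_four hs ht hv hc hne (S.2.to_le (Subgroup.map_subtype_le _)) ?_ ?_
    · rintro _ ⟨p, -, rfl⟩
      exact hSc p p.2
    · rintro _ ⟨p, hp, rfl⟩
      exact mem_cent.1 hp
  rw [← Subgroup.card_mul_index ((Subgroup.centralizer ({v} : Set G)).subgroupOf (S : Subgroup G))]
  exact Nat.mul_le_mul h2 h1

end

end CfsgLib.BG
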